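import Cfsg.Agent.Omega.NO3S.EMany.LowGen
import Cfsg.Agent.Omega.ML.Ex.Two

/-!
# EXACT + LOW: from the general input `InpG` to `SysT` of helper585 (`Omega/ML/Ex/Two.lean`)

* **`SysE.sysT`** : the output of the machine is `SysT` (with `O(H) = 1`);
* **`InpG.exists_sysT`**;  **`InpG.false_of`** : contradiction from (E1)-(E4) of EXT.
-/

set_option autoImplicit false

namespace Cfsg.Agent.Omega.NO3S.EMany.Low

open Subgroup Cfsg Cfsg.Agent.ZN Cfsg.Agent.ClassTwoFusion.Quad Cfsg.Agent.Omega.ML.MinFrame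
open Cfsg.Agent.Omega.ML.Final
open Cfsg.Agent.Omega.ML.Ex.Two (SysT RedT ExitN LieT UThreeT)

universe u v

section

variable {H : Type u} [Group H] [Finite H] {M : Type v} [Group M] [MulDistribMulAction H M] {T A : Subgroup H}
  {x y : M}

omit [Finite H] in
/-- an output of the machine with `O(H) = 1` is `SysT` -/
theorem SysW.sysT (h : SysW T A x y) (ho : ∀ N : Subgroup H, N.Normal → Odd (Nat.card N) → N = ⊥) :
    SysT H M T A x y where
  x1 := h.x1
  y1 := h.y1
  tx := h.tx
  ty := h.ty
  mv := by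
    obtain ⟨P, hP, hx, hy⟩ := h.mov
    exact ⟨P, hP.le, hy, hx⟩
  sq := h.sq
  faith := h.faith
  irr := h.irr
  two := h.two
  syl := h.syl
  AT := h.AT
  el := h.el
  four := h.four
  exact := h.exact
  atom := h.atom
  low := h.low
  nmax := h.nmax
  odd := ho
  KH := h.KH

/-- **the output of the machine is `SysT`** -/
theorem SysE.sysT (h : SysE T A x y) : SysT H M T A x y := h.toSysW.sysT fun _ hN hNo => h.odd hN hNo

end

/-- **the general input gives `SysT`** -/
theorem InpG.exists_sysT {X : Type u} [Group X] [Finite X] {M : Type v} [Group M] [Finite M]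
    [MulDistribMulAction X M] {T F : Subgroup X} {S : Set M} (i : InpG T F S) (hM : MLK.{u, v}) :
    ∃ (H : Type u) (_ : Group H) (_ : Finite H) (N : Type v) (_ : Group N) (_ : Finite N)
      (_ : MulDistribMulAction H N) (T' A' : Subgroup H) (x' y' : N), SysT H N T' A' x' y' := by
  obtain ⟨H, i1, i2, N, i3, i4, i5, T', A', x', y', h⟩ := i.exists_sysE hM
  exact ⟨H, i1, i2, N, i3, i4, i5, T', A', x', y', h.sysT⟩

/-- **the general input is impossible** (from the pieces (E1)-(E4) of EXT) -/
theorem InpG.false_of {X : Type u} [Group X] [Finite X] {M : Type v} [Group M] [Finite M]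
    [MulDistribMulAction X M] {T F : Subgroup X} {S : Set M} (i : InpG T F S) (hM : MLK.{u, v})
    (h1 : RedT.{u, v}) (h2 : ExitN.{u, v}) (h3 : LieT.{u, v}) (h4 : UThreeT.{u, v}) : False := by
  obtain ⟨H, i1, i2, N, i3, i4, i5, T', A', x', y', h⟩ := i.exists_sysT hM
  exact h.false_of h1 h2 h3 h4

end Cfsg.Agent.Omega.NO3S.EMany.Low
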