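import Cfsg.Agent.Omega.OM.UniPlus

/-!
# NO-3S, case (E), `k ≥ 3`, all `q`: step (4a) of bb #20764 (helper834), for a natural block `L` over `B`

`h : NB B L V Z q` with `[v, B] = Z` for `v ∈ V - Z` (`Rt`); `R` a group normalising `V`, normalised by `L`.

* `sup_eq` : `V = Z × Z^x`;  `trL` : `L` is transitive on `V - 1`;
* `tr_of` : if `R` moves an element of `Z` out of `Z`, then `R` is transitive on `V - 1`;
* `triv` : otherwise every 2-element of `R` centralises `V`;  `alt` : **(4a)**.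
-/

set_option autoImplicit false

namespace Cfsg.Agent.Omega.NO3S.EMany.AltQ

open Subgroup Cfsg Cfsg.Agent.ZN.ChoiceBase
open Cfsg.Agent.Omega.OM.UniPlus
open Cfsg.Agent.Omega.SQ1.Bau (mem_sup_comm card_sup_comm)

universe u

variable {G : Type u} [Group G]

/-- `[v, B] = Z` for `v ∈ V - Z`. -/
def Rt (B V Z : Subgroup G) : Prop := ∀ v ∈ V, v ∉ Z → ∀ z ∈ Z, ∃ b ∈ B, b * v * b⁻¹ * v⁻¹ = z

variable [Finite G] {B L V Z : Subgroup G} {q : ℕ} (h : NB B L V Z q)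
include h

/-- `V = Z × Z^x` -/
theorem sup_eq {x : G} (hx : x ∈ L) (hne : cj x Z ≠ Z) : Z ⊔ cj x Z = V := by
  have hcc := card_sup_comm (A := Z) (B := cj x Z) fun a ha b hb => h.comm (h.ZV ha) (h.cjV hx hb)
  have h1 : Z ⊓ cj x Z = ⊥ := by rw [inf_comm]; exact h.tri' hx hne
  rw [h1, Subgroup.card_bot, mul_one, card_cj, h.cardZ] at hcc
  refine Subgroup.eq_of_le_of_card_ge (sup_le h.ZV (h.cjV hx)) ?_
  rw [hcc, h.card, h.cardZ]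

theorem exists_ne : ∃ k ∈ L, cj k Z ≠ Z := by
  obtain ⟨k, hk, hk1, hk2⟩ := h.spl
  refine ⟨k, hk, fun e => ?_⟩
  rw [e, inf_idem] at hk2
  have h3 := h.cardZ
  rw [hk2, Subgroup.card_bot] at h3
  have := h.one
  omega

/-- `L` is transitive on `V - 1`. -/
theorem trL (hr : Rt B V Z) {v z : G} (hv : v ∈ V) (hv1 : v ≠ 1) (hz : z ∈ Z) (hz1 : z ≠ 1) :
    ∃ l ∈ L, l * z * l⁻¹ = v := by
  by_cases hvZ : v ∈ Z
  · obtain ⟨x, hx, -, e⟩ := h.tor' hz hz1 hvZ hv1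
    exact ⟨x, hx, e⟩
  obtain ⟨k, hk, hk1⟩ := exists_ne h
  have hcomm : ∀ a ∈ Z, ∀ b ∈ cj k Z, a * b = b * a := fun a ha b hb => h.comm (h.ZV ha) (h.cjV hk hb)
  have hv' := hv
  rw [← sup_eq h hk hk1] at hv'
  obtain ⟨a, ha, y, hy, rfl⟩ := mem_sup_comm hcomm hv'
  have hyZ : y ∉ Z := fun hc => hvZ (mul_mem ha hc)
  obtain ⟨z₁, hz₁, rfl⟩ := hy
  change z₁ ∈ Z at hz₁
  change k * z₁ * k⁻¹ ∉ Z at hyZ
  have hz₁1 : z₁ ≠ 1 := by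
    rintro rfl
    exact hyZ (by simp)
  obtain ⟨x, hx, -, e⟩ := h.tor' hz hz1 hz₁ hz₁1
  obtain ⟨b, hb, e2⟩ := hr (k * z₁ * k⁻¹) (h.nV k hk z₁ (h.ZV hz₁)) hyZ a ha
  refine ⟨b * k * x, mul_mem (mul_mem (h.BL hb) hk) hx, ?_⟩
  show b * k * x * z * (b * k * x)⁻¹ = a * (k * z₁ * k⁻¹)
  calc b * k * x * z * (b * k * x)⁻¹ = b * (k * (x * z * x⁻¹) * k⁻¹) * b⁻¹ := by group
    _ = b * (k * z₁ * k⁻¹) * b⁻¹ * (k * z₁ * k⁻¹)⁻¹ * (k * z₁ * k⁻¹) := by rw [e]; group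
    _ = a * (k * z₁ * k⁻¹) := by rw [e2]

variable {R : Subgroup G} (hRL : ∀ l ∈ L, ∀ r ∈ R, l * r * l⁻¹ ∈ R) (hRV : ∀ r ∈ R, ∀ v ∈ V, r * v * r⁻¹ ∈ V)
include hRL hRV

/-- If `R` moves an element of `Z` out of `Z`, then `R` is transitive on `V - 1`. -/
theorem tr_of (hr : Rt B V Z) {r₀ z₀ : G} (hr₀ : r₀ ∈ R) (hz₀ : z₀ ∈ Z) (hne : r₀ * z₀ * r₀⁻¹ ∉ Z) {z v : G}
    (hz : z ∈ Z) (hz1 : z ≠ 1) (hv : v ∈ V) (hv1 : v ≠ 1) : ∃ r ∈ R, r * z * r⁻¹ = v := by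
  -- `v ~ w`
  let E : G → G → Prop := fun v w => ∃ r ∈ R, r * v * r⁻¹ = w
  have hsym : ∀ {v w}, E v w → E w v := by
    rintro v w ⟨r, hr, rfl⟩
    exact ⟨r⁻¹, inv_mem hr, by group⟩
  have htrans : ∀ {v w x}, E v w → E w x → E v x := by
    rintro v w x ⟨r, hr, rfl⟩ ⟨t, ht, rfl⟩
    exact ⟨t * r, mul_mem ht hr, by group⟩
  have hL : ∀ {v w l}, l ∈ L → E v w → E (l * v * l⁻¹) (l * w * l⁻¹) := by
    rintro v w l hl ⟨r, hr, rfl⟩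
    exact ⟨l * r * l⁻¹, hRL l hl r hr, by group⟩
  set v₀ := r₀ * z₀ * r₀⁻¹ with hv₀
  have hv₀V : v₀ ∈ V := hRV r₀ hr₀ z₀ (h.ZV hz₀)
  have hz₀1 : z₀ ≠ 1 := by
    rintro rfl
    exact hne (by rw [hv₀]; simp)
  have hE0 : E z₀ v₀ := ⟨r₀, hr₀, rfl⟩
  -- the coset of `v₀`
  have hcos : ∀ z ∈ Z, E z₀ (z * v₀) := by
    intro z hz
    obtain ⟨b, hb, e⟩ := hr v₀ hv₀V hne z hz
    have h1 := hL (h.BL hb) hE0
    have e1 : b * z₀ * b⁻¹ = z₀ := by rw [h.cZ b hb z₀ hz₀]; group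
    have e2 : b * v₀ * b⁻¹ = z * v₀ := by rw [← e]; group
    rwa [e1, e2] at h1
  -- the class meets every `cj x Z`
  have hmeet : ∀ x ∈ L, ∃ y ∈ cj x Z, E z₀ y := by
    intro x hx
    by_cases hxZ : cj x Z = Z
    · exact ⟨z₀, by rw [hxZ]; exact hz₀, ⟨1, one_mem _, by group⟩⟩
    have hcomm : ∀ a ∈ Z, ∀ b ∈ cj x Z, a * b = b * a := fun a ha b hb => h.comm (h.ZV ha) (h.cjV hx hb)
    have hv' := hv₀V
    rw [← sup_eq h hx hxZ] at hv'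
    obtain ⟨a, ha, y, hy, e⟩ := mem_sup_comm hcomm hv'
    refine ⟨y, hy, ?_⟩
    have h1 := hcos a⁻¹ (inv_mem ha)
    rw [e, inv_mul_cancel_left] at h1
    exact h1
  -- the stabiliser of the class
  have hall : ∀ l ∈ L, E z₀ (l * z₀ * l⁻¹) := by
    let X : Subgroup G :=
      { carrier := {l | l ∈ L ∧ E z₀ (l * z₀ * l⁻¹)}
        one_mem' := ⟨one_mem _, ⟨1, one_mem _, by group⟩⟩
        mul_mem' := by
          rintro a b ⟨ha, ha1⟩ ⟨hb, hb1⟩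
          refine ⟨mul_mem ha hb, ?_⟩
          have h1 := hL ha hb1
          have e : a * (b * z₀ * b⁻¹) * a⁻¹ = a * b * z₀ * (a * b)⁻¹ := by group
          rw [e] at h1
          exact htrans ha1 h1
        inv_mem' := by
          rintro a ⟨ha, ha1⟩
          refine ⟨inv_mem ha, ?_⟩
          have h1 := hL (inv_mem ha) ha1
          have e : a⁻¹ * (a * z₀ * a⁻¹) * a⁻¹⁻¹ = z₀ := by group
          rw [e] at h1
          exact hsym h1 }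
    have hX : L ≤ X := by
      refine h.gen.trans (iSup_le fun x b hb => ?_)
      obtain ⟨y, hy, hyE⟩ := hmeet x x.2
      have hbL : b ∈ L := cjB_le h x.2 hb
      refine ⟨hbL, ?_⟩
      have h1 := hL hbL hyE
      have e : b * y * b⁻¹ = y := by rw [h.cZ'' hb hy]; group
      rw [e] at h1
      exact htrans hyE (hsym h1)
    exact fun l hl => (hX hl).2
  have key : ∀ {v : G}, v ∈ V → v ≠ 1 → E z₀ v := by
    intro v hv hv1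
    obtain ⟨l, hl, rfl⟩ := trL h hr hv hv1 hz₀ hz₀1
    exact hall l hl
  exact htrans (hsym (key (h.ZV hz) hz1)) (key hv hv1)

/-- If `R` normalises `Z`, then `[R, B^x]` centralises `V`. -/
theorem comm_triv (hRZ : ∀ r ∈ R, ∀ z ∈ Z, r * z * r⁻¹ ∈ Z) {x b r : G} (hx : x ∈ L) (hb : b ∈ cj x B)
    (hr : r ∈ R) {v : G} (hv : v ∈ V) : b * (r * v * r⁻¹) * b⁻¹ = r * (b * v * b⁻¹) * r⁻¹ := by
  -- first for `x = 1`
  have key : ∀ b ∈ B, ∀ r ∈ R, ∀ v ∈ V, b * (r * v * r⁻¹) * b⁻¹ = r * (b * v * b⁻¹) * r⁻¹ := by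
    intro b hb r hr
    set g := r⁻¹ * b⁻¹ * r * b with hg
    have hgR : g ∈ R := by
      have h1 := hRL b⁻¹ (inv_mem (h.BL hb)) r hr
      have e : g = r⁻¹ * (b⁻¹ * r * b⁻¹⁻¹) := by rw [hg]; group
      rw [e]
      exact mul_mem (inv_mem hr) h1
    -- `[v, g] ∈ Z`
    have h1 : ∀ v ∈ V, g * v * g⁻¹ * v⁻¹ ∈ Z := by
      intro v hv
      obtain ⟨z₁, hz₁, e1⟩ : ∃ z₁ ∈ Z, b * v * b⁻¹ = z₁ * v := ⟨_, h.com b hb v hv, by group⟩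
      have hrv : r * v * r⁻¹ ∈ V := hRV r hr v hv
      obtain ⟨z₂, hz₂, e2⟩ : ∃ z₂ ∈ Z, b⁻¹ * (r * v * r⁻¹) * b⁻¹⁻¹ = z₂ * (r * v * r⁻¹) :=
        ⟨_, h.com b⁻¹ (inv_mem hb) _ hrv, by group⟩
      have hz₃ : r * z₁ * r⁻¹ ∈ Z := hRZ r hr z₁ hz₁
      have hz₄ : b⁻¹ * (r * z₁ * r⁻¹) * b⁻¹⁻¹ = r * z₁ * r⁻¹ := by
        rw [h.cZ b⁻¹ (inv_mem hb) _ hz₃]; group
      have e : g * v * g⁻¹ = r⁻¹ * (r * z₁ * r⁻¹ * z₂) * r⁻¹⁻¹ * v := by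
        calc g * v * g⁻¹ = r⁻¹ * (b⁻¹ * (r * (b * v * b⁻¹) * r⁻¹) * b⁻¹⁻¹) * r⁻¹⁻¹ := by rw [hg]; group
          _ = r⁻¹ * ((b⁻¹ * (r * z₁ * r⁻¹) * b⁻¹⁻¹) * (b⁻¹ * (r * v * r⁻¹) * b⁻¹⁻¹)) * r⁻¹⁻¹ := by rw [e1]; group
          _ = r⁻¹ * (r * z₁ * r⁻¹ * (z₂ * (r * v * r⁻¹))) * r⁻¹⁻¹ := by rw [hz₄, e2]
          _ = _ := by group
      rw [e, mul_inv_cancel_right]
      exact hRZ r⁻¹ (inv_mem hr) _ (mul_mem hz₃ hz₂)
    -- `g` centralises `Z`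
    have h2 : ∀ z ∈ Z, g * z * g⁻¹ = z := by
      intro z hz
      have e1 : b * z * b⁻¹ = z := by rw [h.cZ b hb z hz]; group
      have hz₃ : r * z * r⁻¹ ∈ Z := hRZ r hr z hz
      have e2 : b⁻¹ * (r * z * r⁻¹) * b⁻¹⁻¹ = r * z * r⁻¹ := by rw [h.cZ b⁻¹ (inv_mem hb) _ hz₃]; group
      calc g * z * g⁻¹ = r⁻¹ * (b⁻¹ * (r * (b * z * b⁻¹) * r⁻¹) * b⁻¹⁻¹) * r⁻¹⁻¹ := by rw [hg]; group
        _ = r⁻¹ * (r * z * r⁻¹) * r⁻¹⁻¹ := by rw [e1, e2]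
        _ = z := by group
    -- and `cj k Z`
    obtain ⟨k, hk, hk1⟩ := exists_ne h
    have h3 : ∀ y ∈ cj k Z, g * y * g⁻¹ = y := by
      intro y hy
      have h4 : g * y * g⁻¹ ∈ cj k Z := by
        rw [mem_cj] at hy ⊢
        have h5 := hRZ _ (hRL k⁻¹ (inv_mem hk) g hgR) _ hy
        have e : k⁻¹ * g * k⁻¹⁻¹ * (k⁻¹ * y * k) * (k⁻¹ * g * k⁻¹⁻¹)⁻¹ = k⁻¹ * (g * y * g⁻¹) * k := by group
        rwa [e] at h5
      have h5 : g * y * g⁻¹ * y⁻¹ ∈ cj k Z ⊓ Z := mem_inf.2 ⟨mul_mem h4 (inv_mem hy), h1 y (h.cjV hk hy)⟩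
      rw [h.tri' hk hk1, mem_bot] at h5
      exact mul_inv_eq_one.1 h5
    intro v hv
    have h6 : g * v * g⁻¹ = v := by
      rw [← sup_eq h hk hk1] at hv
      obtain ⟨a, ha, y, hy, rfl⟩ := mem_sup_comm (fun a ha b hb => h.comm (h.ZV ha) (h.cjV hk hb)) hv
      calc g * (a * y) * g⁻¹ = g * a * g⁻¹ * (g * y * g⁻¹) := by group
        _ = a * y := by rw [h2 a ha, h3 y hy]
    calc b * (r * v * r⁻¹) * b⁻¹ = b * (r * (g * v * g⁻¹) * r⁻¹) * b⁻¹ := by rw [h6]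
      _ = r * (b * v * b⁻¹) * r⁻¹ := by rw [hg]; group
  rw [mem_cj] at hb
  have h1 := key _ hb (x⁻¹ * r * x) (by have := hRL x⁻¹ (inv_mem hx) r hr; rwa [inv_inv] at this) (x⁻¹ * v * x)
    (h.toFB.nV' hx hv)
  have h2 := congrArg (fun t => x * t * x⁻¹) h1
  calc b * (r * v * r⁻¹) * b⁻¹ = x * (x⁻¹ * b * x * (x⁻¹ * r * x * (x⁻¹ * v * x) * (x⁻¹ * r * x)⁻¹) *
        (x⁻¹ * b * x)⁻¹) * x⁻¹ := by group
    _ = _ := h2
    _ = _ := by group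

/-- If `R` normalises `Z`, then every 2-element of `R` centralises `V`. -/
theorem triv (hr : Rt B V Z) (hRZ : ∀ r ∈ R, ∀ z ∈ Z, r * z * r⁻¹ ∈ Z) {r : G} (hrR : r ∈ R) {n : ℕ}
    (hn : r ^ 2 ^ n = 1) {v : G} (hv : v ∈ V) : r * v * r⁻¹ = v := by
  have : Fact (Nat.Prime 2) := ⟨Nat.prime_two⟩
  -- `X` : the elements of `L` commuting with `r` on `V`
  let X : Subgroup G :=
    { carrier := {l | l ∈ L ∧ ∀ v ∈ V, l * (r * v * r⁻¹) * l⁻¹ = r * (l * v * l⁻¹) * r⁻¹}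
      one_mem' := ⟨one_mem _, fun v _ => by group⟩
      mul_mem' := by
        rintro a b ⟨ha, ha1⟩ ⟨hb, hb1⟩
        refine ⟨mul_mem ha hb, fun v hv => ?_⟩
        calc a * b * (r * v * r⁻¹) * (a * b)⁻¹ = a * (b * (r * v * r⁻¹) * b⁻¹) * a⁻¹ := by group
          _ = a * (r * (b * v * b⁻¹) * r⁻¹) * a⁻¹ := by rw [hb1 v hv]
          _ = r * (a * (b * v * b⁻¹) * a⁻¹) * r⁻¹ := ha1 _ (h.nV b hb v hv)
          _ = _ := by group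
      inv_mem' := by
        rintro a ⟨ha, ha1⟩
        refine ⟨inv_mem ha, fun v hv => ?_⟩
        have h1 := ha1 _ (h.nV a⁻¹ (inv_mem ha) v hv)
        have e : a * (a⁻¹ * v * a⁻¹⁻¹) * a⁻¹ = v := by group
        rw [e] at h1
        rw [← h1]
        group }
  have hX : L ≤ X := h.gen.trans (iSup_le fun x b hb => ⟨cjB_le h x.2 hb,
    fun v hv => comm_triv h hRL hRV hRZ x.2 hb hrR hv⟩)
  -- a fixed point
  obtain ⟨w, hw, hw1, hfix⟩ : ∃ w ∈ V, w ≠ 1 ∧ r * w * r⁻¹ = w := by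
    let act : MulAction (zpowers r) V :=
      { smul := fun x v => ⟨(x : G) * v * (x : G)⁻¹, hRV x ((zpowers_le.2 hrR) x.2) v v.2⟩
        one_smul := fun v => Subtype.ext (by show (1 : G) * v * (1 : G)⁻¹ = v; group)
        mul_smul := fun x y v => Subtype.ext (by
          show ((x : G) * y) * v * ((x : G) * y)⁻¹ = x * (y * v * (y : G)⁻¹) * (x : G)⁻¹; group) }
    have hP : IsPGroup 2 (zpowers r) := by
      intro g
      refine ⟨n, ?_⟩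
      obtain ⟨g, hg⟩ := g
      obtain ⟨k, rfl⟩ := mem_zpowers_iff.1 hg
      apply Subtype.ext
      show (r ^ k) ^ 2 ^ n = 1
      rw [← zpow_natCast, ← zpow_mul, mul_comm, zpow_mul, zpow_natCast, hn, one_zpow]
    have h2 : 2 ∣ Nat.card V := by
      have hV2 : IsPGroup 2 V := fun x => ⟨1, Subtype.ext (by
        have := Cfsg.Agent.Omega.SQ1.Bau.elem_sq h.el x x.2
        simpa using this)⟩
      obtain ⟨m, hm⟩ := IsPGroup.iff_card.1 hV2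
      rcases Nat.eq_zero_or_pos m with h0 | h0
      · rw [h0, pow_zero, h.card, h.cardZ] at hm
        have h1 := h.one
        nlinarith
      · rw [hm]; exact dvd_pow_self 2 h0.ne'
    obtain ⟨w, hw, hw1⟩ := hP.exists_fixed_point_of_prime_dvd_card_of_fixed_point V h2 (a := (1 : V))
      (fun x => Subtype.ext (by show (x : G) * 1 * (x : G)⁻¹ = 1; group))
    exact ⟨w, w.2, fun h => hw1 (Subtype.ext h.symm),
      congrArg Subtype.val (hw ⟨r, mem_zpowers r⟩)⟩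
  obtain ⟨z, hz, hz1⟩ : ∃ z ∈ Z, z ≠ 1 := by
    by_contra hcon
    push Not at hcon
    have h3 : Z = ⊥ := (eq_bot_iff_forall _).2 hcon
    have h4 := h.cardZ
    rw [h3, Subgroup.card_bot] at h4
    have := h.one
    omega
  by_cases hv1 : v = 1
  · rw [hv1]; group
  obtain ⟨l, hl, e⟩ := trL h hr hw hw1 hz hz1
  obtain ⟨l', hl', e'⟩ := trL h hr hv hv1 hz hz1
  have e2 : v = l' * l⁻¹ * w * (l' * l⁻¹)⁻¹ := by rw [← e', ← e]; group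
  have h1 := (hX (mul_mem hl' (inv_mem hl))).2 w hw
  rw [hfix] at h1
  rw [e2, ← h1]

/-- **(4a)** -/
theorem alt (hr : Rt B V Z) :
    (∀ z ∈ Z, z ≠ 1 → ∀ v ∈ V, v ≠ 1 → ∃ r ∈ R, r * z * r⁻¹ = v) ∨
      ((∀ r ∈ R, ∀ z ∈ Z, r * z * r⁻¹ ∈ Z) ∧ ∀ r ∈ R, ∀ n : ℕ, r ^ 2 ^ n = 1 → ∀ v ∈ V, r * v * r⁻¹ = v) := by
  by_cases hcon : ∀ r ∈ R, ∀ z ∈ Z, r * z * r⁻¹ ∈ Z
  · exact Or.inr ⟨hcon, fun r hrR n hn v hv => triv h hRL hRV hr hcon hrR hn hv⟩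
  · push Not at hcon
    obtain ⟨r₀, hr₀, z₀, hz₀, hne⟩ := hcon
    exact Or.inl fun z hz hz1 v hv hv1 => tr_of h hRL hRV hr hr₀ hz₀ hne hz hz1 hv hv1

end Cfsg.Agent.Omega.NO3S.EMany.AltQ
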