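import Cfsg.Agent.Omega.NO3S.EThree.FrameGB
import Cfsg.Agent.Omega.NO3S.EMany.AltQ
import Cfsg.Agent.Omega.ML.MinOut
import Cfsg.Agent.Omega.OM.Dich

/-!
# NO-3S, several natural factors, case (E), all `q`: step (4) of bb #20764 (helper834), over `(B, Z_J)`

`i`, `j` partners (`Pa`), `T = N_S(Z i) = N_S(Z j)`, `b ∈ Z i`, `c ∈ Z j` fixed by `T`, `M = C(b) ⊓ C(c)`,
`M ≤ H ≤ C(b)`, `L j ≤ H`; `R ≤ H` a normal subgroup of `H` with a 2-element moving `W j`.
Then `C(b) ⊓ N(W j) ≤ R ⊔ M`.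

* `BlkQ`, `DichQ` : the input: every minimal parabolic `Y` over `T` in `C(b)` normalises `Z_J`, or `O²(Y)` centralises
  `Ω₁Z(O₂(Y))`, or `Y` is generated by `T` and a block;
* `syl_b` : `T` is a Sylow 2-subgroup of `C(b)`;  `axb` : the `A × B`-lemma inside `G`;
* `four`, `four_sup`, `four_mul` : **(4)**.
-/

set_option autoImplicit false
set_option linter.unusedVariables false
set_option linter.unusedSectionVars false

namespace Cfsg.Agent.Omega.NO3S.EMany.FourQ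

open Subgroup Cfsg Cfsg.Agent.ZN.ChoiceBase
open Cfsg.Agent.ZN (zc zl o2)
open Cfsg.Agent.ZN.ChoiceSit (Syl exists_syl syl_conj isPGroup_o2 le_o2 le_normalizer_o2 o2_le_syl syl_not_dvd)
open Cfsg.Agent.MinSimple.MinParabolic (IsMinPar)
open Cfsg.Agent.MinSimple.VModule (oddGen)
open Cfsg.Agent.Omega.OM.UniPlus (NB)
open Cfsg.Agent.Omega.NO3S.EThree.Frame
open Cfsg.Agent.Omega.NO3S.EMany.AltQ

universe u

variable {G : Type u} [Group G]

/-- `L'` is a block at `m`: it centralises `ZJ ⊓ C m`, normalises `W m`, and does not normalise `Z m`. -/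
structure BlkQ {ι : Type} (ZJ : Subgroup G) (W Z C : ι → Subgroup G) (m : ι) (L' : Subgroup G) : Prop where
  cen : ∀ z ∈ ZJ, z ∈ C m → ∀ l' ∈ L', l' * z = z * l'
  nW : L' ≤ normalizer (W m : Set G)
  nZ : ¬ L' ≤ normalizer (Z m : Set G)

/-- Minimal parabolics over `T` in `C(b)`. -/
def DichQ {ι : Type} (ZJ : Subgroup G) (W Z C : ι → Subgroup G) (T : Subgroup G) (b : G) : Prop :=
  ∀ Y : Subgroup G, IsMinPar T Y → Y ≤ centralizer ({b} : Set G) →
    Y ≤ normalizer (ZJ : Set G) ∨ oddGen Y ≤ centralizer (zc (o2 Y) : Set G) ∨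
      ∃ m L', L' ≤ Y ∧ Y ≤ L' ⊔ T ∧ BlkQ ZJ W Z C m L'

/-- **The `A × B`-lemma**: `W` elementary abelian, `O` a 2-group acting on `W`, `r` of odd order commuting with `O` on
`W` and centralising `C_W(O)`. -/
theorem axb [Finite G] {W O : Subgroup G} (sq : ∀ w ∈ W, w ^ 2 = 1) (hO : IsPGroup 2 O)
    (hOW : O ≤ normalizer (W : Set G)) {r : G} (hr : r ∈ normalizer (W : Set G)) (hodd : Odd (orderOf r))
    (hcom : ∀ u ∈ O, ∀ w ∈ W, u * (r * w * r⁻¹) * u⁻¹ = r * (u * w * u⁻¹) * r⁻¹)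
    (hc : ∀ w ∈ W, (∀ u ∈ O, u * w * u⁻¹ = w) → r * w * r⁻¹ = w) {w : G} (hw : w ∈ W) : r * w * r⁻¹ = w := by
  let f := W.normalizerMonoidHom
  let e : MulAut W := f ⟨r, hr⟩
  have hf : ∀ (x : G) (hx : x ∈ normalizer (W : Set G)) (m : W), ((f ⟨x, hx⟩ • m : W) : G) = x * m * x⁻¹ :=
    fun _ _ _ => rfl
  have h1 := ML.MinFrame.axb (H := MulAut W) (M := W)
    (fun m => Subtype.ext (by have := sq m m.2; rw [pow_two] at this; exact this))
    (B := (O.subgroupOf (normalizer (W : Set G))).map f)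
    ((hO.comap_of_injective _ (normalizer (W : Set G)).subtype_injective).map _) (e := e) (n := orderOf r) hodd
    (by rw [← map_pow]
        have : (⟨r, hr⟩ : normalizer (W : Set G)) ^ orderOf r = 1 := Subtype.ext (pow_orderOf_eq_one r)
        rw [this, map_one])
    (by
      rintro _ ⟨⟨x, hx⟩, hxO, rfl⟩
      have hxO : x ∈ O := hxO
      ext m
      show ((f ⟨x, hx⟩ • e • m : W) : G) = ((e • f ⟨x, hx⟩ • m : W) : G)
      rw [hf, hf r hr, hf r hr, hf]
      exact hcom x hxO m m.2)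
    (by
      intro m hm
      apply Subtype.ext
      refine hc m m.2 fun x hx => ?_
      have h2 := hm (f ⟨x, hOW hx⟩) ⟨⟨x, hOW hx⟩, hx, rfl⟩
      exact congrArg Subtype.val h2)
    ⟨w, hw⟩
  exact congrArg Subtype.val h1

section bg

variable [Finite G] {S : Sylow 2 G} {P : Subgroup G} {ι : Type} {B ZJ : Subgroup G}
  {L W Z C : ι → Subgroup G} {q : ℕ} (h : Bg S P B ZJ L W Z C q)
include h

theorem nb (i : ι) : NB B (L i) (W i) (Z i) q := ⟨h.fr.blk i, h.fr.cardZ i⟩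

theorem rt (i : ι) : Rt B (W i) (Z i) := fun v hv hvZ z hz => by
  obtain ⟨b, hb, -, e⟩ := h.root i v hv hvZ z hz
  exact ⟨b, hb, e⟩

/-- `T` is a Sylow 2-subgroup of `C_G(b)`. -/
theorem syl_b [Finite ι] {i : ι} {b : G} (hb : b ∈ Z i) (hb1 : b ≠ 1)
    (hbT : (S : Subgroup G) ⊓ normalizer (Z i : Set G) ≤ centralizer ({b} : Set G)) :
    Syl ((S : Subgroup G) ⊓ normalizer (Z i : Set G)) (centralizer ({b} : Set G)) := by
  refine ⟨hbT, S.isPGroup'.to_le inf_le_left, fun R hR h2 hle => ?_⟩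
  refine (h.syl i).2.2 R (fun x hx => ?_) h2 hle
  have hxB := h.le_norm_B h2 ((h.bau_le_T i).trans hle) hx
  obtain ⟨m, hm, -⟩ := (h.norm hxB).2 i
  have h1 : b ∈ Z m ⊓ Z i := by
    refine mem_inf.2 ⟨?_, hb⟩
    rw [← hm]
    refine ⟨b, hb, ?_⟩
    have h3 := mem_centralizer_singleton_iff.1 (hR hx)
    show x * b * x⁻¹ = b
    rw [h3]; group
  have h2' : m = i := by
    by_contra hne
    rw [h.Z_disj hne, mem_bot] at h1
    exact hb1 h1
  rw [mem_normalizer_iff_cj, hm, h2']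

/-- Frattini: `N(Z_J) = C(Z_J) N(B)`. -/
theorem exists_frattini {y : G} (hy : y ∈ normalizer (ZJ : Set G)) :
    ∃ d ∈ centralizer (ZJ : Set G), d * y ∈ normalizer (B : Set G) := by
  have h1 : cj y (centralizer (ZJ : Set G)) = centralizer (ZJ : Set G) := by
    rw [cj_centralizer, cj_eq_of_mem_normalizer hy]
  have h2 : Syl (cj y B) (centralizer (ZJ : Set G)) := by
    refine ⟨?_, isPGroup_cj y h.syl_B.2.1, fun Q hQ hQ2 hle => ?_⟩
    · rw [← h1]
      exact cj_mono y h.syl_B.1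
    · symm
      refine Subgroup.eq_of_le_of_card_ge hle ?_
      have h3 := h.syl_B.2.2 (cj y⁻¹ Q) (by
        rw [cj_le_iff, inv_inv, h1]
        exact hQ) (isPGroup_cj _ hQ2) (by
        rw [← cj_inv_cj y B]
        exact cj_mono _ hle)
      rw [← card_cj y⁻¹ Q, h3, card_cj]
  obtain ⟨d, hd, e⟩ := syl_conj h2 h.syl_B
  refine ⟨d, hd, ?_⟩
  rw [mem_normalizer_iff_cj, ← cj_cj, e]

/-- `C_G(Z_J)` fixes `z ∈ Z i`. -/
theorem cent_le {i : ι} {z : G} (hz : z ∈ Z i) : centralizer (ZJ : Set G) ≤ centralizer ({z} : Set G) :=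
  centralizer_le (Set.singleton_subset_iff.2 (h.fr.Z_le i hz))

/-- `L j` centralises `Z i`, `i ≠ j`. -/
theorem L_le {i j : ι} (hij : j ≠ i) {z : G} (hz : z ∈ Z i) : L j ≤ centralizer ({z} : Set G) := fun l hl => by
  rw [mem_centralizer_singleton_iff]
  exact h.fr.LC j l hl z (h.fr.Z_le i hz) (h.fr.WjC j i hij ((h.fr.blk i).ZV hz))

/-- `n ∈ N_G(B) ⊓ C(b)` moving `Z j`: then `C(b) ⊓ N(W j)` lies in every subgroup over `M` and `n`. -/
theorem exch [Finite ι] {i j : ι} (hij : i ≠ j) {b c : G} (hb : b ∈ Z i) (hb1 : b ≠ 1) (hc : c ∈ Z j) (hc1 : c ≠ 1)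
    {n : G} (hB : n ∈ normalizer (B : Set G)) (hnb : n ∈ centralizer ({b} : Set G)) (hnj : n ∉ normalizer (Z j : Set G))
    {X : Subgroup G} (hM : centralizer ({b} : Set G) ⊓ centralizer ({c} : Set G) ≤ X) (hn : n ∈ X) :
    centralizer ({b} : Set G) ⊓ normalizer (W j : Set G) ≤ X := by
  -- `n` normalises `Z i` and maps `Z j` to `Z m`
  obtain ⟨m', hm', -⟩ := (h.norm hB).2 i
  have hi' : m' = i := by
    by_contra hne
    apply hb1
    have h1 : b ∈ Z m' ⊓ Z i := by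
      refine mem_inf.2 ⟨?_, hb⟩
      rw [← hm']
      refine ⟨b, hb, ?_⟩
      have h3 := mem_centralizer_singleton_iff.1 hnb
      show n * b * n⁻¹ = b
      rw [h3]; group
    rwa [h.Z_disj hne, mem_bot] at h1
  obtain ⟨m, hm, -⟩ := (h.norm hB).2 j
  have hmj : m ≠ j := by
    rintro rfl
    exact hnj (mem_normalizer_iff_cj.2 hm)
  have hmi : m ≠ i := by
    rintro rfl
    have h1 : cj n (Z m) = cj n (Z j) := by rw [hm]; rw [hi'] at hm'; exact hm'
    have h2 := congrArg (cj n⁻¹) h1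
    rw [cj_inv_cj, cj_inv_cj] at h2
    exact hij (h.Z_inj h2)
  have hWm : cj n (W j) = W m := h.cj_W hB hm
  rintro l ⟨hlb, hlW⟩
  -- `c^{nl}` and `c^n` lie in `W m`
  have h1 : n * c * n⁻¹ ∈ Z m := by rw [← hm]; exact ⟨c, hc, rfl⟩
  have h1' : n * c * n⁻¹ ≠ 1 := fun e => hc1 (conj_eq_one_iff.1 e)
  have hlc : l * c * l⁻¹ ∈ W j := (mem_normalizer_iff.1 hlW c).1 ((h.fr.blk j).ZV hc)
  have h2 : n * (l * c * l⁻¹) * n⁻¹ ∈ W m := by rw [← hWm]; exact ⟨_, hlc, rfl⟩
  have h2' : n * (l * c * l⁻¹) * n⁻¹ ≠ 1 := fun e => hc1 (conj_eq_one_iff.1 (conj_eq_one_iff.1 e))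
  obtain ⟨k, hk, e⟩ := trL (nb h m) (rt h m) h2 h2' h1 h1'
  have hkb : k ∈ centralizer ({b} : Set G) := L_le h hmi hb hk
  have hkc : k ∈ centralizer ({c} : Set G) := L_le h hmj hc hk
  -- `y = l⁻¹ n⁻¹ k n ∈ M`
  have hy : l⁻¹ * n⁻¹ * k * n ∈ X := by
    refine hM (mem_inf.2 ⟨mul_mem (mul_mem (mul_mem (inv_mem hlb) (inv_mem hnb)) hkb) hnb, ?_⟩)
    rw [mem_centralizer_singleton_iff]
    have e2 : l⁻¹ * n⁻¹ * k * n * c * (l⁻¹ * n⁻¹ * k * n)⁻¹ = c := by
      calc l⁻¹ * n⁻¹ * k * n * c * (l⁻¹ * n⁻¹ * k * n)⁻¹ = l⁻¹ * (n⁻¹ * (k * (n * c * n⁻¹) * k⁻¹) * n) * l := by group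
        _ = c := by rw [e]; group
    exact mul_inv_eq_iff_eq_mul.1 e2
  have e3 : l = n⁻¹ * k * n * (l⁻¹ * n⁻¹ * k * n)⁻¹ := by group
  rw [e3]
  exact mul_mem (mul_mem (mul_mem (inv_mem hn) (hM (mem_inf.2 ⟨hkb, hkc⟩))) hn) (inv_mem hy)

variable {i j : ι} {s : G} (p : Pa (S : Subgroup G) W i j s)
include p

/-- **(4).** -/
theorem four [Finite ι] {b c : G} (hb : b ∈ Z i) (hb1 : b ≠ 1) (hc : c ∈ Z j) (hc1 : c ≠ 1)
    (hbT : (S : Subgroup G) ⊓ normalizer (Z i : Set G) ≤ centralizer ({b} : Set G))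
    (hcT : (S : Subgroup G) ⊓ normalizer (Z i : Set G) ≤ centralizer ({c} : Set G))
    (hD : DichQ ZJ W Z C ((S : Subgroup G) ⊓ normalizer (Z i : Set G)) b) {H R : Subgroup G}
    (hMH : centralizer ({b} : Set G) ⊓ centralizer ({c} : Set G) ≤ H) (hLH : L j ≤ H)
    (hHb : H ≤ centralizer ({b} : Set G)) (hRH : R ≤ H) (hHR : H ≤ normalizer (R : Set G))
    (hmv : ∃ a ∈ R, (∃ n : ℕ, a ^ 2 ^ n = 1) ∧ ∃ w ∈ W j, a * w ≠ w * a) :
    centralizer ({b} : Set G) ⊓ normalizer (W j : Set G) ≤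
      R ⊔ (centralizer ({b} : Set G) ⊓ centralizer ({c} : Set G)) := by
  have : Fact (Nat.Prime 2) := ⟨Nat.prime_two⟩
  set T : Subgroup G := (S : Subgroup G) ⊓ normalizer (Z i : Set G) with hT
  set M : Subgroup G := centralizer ({b} : Set G) ⊓ centralizer ({c} : Set G) with hM
  have hT2 : IsPGroup 2 T := S.isPGroup'.to_le inf_le_left
  have hBT : B ≤ T := h.bau_le_T i
  have hTM : T ≤ M := le_inf hbT hcT
  have hTH : T ≤ H := hTM.trans hMH
  have hTj : T ≤ normalizer (Z j : Set G) := (h.T_eq p).ge.trans inf_le_right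
  have hTW : T ≤ normalizer (W j : Set G) := by
    have h1 := h.inf_normalizer j
    rw [h.T_eq p] at h1
    rw [hT, h1]
    exact inf_le_right
  -- `R₀ = R ⊓ N(W j)`
  have hRL : ∀ l ∈ L j, ∀ r ∈ R ⊓ normalizer (W j : Set G), l * r * l⁻¹ ∈ R ⊓ normalizer (W j : Set G) := by
    intro l hl r hr
    have hlW : l ∈ normalizer (W j : Set G) :=
      ML.MinFrame.le_normalizer_of (R := L j) (fun g hg x hx => (nb h j).nV g hg x hx) hl
    exact mem_inf.2 ⟨(mem_normalizer_iff.1 (hHR (hLH hl)) r).1 hr.1, mul_mem (mul_mem hlW hr.2) (inv_mem hlW)⟩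
  have hRV : ∀ r ∈ R ⊓ normalizer (W j : Set G), ∀ v ∈ W j, r * v * r⁻¹ ∈ W j :=
    fun r hr v hv => (mem_normalizer_iff.1 hr.2 v).1 hv
  rcases alt (nb h j) hRL hRV (rt h j) with htr | ⟨hRZ, h2el⟩
  · -- the transitive case
    rintro l ⟨hlb, hlW⟩
    have hlc : l * c * l⁻¹ ∈ W j := (mem_normalizer_iff.1 hlW c).1 ((h.fr.blk j).ZV hc)
    obtain ⟨r, hr, e⟩ := htr c hc hc1 _ hlc fun e => hc1 (conj_eq_one_iff.1 e)
    have h1 : r⁻¹ * l ∈ M := by
      refine mem_inf.2 ⟨mul_mem (inv_mem (hHb (hRH hr.1))) hlb, ?_⟩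
      rw [mem_centralizer_singleton_iff]
      have e2 : r⁻¹ * l * c * (r⁻¹ * l)⁻¹ = c := by
        calc r⁻¹ * l * c * (r⁻¹ * l)⁻¹ = r⁻¹ * (l * c * l⁻¹) * r := by group
          _ = c := by rw [← e]; group
      exact mul_inv_eq_iff_eq_mul.1 e2
    have e3 : l = r * (r⁻¹ * l) := by group
    rw [e3]
    exact mul_mem (mem_sup_left hr.1) (mem_sup_right h1)
  by_contra hcon
  -- elements of `N(Z_J)`
  have key : ∀ x ∈ R ⊔ T, x ∈ normalizer (ZJ : Set G) → x ∈ normalizer (Z j : Set G) := by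
    intro x hx hxJ
    by_contra hxj
    have hxb : x ∈ centralizer ({b} : Set G) := (sup_le (hRH.trans hHb) hbT) hx
    obtain ⟨d, hd, hdx⟩ := exists_frattini h hxJ
    have hdb := cent_le h hb hd
    have hdc := cent_le h hc hd
    refine hcon (exch h p.ne hb hb1 hc hc1 hdx (mul_mem hdb hxb) (fun hcc => ?_) le_sup_right
      (mul_mem (mem_sup_right (mem_inf.2 ⟨hdb, hdc⟩)) (sup_le_sup_left hTM R hx)))
    apply hxj
    have hdj : d ∈ normalizer (Z j : Set G) :=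
      centralizer_le_normalizer _ (centralizer_le (h.fr.Z_le j) hd)
    have h5 := mul_mem (inv_mem hdj) hcc
    rwa [inv_mul_cancel_left] at h5
  -- `T` is Sylow in `C(b)`
  have hsyl : Syl T (centralizer ({b} : Set G)) := syl_b h hb hb1 hbT
  have hsyl' : ∀ X : Subgroup G, T ≤ X → X ≤ centralizer ({b} : Set G) → Syl T X := fun X h1 h2 =>
    ⟨h1, hT2, fun Q hQ h3 hle => hsyl.2.2 Q (hQ.trans h2) h3 hle⟩
  -- `W j ≤ Ω₁Z(O₂(H))`
  have hsq : ∀ w ∈ W j, w ^ 2 = 1 := fun w hw => h.fr.Vsq (h.fr.WV j hw)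
  have hWz : W j ≤ zc (o2 H) := by
    have hcz : c ∈ zc T := mem_zc.2 ⟨hBT ((h.fr.blk j).VB ((h.fr.blk j).ZV hc)), hsq c ((h.fr.blk j).ZV hc),
      fun x hx => mem_centralizer_singleton_iff.1 (hcT hx)⟩
    have hb2 : b ^ 2 = 1 := h.fr.Vsq (h.fr.ZV i hb)
    have hch : H ⊓ centralizer (o2 H : Set G) ≤ o2 H :=
      MinSimple.Basic.char2_of_le (MinSimple.Basic.char2_centralizer h.hyp.ctx.char2 hb2 hb1)
        ((o2_le_syl hsyl).trans hTH) hHb
    have h1 := MinSimple.VModule.zl_le_zc hTH hT2 (syl_not_dvd (hsyl' H hTH hHb)) hch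
    have h2 : c ∈ zl T H := MinSimple.VModule.zc_le_zl T H hcz
    refine le_trans (fun w hw => ?_) h1
    by_cases hw1 : w = 1
    · rw [hw1]; exact one_mem _
    obtain ⟨l, hl, rfl⟩ := trL (nb h j) (rt h j) hw hw1 hc hc1
    exact (mem_normalizer_iff.1 (MinSimple.VModule.le_normalizer_zl T H (hLH hl)) c).1 h2
  -- `R` normalises `Z j`
  have hRj : R ≤ normalizer (Z j : Set G) := by
    refine le_trans (le_sup_left : R ≤ R ⊔ T) ?_
    refine MinSimple.MinParabolic.le_of_forall le_sup_right ?_ fun Y hY hYX => ?_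
    · rintro n ⟨hn, hnT⟩
      refine key n hn (h.norm_ZJ ?_)
      rw [mem_normalizer_iff_cj]
      refine h.wc T hT2 hBT n ?_
      rw [← mem_normalizer_iff_cj.1 hnT]
      exact cj_mono n hBT
    · have hYb : Y ≤ centralizer ({b} : Set G) := hYX.trans (sup_le (hRH.trans hHb) hbT)
      have hYH : Y ≤ H := hYX.trans (sup_le hRH hTH)
      have hYR : Y ≤ normalizer (R : Set G) := hYH.trans hHR
      have hRTn : R ⊔ T ≤ normalizer (R : Set G) := (sup_le hRH hTH).trans hHR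
      rcases hD Y hY hYb with h1 | h1 | ⟨m, L', h1, h2, h3⟩
      · exact fun y hy => key y (hYX hy) (h1 hy)
      · -- `O²(Y)` centralises `Ω₁Z(O₂(Y))`
        have hsylY : Syl T Y := hsyl' Y hY.le hYb
        set O : Subgroup G := o2 Y with hO
        have hO2 : IsPGroup 2 O := isPGroup_o2 Y
        have hOT : O ≤ T := o2_le_syl hsylY
        have hYO : Y ≤ normalizer (O : Set G) := le_normalizer_o2 Y
        have hoH : o2 H ≤ O := le_o2 (isPGroup_o2 H) ((o2_le_syl (hsyl' H hTH hHb)).trans hY.le)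
          (hYH.trans (le_normalizer_o2 H))
        have hYz : Y ≤ normalizer (zc (o2 H) : Set G) :=
          (hYH.trans (le_normalizer_o2 H)).trans (MinSimple.VModule.normalizer_le_normalizer_zc _)
        -- `U = ⟨(W j)^Y⟩`
        set U : Subgroup G := ⨆ y : Y, cj (y : G) (W j) with hU
        have hUz : U ≤ zc (o2 H) := iSup_le fun y => by
          have h4 := cj_mono (y : G) hWz
          rwa [cj_eq_of_mem_normalizer (hYz y.2)] at h4
        have hWU : W j ≤ U := by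
          have h4 := le_iSup (fun y : Y => cj (y : G) (W j)) 1
          rwa [OneMemClass.coe_one, cj_one] at h4
        have hYU : Y ≤ normalizer (U : Set G) := by
          refine ML.MinFrame.le_normalizer_of fun y hy x hx => ?_
          have h4 : cj y U ≤ U := by
            have h5 : cj y U = ⨆ x : Y, cj y (cj (x : G) (W j)) := Subgroup.map_iSup _ _
            rw [h5]
            refine iSup_le fun x => ?_
            rw [cj_cj]
            exact le_iSup (fun z : Y => cj (z : G) (W j)) (⟨y, hy⟩ * x)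
          exact h4 ⟨x, hx, rfl⟩
        have hUO : U ≤ O := (hUz.trans (MinSimple.VModule.zc_le _)).trans hoH
        have hUsq : ∀ w ∈ U, w ^ 2 = 1 := fun w hw => (mem_zc.1 (hUz hw)).2.1
        -- `O ⊓ R` centralises `U`
        have hORU : ∀ g ∈ O, g ∈ R → ∀ w ∈ U, g * w * g⁻¹ = w := by
          intro g hgO hgR
          have h4 : U ≤ centralizer ({g} : Set G) := by
            refine iSup_le fun y => ?_
            rintro _ ⟨w, hw, rfl⟩
            have hy1 : (y : G)⁻¹ * g * y ∈ O := (mem_normalizer_iff''.1 (hYO y.2) g).1 hgO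
            have hy2 : (y : G)⁻¹ * g * y ∈ R := (mem_normalizer_iff''.1 (hYR y.2) g).1 hgR
            obtain ⟨n, hn⟩ := hT2 ⟨_, hOT hy1⟩
            have h5 := h2el _ (mem_inf.2 ⟨hy2, hTW (hOT hy1)⟩) n (congrArg Subtype.val hn) w hw
            rw [mem_centralizer_singleton_iff]
            show (y : G) * w * (y : G)⁻¹ * g = g * ((y : G) * w * (y : G)⁻¹)
            calc (y : G) * w * (y : G)⁻¹ * g = y * w * ((y : G)⁻¹ * g * y) * (y : G)⁻¹ := by group
              _ = y * ((y : G)⁻¹ * g * y * w * ((y : G)⁻¹ * g * y)⁻¹) * ((y : G)⁻¹ * g * y) * (y : G)⁻¹ := by rw [h5]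
              _ = g * ((y : G) * w * (y : G)⁻¹) := by group
          intro w hw
          have h5 := mem_centralizer_singleton_iff.1 (h4 hw)
          rw [← h5]; group
        have hodd : oddGen Y ≤ centralizer (W j : Set G) := by
          rw [MinSimple.VModule.oddGen_def, closure_le]
          rintro r ⟨hrY, hro⟩
          have hrR : r ∈ R := MinSimple.VModule.oddGen_le_of_sup hRTn le_rfl le_sup_right le_sup_left hT2
            (MinSimple.VModule.oddGen_mono hYX (MinSimple.VModule.mem_oddGen hrY hro))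
          have hrc := h1 (MinSimple.VModule.mem_oddGen hrY hro)
          refine mem_centralizer_iff.2 fun w hw => ?_
          have h5 : r * w * r⁻¹ = w := by
            refine axb hUsq hO2 (fun u hu => hYU (MinSimple.VModule.o2_le Y hu)) (hYU hrY) hro (fun u hu w hw => ?_)
              (fun w hw hwf => ?_) (hWU hw)
            · -- `[u, r] ∈ O ⊓ R`
              have hg1 : r⁻¹ * u * r * u⁻¹ ∈ O :=
                mul_mem ((mem_normalizer_iff''.1 (hYO hrY) u).1 hu) (inv_mem hu)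
              have hg2 : r⁻¹ * u * r * u⁻¹ ∈ R := by
                have h6 := (mem_normalizer_iff.1 (hYR (MinSimple.VModule.o2_le Y hu)) r).1 hrR
                have e : r⁻¹ * u * r * u⁻¹ = r⁻¹ * (u * r * u⁻¹) := by group
                rw [e]
                exact mul_mem (inv_mem hrR) h6
              have hw' : u * w * u⁻¹ ∈ U := (mem_normalizer_iff.1 (hYU (MinSimple.VModule.o2_le Y hu)) w).1 hw
              have h6 := hORU _ hg1 hg2 _ hw'
              calc u * (r * w * r⁻¹) * u⁻¹ = r * ((r⁻¹ * u * r * u⁻¹) * (u * w * u⁻¹) * (r⁻¹ * u * r * u⁻¹)⁻¹) * r⁻¹ := by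
                    group
                _ = r * (u * w * u⁻¹) * r⁻¹ := by rw [h6]
            · have h6 : w ∈ zc O := mem_zc.2 ⟨hUO hw, hUsq w hw, fun u hu => mul_inv_eq_iff_eq_mul.1 (hwf u hu)⟩
              have h7 := mem_centralizer_iff.1 hrc w h6
              rw [← h7]; group
          exact (mul_inv_eq_iff_eq_mul.1 h5).symm
        rw [← OM.Dich.oddGen_sup_syl hsylY]
        exact sup_le (hodd.trans ((centralizer_le (h.fr.blk j).ZV).trans (centralizer_le_normalizer _))) hTj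
      · by_cases hmj : m = j
        · exfalso
          subst hmj
          apply h3.nZ
          intro l hl
          -- `l = r t`
          have h4 : l ∈ R ⊔ T := hYX (h1 hl)
          obtain ⟨t, ht, r, hr, rfl⟩ := SQ1.Bau.mem_sup_norm (hTH.trans hHR) (by rw [sup_comm]; exact h4)
          have hrW : r ∈ normalizer (W m : Set G) := by
            have h5 := mul_mem (inv_mem (hTW ht)) (h3.nW hl)
            rwa [inv_mul_cancel_left] at h5
          refine mul_mem (hTj ht) ?_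
          have h6 : zpowers r ≤ normalizer (Z m : Set G) :=
            ML.MinFrame.le_normalizer_of fun g hg z hz => hRZ g ((zpowers_le.2 (mem_inf.2 ⟨hr, hrW⟩)) hg) z hz
          exact h6 (mem_zpowers r)
        · refine h2.trans (sup_le ?_ hTj)
          refine le_trans (fun l hl => mem_centralizer_iff.2 fun z hz => ?_) (centralizer_le_normalizer _)
          exact (h3.cen z (h.fr.Z_le j hz) (h.fr.WjC m j hmj ((h.fr.blk j).ZV hz)) l hl).symm
  -- `R` normalises `W j`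
  obtain ⟨a, haR, ⟨n, hn⟩, w, hw, hne⟩ := hmv
  apply hne
  have haW : a ∈ normalizer (W j : Set G) := by
    obtain ⟨k, hk, hk1⟩ := exists_ne (nb h j)
    have h1 : a ∈ normalizer ((cj k (Z j) : Subgroup G) : Set G) := by
      have h2 : k⁻¹ * a * k ∈ normalizer (Z j : Set G) := hRj ((mem_normalizer_iff''.1 (hHR (hLH hk)) a).1 haR)
      rw [← cj_normalizer, mem_cj]
      exact h2
    rw [mem_normalizer_iff_cj, ← sup_eq (nb h j) hk hk1]
    rw [show cj a (Z j ⊔ cj k (Z j)) = cj a (Z j) ⊔ cj a (cj k (Z j)) from Subgroup.map_sup _ _ _,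
      mem_normalizer_iff_cj.1 h1, mem_normalizer_iff_cj.1 (hRj haR)]
  exact mul_inv_eq_iff_eq_mul.1 (h2el a (mem_inf.2 ⟨haR, haW⟩) n hn w hw)

/-- **(4)**: `H = R M` if `H` is generated by `M` and subgroups of `N(W j)`. -/
theorem four_mul [Finite ι] {b c : G} (hb : b ∈ Z i) (hb1 : b ≠ 1) (hc : c ∈ Z j) (hc1 : c ≠ 1)
    (hbT : (S : Subgroup G) ⊓ normalizer (Z i : Set G) ≤ centralizer ({b} : Set G))
    (hcT : (S : Subgroup G) ⊓ normalizer (Z i : Set G) ≤ centralizer ({c} : Set G))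
    (hD : DichQ ZJ W Z C ((S : Subgroup G) ⊓ normalizer (Z i : Set G)) b) {H R : Subgroup G}
    (hMH : centralizer ({b} : Set G) ⊓ centralizer ({c} : Set G) ≤ H) (hLH : L j ≤ H)
    (hHb : H ≤ centralizer ({b} : Set G)) (hRH : R ≤ H) (hHR : H ≤ normalizer (R : Set G))
    (hgen : H ≤ (centralizer ({b} : Set G) ⊓ centralizer ({c} : Set G)) ⊔
      (centralizer ({b} : Set G) ⊓ normalizer (W j : Set G)))
    (hmv : ∃ a ∈ R, (∃ n : ℕ, a ^ 2 ^ n = 1) ∧ ∃ w ∈ W j, a * w ≠ w * a) {x : G} (hx : x ∈ H) :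
    ∃ r ∈ R, ∃ m ∈ centralizer ({b} : Set G) ⊓ centralizer ({c} : Set G), x = m * r := by
  have h1 := hgen.trans (sup_le le_sup_right (four h p hb hb1 hc hc1 hbT hcT hD hMH hLH hHb hRH hHR hmv)) hx
  rw [sup_comm, ← SetLike.mem_coe, Subgroup.coe_mul_of_left_le_normalizer_right _ _ (hMH.trans hHR)] at h1
  obtain ⟨m, hm, r, hr, rfl⟩ := Set.mem_mul.1 h1
  exact ⟨r, hr, m, hm, rfl⟩

omit p h [Finite G] in
/-- a 2-subgroup of `R` moving `⟨(W j)^H⟩` -/
theorem hmv_of {H R A : Subgroup G} (hHR : H ≤ normalizer (R : Set G)) (hAR : A ≤ R) (hA : IsPGroup 2 A)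
    (hmv : ¬ A ≤ centralizer ((⨆ x : H, cj (x : G) (W j) : Subgroup G) : Set G)) :
    ∃ a ∈ R, (∃ n : ℕ, a ^ 2 ^ n = 1) ∧ ∃ w ∈ W j, a * w ≠ w * a := by
  by_contra hcon
  push Not at hcon
  apply hmv
  rw [le_centralizer_iff]
  refine iSup_le fun x => ?_
  rintro _ ⟨w, hw, rfl⟩
  refine mem_centralizer_iff.2 fun a ha => ?_
  obtain ⟨n, hn⟩ := hA ⟨a, ha⟩
  have h1 : (x : G)⁻¹ * a * x ∈ R := (mem_normalizer_iff''.1 (hHR x.2) a).1 (hAR ha)
  have h2 : ((x : G)⁻¹ * a * x) ^ 2 ^ n = 1 := by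
    have h3 : ((x : G)⁻¹ * a * (x : G)⁻¹⁻¹) ^ 2 ^ n = (x : G)⁻¹ * a ^ 2 ^ n * (x : G)⁻¹⁻¹ := conj_pow
    rw [inv_inv] at h3
    rw [h3, show a ^ 2 ^ n = 1 from congrArg Subtype.val hn]
    group
  have h4 := hcon _ h1 ⟨n, h2⟩ w hw
  show a * ((x : G) * w * (x : G)⁻¹) = (x : G) * w * (x : G)⁻¹ * a
  calc a * ((x : G) * w * (x : G)⁻¹) = x * ((x : G)⁻¹ * a * x * w) * (x : G)⁻¹ := by group
    _ = x * (w * ((x : G)⁻¹ * a * x)) * (x : G)⁻¹ := by rw [h4]
    _ = (x : G) * w * (x : G)⁻¹ * a := by group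

end bg

end Cfsg.Agent.Omega.NO3S.EMany.FourQ
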