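import Cfsg.Agent.Omega.NO3S.EThree.FrameG

/-!
# NO-3S, several natural factors, case (E): step (4) of bb #18482 (helper750), over `(B, Z_J)`

`i`, `j` partners (`Pa`), `T = N_S(Z i) = N_S(Z j)`, `M = N(Z i) ⊓ N(Z j)`; `R` a subgroup of `N(Z i)` normalised by `M`
which does not normalise `Z j`. Then `L j ≤ R ⊔ M`.

* `BlkAt` : `L'` centralises `Z_J ⊓ C m` and induces on `Z m` what `L m` induces; `Dich4` : every minimal parabolic over
  `T` in `N(Z i)` normalises `Z_J`, centralises `Ω₁Z(T)`, or is generated by `T` and such a block (input);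
* `exch` : an element of `N_G(B) ⊓ N(Z i)` not normalising `Z j` conjugates `L j` into `M`;
* `four`, `four_sup`, `four_norm` : **(4)**.
-/

set_option autoImplicit false
set_option linter.unusedVariables false
set_option linter.unusedSectionVars false

namespace Cfsg.Agent.Omega.NO3S.EMany.Four

open Subgroup Cfsg Cfsg.Agent.ZN.ChoiceBase
open Cfsg.Agent.ZN (zc zl o2)
open Cfsg.Agent.ZN.ChoiceSit (Syl exists_syl syl_conj)
open Cfsg.Agent.MinSimple.MinParabolic (IsMinPar)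
open Cfsg.Agent.Omega.NO3S.EThree.Frame

universe u

variable {G : Type u} [Group G]

/-- `L'` centralises `ZJ ⊓ C m` and induces on `Z m` what `L m` induces. -/
structure BlkAt {ι : Type} (ZJ : Subgroup G) (L Z C : ι → Subgroup G) (m : ι) (L' : Subgroup G) : Prop where
  cen : ∀ z ∈ ZJ, z ∈ C m → ∀ l' ∈ L', l' * z = z * l'
  mv : ∀ l ∈ L m, ∃ l' ∈ L', ∀ z ∈ Z m, l' * z * l'⁻¹ = l * z * l⁻¹

/-- Minimal parabolics over `T` in `N(Z i)`. -/
def Dich4 {ι : Type} (ZJ : Subgroup G) (L Z C : ι → Subgroup G) (T : Subgroup G) (i : ι) : Prop :=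
  ∀ Y : Subgroup G, IsMinPar T Y → Y ≤ normalizer (Z i : Set G) →
    Y ≤ normalizer (ZJ : Set G) ∨ Y ≤ centralizer (zc T : Set G) ∨
      ∃ m L', L' ≤ Y ∧ Y ≤ L' ⊔ T ∧ BlkAt ZJ L Z C m L'

/-- A 2-group acting on a nontrivial 2-group has a nontrivial fixed point. -/
theorem exists_fix [Finite G] {P M : Subgroup G} (hP : IsPGroup 2 P) (hM : IsPGroup 2 M) (hM1 : M ≠ ⊥)
    (hn : ∀ x ∈ P, ∀ v ∈ M, x * v * x⁻¹ ∈ M) : ∃ v ∈ M, v ≠ 1 ∧ ∀ x ∈ P, x * v * x⁻¹ = v := by
  have : Fact (Nat.Prime 2) := ⟨Nat.prime_two⟩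
  let act : MulAction P M :=
    { smul := fun x v => ⟨(x : G) * v * (x : G)⁻¹, hn x x.2 v v.2⟩
      one_smul := fun v => Subtype.ext (by show (1 : G) * v * (1 : G)⁻¹ = v; group)
      mul_smul := fun x y v => Subtype.ext (by
        show ((x : G) * y) * v * ((x : G) * y)⁻¹ = x * (y * v * (y : G)⁻¹) * (x : G)⁻¹; group) }
  have h2 : 2 ∣ Nat.card M := by
    obtain ⟨n, hn⟩ := IsPGroup.iff_card.1 hM
    rcases Nat.eq_zero_or_pos n with h0 | h0
    · rw [h0, pow_zero] at hn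
      exact absurd (Subgroup.card_eq_one.1 hn) hM1
    · rw [hn]; exact dvd_pow_self 2 h0.ne'
  obtain ⟨v, hv, hv1⟩ := hP.exists_fixed_point_of_prime_dvd_card_of_fixed_point M h2 (a := (1 : M))
    (fun x => Subtype.ext (by show (x : G) * 1 * (x : G)⁻¹ = 1; group))
  exact ⟨v, v.2, fun h => hv1 (Subtype.ext h.symm), fun x hx => congrArg Subtype.val (hv ⟨x, hx⟩)⟩

variable [Finite G] {S : Sylow 2 G} {P : Subgroup G} {ι : Type} {B ZJ : Subgroup G}
  {L W Z C : ι → Subgroup G} {q : ℕ} (h : Bg S P B ZJ L W Z C q)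
include h

/-- `L j` centralises `Z i`, `i ≠ j`. -/
theorem L_cent {i j : ι} (hij : j ≠ i) {l : G} (hl : l ∈ L j) {z : G} (hz : z ∈ Z i) : l * z = z * l :=
  h.fr.LC j l hl z (h.fr.Z_le i hz) (h.fr.WjC j i hij ((h.fr.blk i).ZV hz))

theorem L_le_centralizer {i j : ι} (hij : j ≠ i) : L j ≤ centralizer (Z i : Set G) :=
  fun l hl => mem_centralizer_iff.2 fun z hz => (L_cent h hij hl hz).symm

/-- `C_G(Z_J) ≤ M` -/
theorem cent_le (i j : ι) : centralizer (ZJ : Set G) ≤ normalizer (Z i : Set G) ⊓ normalizer (Z j : Set G) :=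
  le_inf ((centralizer_le (h.fr.Z_le i)).trans (centralizer_le_normalizer _))
    ((centralizer_le (h.fr.Z_le j)).trans (centralizer_le_normalizer _))

/-- A block at `m` gives `L m`. -/
theorem L_le_of_blkAt {m : ι} {L' : Subgroup G} (hb : BlkAt ZJ L Z C m L') :
    L m ≤ L' ⊔ centralizer (ZJ : Set G) := by
  intro l hl
  obtain ⟨l', hl', hact⟩ := hb.mv l hl
  have h1 : l'⁻¹ * l ∈ centralizer (ZJ : Set G) := by
    rw [mem_centralizer_iff]
    intro z hz
    obtain ⟨w, hw, c, hc, hcJ, rfl⟩ := h.fr.split_ZJ m hz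
    have e1 : l * c = c * l := h.fr.LC m l hl c hcJ hc
    have e2 : l' * c = c * l' := hb.cen c hcJ hc l' hl'
    have e3 : l' * w * l'⁻¹ = l * w * l⁻¹ := hact w hw
    have e4 : l'⁻¹ * l * w = w * (l'⁻¹ * l) := by
      have : l * w * l⁻¹ = l' * w * l'⁻¹ := e3.symm
      calc l'⁻¹ * l * w = l'⁻¹ * (l * w * l⁻¹) * l := by group
        _ = l'⁻¹ * (l' * w * l'⁻¹) * l := by rw [this]
        _ = w * (l'⁻¹ * l) := by group
    have e5 : l'⁻¹ * l * c = c * (l'⁻¹ * l) := by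
      have e6 : l'⁻¹ * c = c * l'⁻¹ := by
        calc l'⁻¹ * c = l'⁻¹ * (c * l') * l'⁻¹ := by group
          _ = l'⁻¹ * (l' * c) * l'⁻¹ := by rw [e2]
          _ = c * l'⁻¹ := by group
      calc l'⁻¹ * l * c = l'⁻¹ * (l * c) := by group
        _ = l'⁻¹ * (c * l) := by rw [e1]
        _ = (l'⁻¹ * c) * l := by group
        _ = c * l'⁻¹ * l := by rw [e6]
        _ = c * (l'⁻¹ * l) := by group
    calc w * c * (l'⁻¹ * l) = w * (c * (l'⁻¹ * l)) := by group
      _ = w * (l'⁻¹ * l * c) := by rw [e5]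
      _ = (w * (l'⁻¹ * l)) * c := by group
      _ = (l'⁻¹ * l * w) * c := by rw [e4]
      _ = l'⁻¹ * l * (w * c) := by group
  have e : l = l' * (l'⁻¹ * l) := by group
  rw [e]
  exact mul_mem (mem_sup_left hl') (mem_sup_right h1)

/-- Frattini: `N(Z_J) = C(Z_J) N(B)`. -/
theorem exists_frattini {y : G} (hy : y ∈ normalizer (ZJ : Set G)) :
    ∃ d ∈ centralizer (ZJ : Set G), d * y ∈ normalizer (B : Set G) := by
  have h1 : cj y (centralizer (ZJ : Set G)) = centralizer (ZJ : Set G) := by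
    rw [cj_centralizer, cj_eq_of_mem_normalizer hy]
  have h2 : Syl (cj y B) (centralizer (ZJ : Set G)) := by
    refine ⟨?_, isPGroup_cj y h.syl_B.2.1, fun Q hQ hQ2 hle => ?_⟩
    · rw [← h1]
      exact cj_mono y h.syl_B.1
    · symm
      refine Subgroup.eq_of_le_of_card_ge hle ?_
      have h3 := h.syl_B.2.2 (cj y⁻¹ Q) (by
        rw [cj_le_iff, inv_inv, h1]
        exact hQ) (isPGroup_cj _ hQ2) (by
        rw [← cj_inv_cj y B]
        exact cj_mono _ hle)
      rw [← card_cj y⁻¹ Q, h3, card_cj]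
  obtain ⟨d, hd, e⟩ := syl_conj h2 h.syl_B
  refine ⟨d, hd, ?_⟩
  rw [mem_normalizer_iff_cj, ← cj_cj, e]

/-- `n ∈ N_G(B) ⊓ N(Z i)` with `(Z j)^n ≠ Z j` conjugates `L j` into `M`. -/
theorem exch {i j : ι} (hij : i ≠ j) {n : G} (hB : n ∈ normalizer (B : Set G))
    (hi : n ∈ normalizer (Z i : Set G)) (hj : n ∉ normalizer (Z j : Set G)) :
    cj n (L j) ≤ normalizer (Z i : Set G) ⊓ normalizer (Z j : Set G) := by
  obtain ⟨m, hm, -⟩ := (h.nrm n⁻¹ (inv_mem hB)).2 j
  have hmj : j ≠ m := by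
    rintro rfl
    exact hj (inv_mem_iff.1 (mem_normalizer_iff_cj.2 hm))
  refine le_trans ?_ (inf_le_inf (centralizer_le_normalizer _) (centralizer_le_normalizer _))
  refine le_inf ?_ ?_
  · have h1 := cj_mono n (L_le_centralizer h hij.symm)
    rwa [cj_centralizer, cj_eq_of_mem_normalizer hi] at h1
  · have h1 := cj_mono n (L_le_centralizer h hmj)
    rw [cj_centralizer, ← hm, cj_cj, mul_inv_cancel, cj_one] at h1
    exact h1

variable {i j : ι} {s : G} (p : Pa (S : Subgroup G) W i j s)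
include p

/-- **(4).** -/
theorem four [Finite ι] (hTI : TI (Z j))
    (hD : Dich4 ZJ L Z C ((S : Subgroup G) ⊓ normalizer (Z i : Set G)) i) {R : Subgroup G}
    (hRi : R ≤ normalizer (Z i : Set G))
    (hRM : normalizer (Z i : Set G) ⊓ normalizer (Z j : Set G) ≤ normalizer (R : Set G))
    (hmv : ¬ R ≤ normalizer (Z j : Set G)) :
    L j ≤ R ⊔ (normalizer (Z i : Set G) ⊓ normalizer (Z j : Set G)) := by
  set T : Subgroup G := (S : Subgroup G) ⊓ normalizer (Z i : Set G) with hT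
  set M : Subgroup G := normalizer (Z i : Set G) ⊓ normalizer (Z j : Set G) with hM
  have hTM : T ≤ M := h.T_le p
  have hT2 : IsPGroup 2 T := S.isPGroup'.to_le inf_le_left
  have hBT : B ≤ T := h.bau_le_T i
  -- `n ∈ N(B)`, in `R ⊔ M` and `N(Z i)`, not in `N(Z j)`
  have key : ∀ n ∈ normalizer (B : Set G), n ∈ R ⊔ M → n ∈ normalizer (Z i : Set G) →
      n ∉ normalizer (Z j : Set G) → L j ≤ R ⊔ M := by
    intro n hB hRn hi hj l hl
    have h1 := exch h p.ne hB hi hj (⟨l, hl, rfl⟩ : n * l * n⁻¹ ∈ cj n (L j))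
    have h2 : n * l * n⁻¹ ∈ R ⊔ M := mem_sup_right h1
    have h3 := mul_mem (mul_mem (inv_mem hRn) h2) hRn
    have e : n⁻¹ * (n * l * n⁻¹) * n = l := by group
    rwa [e] at h3
  by_contra hcon
  apply hmv
  refine le_trans (le_sup_left : R ≤ R ⊔ T) ?_
  refine MinSimple.MinParabolic.le_of_forall le_sup_right ?_ fun Y hY hYX => ?_
  · -- `N_{RT}(T)`
    rintro n ⟨hn, hnT⟩
    by_contra hnj
    refine hcon (key n ?_ (sup_le_sup_left hTM R hn) ((sup_le hRi inf_le_right) hn) hnj)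
    rw [mem_normalizer_iff_cj]
    refine h.wc T hT2 hBT n ?_
    rw [← mem_normalizer_iff_cj.1 hnT]
    exact cj_mono n hBT
  · have hYi : Y ≤ normalizer (Z i : Set G) := hYX.trans (sup_le hRi inf_le_right)
    have hYM : Y ≤ R ⊔ M := hYX.trans (sup_le_sup_left hTM R)
    rcases hD Y hY hYi with h1 | h1 | ⟨m, L', h1, h2, h3⟩
    · -- `Y ≤ N(Z_J)`
      intro y hy
      by_contra hyj
      obtain ⟨d, hd, hdy⟩ := exists_frattini h (h1 hy)
      have hdM : d ∈ M := cent_le h i j hd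
      refine hcon (key (d * y) hdy (mul_mem (mem_sup_right hdM) (hYM hy)) (mul_mem (mem_inf.1 hdM).1 (hYi hy)) fun hc => ?_)
      apply hyj
      have h5 := mul_mem (inv_mem (mem_inf.1 hdM).2) hc
      rwa [inv_mul_cancel_left] at h5
    · -- `Y` centralises `Ω₁Z(T)`
      obtain ⟨z, hz, hz1, hzT⟩ : ∃ z ∈ Z j, z ≠ 1 ∧ z ∈ zc T := by
        obtain ⟨z, hz, hz1, hf⟩ := exists_fix hT2 (h.Z_two j) (h.Z_ne j) fun x hx v hv =>
          (mem_normalizer_iff.1 (mem_inf.1 (hTM hx)).2 v).1 hv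
        refine ⟨z, hz, hz1, mem_zc.2 ⟨hBT ((h.fr.blk j).VB ((h.fr.blk j).ZV hz)), h.fr.Vsq (h.fr.ZV j hz),
          fun x hx => ?_⟩⟩
        have h2 := hf x hx
        calc x * z = x * z * x⁻¹ * x := by group
          _ = z * x := by rw [h2]
      intro y hy
      rw [mem_normalizer_iff_cj]
      refine hTI y fun hbot => hz1 ?_
      have h2 : z ∈ cj y (Z j) ⊓ Z j := by
        refine mem_inf.2 ⟨?_, hz⟩
        rw [mem_cj]
        have h3 := mem_centralizer_iff.1 (h1 hy) z hzT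
        have h4 : y⁻¹ * z * y = z := by
          calc y⁻¹ * z * y = y⁻¹ * (z * y) := by group
            _ = y⁻¹ * (y * z) := by rw [h3]
            _ = z := by group
        rwa [h4]
      rwa [hbot, mem_bot] at h2
    · by_cases hmj : m = j
      · exfalso
        subst hmj
        apply hcon
        exact (L_le_of_blkAt h h3).trans (sup_le (h1.trans hYM) ((cent_le h i m).trans le_sup_right))
      · refine h2.trans (sup_le ?_ (hTM.trans inf_le_right))
        refine le_trans (fun l hl => mem_centralizer_iff.2 fun z hz => ?_) (centralizer_le_normalizer _)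
        exact (h3.cen z (h.fr.Z_le j hz) (h.fr.WjC m j hmj ((h.fr.blk j).ZV hz)) l hl).symm

/-- **(4)**: `H = ⟨M, L j⟩ = R M`. -/
theorem four_sup [Finite ι] (hTI : TI (Z j))
    (hD : Dich4 ZJ L Z C ((S : Subgroup G) ⊓ normalizer (Z i : Set G)) i) {R : Subgroup G}
    (hRH : R ≤ (normalizer (Z i : Set G) ⊓ normalizer (Z j : Set G)) ⊔ L j)
    (hRM : normalizer (Z i : Set G) ⊓ normalizer (Z j : Set G) ≤ normalizer (R : Set G))
    (hmv : ¬ R ≤ normalizer (Z j : Set G)) :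
    R ⊔ (normalizer (Z i : Set G) ⊓ normalizer (Z j : Set G)) =
      (normalizer (Z i : Set G) ⊓ normalizer (Z j : Set G)) ⊔ L j := by
  have hRi : R ≤ normalizer (Z i : Set G) := hRH.trans (sup_le inf_le_left (h.L_norm p.ne.symm))
  exact le_antisymm (sup_le hRH le_sup_left) (sup_le le_sup_right (four h p hTI hD hRi hRM hmv))

/-- `H ≤ N(R)`. -/
theorem four_norm [Finite ι] (hTI : TI (Z j))
    (hD : Dich4 ZJ L Z C ((S : Subgroup G) ⊓ normalizer (Z i : Set G)) i) {R : Subgroup G}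
    (hRi : R ≤ normalizer (Z i : Set G))
    (hRM : normalizer (Z i : Set G) ⊓ normalizer (Z j : Set G) ≤ normalizer (R : Set G))
    (hmv : ¬ R ≤ normalizer (Z j : Set G)) :
    (normalizer (Z i : Set G) ⊓ normalizer (Z j : Set G)) ⊔ L j ≤ normalizer (R : Set G) :=
  sup_le hRM ((four h p hTI hD hRi hRM hmv).trans (sup_le Subgroup.le_normalizer hRM))

/-- Every element of `H` is a product of an element of `R` and an element of `M`. -/
theorem four_mul [Finite ι] (hTI : TI (Z j))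
    (hD : Dich4 ZJ L Z C ((S : Subgroup G) ⊓ normalizer (Z i : Set G)) i) {R : Subgroup G}
    (hRi : R ≤ normalizer (Z i : Set G))
    (hRM : normalizer (Z i : Set G) ⊓ normalizer (Z j : Set G) ≤ normalizer (R : Set G))
    (hmv : ¬ R ≤ normalizer (Z j : Set G)) {x : G}
    (hx : x ∈ (normalizer (Z i : Set G) ⊓ normalizer (Z j : Set G)) ⊔ L j) :
    ∃ r ∈ R, ∃ m ∈ normalizer (Z i : Set G) ⊓ normalizer (Z j : Set G), x = m * r := by
  have h1 := (sup_le le_sup_left ((four h p hTI hD hRi hRM hmv).trans (sup_comm _ _).le)) hx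
  rw [← SetLike.mem_coe, Subgroup.coe_mul_of_left_le_normalizer_right _ _ hRM] at h1
  obtain ⟨m, hm, r, hr, rfl⟩ := Set.mem_mul.1 h1
  exact ⟨r, hr, m, hm, rfl⟩

end Cfsg.Agent.Omega.NO3S.EMany.Four
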