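import Cfsg.Agent.Omega.NO3S.EMany.FourD
import Cfsg.Agent.Omega.NO3S.EMany.FourQ
import Cfsg.Agent.Omega.OM.FixPt

/-!
# NO-3S, case (E), `k ≥ 3`, all `q`: the input `DichQ` of `FourQ.lean` at stage `-1`

* `trN` : `N_L(B)` is transitive on `V / Z - 1` (`L` a natural block over `B`);
* `V_le` : **`V_{L'} = W i`** for `q > 2` (Cor. (a) of bb #14470): `L'` a block over `B` with `Z' = Z i`;
* `blkQ` : every block over `B` is a block at some `m`;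
* `dichQ` : **`DichQ` at stage `-1`**.
-/

set_option autoImplicit false
set_option linter.unusedVariables false
set_option linter.unusedSectionVars false

namespace Cfsg.Agent.Omega.NO3S.EMany.FourDQ

open Subgroup Cfsg Cfsg.Agent.ZN.ChoiceBase
open Cfsg.Agent.ZN (jj zj bau zc zl o2)
open Cfsg.Agent.ZN.ChoiceSit (Syl exists_syl syl_conj isPGroup_o2 le_o2 le_normalizer_o2 o2_le_syl syl_not_dvd)
open Cfsg.Agent.MinSimple.MinParabolic (IsMinPar)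
open Cfsg.Agent.MinSimple.VModule (oddGen)
open Cfsg.Agent.Omega
open Cfsg.Agent.Omega.OM
open Cfsg.Agent.Omega.OM.Uni (FB Fr)
open Cfsg.Agent.Omega.OM.UniPlus (NB)
open Cfsg.Agent.Omega.SQ1.Bau (mem_sup_comm)
open Cfsg.Agent.Omega.NO3S.EThree.Frame
open Cfsg.Agent.Omega.NO3S.EMany.AltQ
open Cfsg.Agent.Omega.NO3S.EMany.FourQ

universe u

variable {G : Type u} [Group G]

section nb

variable [Finite G] {B L V Z : Subgroup G} {q : ℕ} (h : NB B L V Z q)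
include h

theorem ti {x y : G} (hx : x ∈ L) (hy : y ∈ L) (hne : cj x Z ⊓ cj y Z ≠ ⊥) : cj x Z = cj y Z := by
  by_contra hcon
  apply hne
  have h1 : cj (y⁻¹ * x) Z ≠ Z := by
    intro e
    apply hcon
    have h2 := congrArg (cj y) e
    rwa [cj_cj, mul_inv_cancel_left] at h2
  have h2 := h.tri' (mul_mem (inv_mem hy) hx) h1
  have h3 := congrArg (cj y) h2
  rw [cj_inf, cj_cj, mul_inv_cancel_left] at h3
  rw [h3]
  exact Subgroup.map_bot _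

/-- `N_L(B)` is transitive on `V / Z - 1`. -/
theorem trN (hB : IsPGroup 2 B) (hr : Rt B V Z) {k : G} (hk : k ∈ L) (hne : cj k Z ≠ Z) {y₁ y₂ : G}
    (h1 : y₁ ∈ cj k Z) (h11 : y₁ ≠ 1) (h2 : y₂ ∈ cj k Z) (h21 : y₂ ≠ 1) :
    ∃ x ∈ L, x ∈ normalizer (B : Set G) ∧ x * y₁ * x⁻¹ * y₂⁻¹ ∈ Z := by
  -- `n ∈ N_L(B^k)`, `n y₁ n⁻¹ = y₂`
  obtain ⟨z₁, hz₁, rfl⟩ := h1
  obtain ⟨z₂, hz₂, rfl⟩ := h2
  change z₁ ∈ Z at hz₁
  change z₂ ∈ Z at hz₂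
  change k * z₁ * k⁻¹ ≠ 1 at h11
  change k * z₂ * k⁻¹ ≠ 1 at h21
  show ∃ x ∈ L, x ∈ normalizer (B : Set G) ∧ x * (k * z₁ * k⁻¹) * x⁻¹ * (k * z₂ * k⁻¹)⁻¹ ∈ Z
  obtain ⟨n₀, hn₀, hn₀B, e₀⟩ := h.tor' hz₁ (fun e => h11 (by rw [e]; group)) hz₂ (fun e => h21 (by rw [e]; group))
  -- `n = k n₀ k⁻¹`
  set n := k * n₀ * k⁻¹ with hn
  have hnL : n ∈ L := mul_mem (mul_mem hk hn₀) (inv_mem hk)
  have hnY : cj n (cj k Z) = cj k Z := by
    have h3 : cj n₀ Z = Z := by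
      refine Subgroup.eq_of_le_of_card_ge ?_ (by rw [card_cj])
      rintro _ ⟨z, hz, rfl⟩
      exact h.nZ hn₀ hn₀B hz
    rw [hn, cj_cj, inv_mul_cancel_right, ← cj_cj, h3]
  -- `Y' = Z^n ≠ Z^k`
  have hY' : cj n Z ≠ cj k Z := by
    intro e
    apply hne
    rw [← hnY] at e
    have h3 := congrArg (cj n⁻¹) e
    rw [cj_inv_cj, cj_inv_cj] at h3
    exact h3.symm
  obtain ⟨z, hz, hz1⟩ : ∃ z ∈ Z, z ≠ 1 := ⟨z₁, hz₁, fun e => h11 (by rw [e]; group)⟩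
  -- `z = y y'`
  obtain ⟨y, hy, y', hy', ez⟩ : ∃ y ∈ cj k Z, ∃ y' ∈ cj n Z, z = y * y' := by
    have h3 := sup_eq (h.conj k) (x := n * k⁻¹) ⟨k⁻¹ * n, mul_mem (inv_mem hk) hnL, by
      show k * (k⁻¹ * n) * k⁻¹ = n * k⁻¹
      group⟩ (by
      rw [cj_cj, inv_mul_cancel_right]
      exact hY')
    rw [cj_cj, inv_mul_cancel_right] at h3
    have hV : cj k V = V := by
      refine Subgroup.eq_of_le_of_card_ge ?_ (by rw [card_cj])
      rintro _ ⟨v, hv, rfl⟩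
      exact h.nV k hk v hv
    rw [hV] at h3
    have hz' : z ∈ cj k Z ⊔ cj n Z := by rw [h3]; exact h.ZV hz
    exact mem_sup_comm (fun a ha b hb => h.comm (h.cjV hk ha) (h.cjV hnL hb)) hz'
  have hzk : cj k Z ⊓ Z = ⊥ := h.tri' hk hne
  have hy'k : y' ∉ cj k Z := by
    intro hc
    have h3 : z ∈ cj k Z ⊓ Z := mem_inf.2 ⟨by rw [ez]; exact mul_mem hy hc, hz⟩
    rw [hzk, mem_bot] at h3
    exact hz1 h3
  -- `b ∈ B^k` with `b y' b⁻¹ = z`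
  obtain ⟨b₀, hb₀, e₁⟩ := hr (k⁻¹ * y' * k) (h.toFB.nV' hk (h.cjV hnL hy')) (fun hc => hy'k (by rw [mem_cj]; exact hc))
    (k⁻¹ * y * k) (mem_cj.1 hy)
  set b := k * b₀ * k⁻¹ with hb
  have hbL : b ∈ L := mul_mem (mul_mem hk (h.BL hb₀)) (inv_mem hk)
  have e₂ : b * y' * b⁻¹ = z := by
    have h3 : b * y' * b⁻¹ * y'⁻¹ = y := by
      calc b * y' * b⁻¹ * y'⁻¹ = k * (b₀ * (k⁻¹ * y' * k) * b₀⁻¹ * (k⁻¹ * y' * k)⁻¹) * k⁻¹ := by rw [hb]; group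
        _ = y := by rw [e₁]; group
    rw [ez, ← h3]; group
  have hbn : cj (b * n) Z = Z := by
    have h3 : cj (b * n) Z ⊓ cj 1 Z ≠ ⊥ := by
      intro hbot
      have h4 : z ∈ cj (b * n) Z ⊓ cj 1 Z := by
        refine mem_inf.2 ⟨?_, by rw [cj_one]; exact hz⟩
        rw [← cj_cj, ← e₂]
        exact ⟨y', hy', rfl⟩
      rw [hbot, mem_bot] at h4
      exact hz1 h4
    have h4 := ti h (mul_mem hbL hnL) (one_mem L) h3
    rwa [cj_one] at h4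
  -- `m = b n`
  set m := b * n with hm
  have hmL : m ∈ L := mul_mem hbL hnL
  have e₃ : m * (k * z₁ * k⁻¹) * m⁻¹ = k * z₂ * k⁻¹ := by
    have h3 : b₀ * z₂ = z₂ * b₀ := h.cZ b₀ hb₀ z₂ hz₂
    calc m * (k * z₁ * k⁻¹) * m⁻¹ = k * (b₀ * (n₀ * z₁ * n₀⁻¹) * b₀⁻¹) * k⁻¹ := by rw [hm, hb, hn]; group
      _ = k * (z₂ * b₀ * b₀⁻¹) * k⁻¹ := by rw [e₀, h3]
      _ = k * z₂ * k⁻¹ := by group
  -- the elements trivial on `Z` and `V / Z`
  let X : Subgroup G :=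
    { carrier := {x | x ∈ L ∧ (∀ z ∈ Z, x * z * x⁻¹ = z) ∧ ∀ v ∈ V, x * v * x⁻¹ * v⁻¹ ∈ Z}
      one_mem' := ⟨one_mem _, fun z _ => by group, fun v _ => by
        have : (1 : G) * v * 1⁻¹ * v⁻¹ = 1 := by group
        rw [this]; exact one_mem _⟩
      mul_mem' := by
        rintro a b ⟨ha, ha1, ha2⟩ ⟨hb, hb1, hb2⟩
        refine ⟨mul_mem ha hb, fun z hz => ?_, fun v hv => ?_⟩
        · calc a * b * z * (a * b)⁻¹ = a * (b * z * b⁻¹) * a⁻¹ := by group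
            _ = z := by rw [hb1 z hz, ha1 z hz]
        · have e : a * b * v * (a * b)⁻¹ * v⁻¹ = a * (b * v * b⁻¹ * v⁻¹) * a⁻¹ * (a * v * a⁻¹ * v⁻¹) := by group
          rw [e, ha1 _ (hb2 v hv)]
          exact mul_mem (hb2 v hv) (ha2 v hv)
      inv_mem' := by
        rintro a ⟨ha, ha1, ha2⟩
        have ha1' : ∀ z ∈ Z, a⁻¹ * z * a⁻¹⁻¹ = z := fun z hz => by
          conv_lhs => rw [← ha1 z hz]
          group
        refine ⟨inv_mem ha, ha1', fun v hv => ?_⟩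
        have e : a⁻¹ * v * a⁻¹⁻¹ * v⁻¹ = a⁻¹ * (a * v * a⁻¹ * v⁻¹)⁻¹ * a⁻¹⁻¹ := by group
        rw [e, ha1' _ (inv_mem (ha2 v hv))]
        exact inv_mem (ha2 v hv) }
  have hXL : X ≤ L := fun x hx => hx.1
  have hBX : B ≤ X := fun x hx => ⟨h.BL hx, fun z hz => by rw [h.cZ x hx z hz]; group, fun v hv => h.com x hx v hv⟩
  have hmX : cj m X = X := by
    refine Subgroup.eq_of_le_of_card_ge ?_ (by rw [card_cj])
    rintro _ ⟨x, hx, rfl⟩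
    obtain ⟨hx, hx1, hx2⟩ := (hx : x ∈ X)
    show m * x * m⁻¹ ∈ X
    have hmz : ∀ z ∈ Z, m⁻¹ * z * m ∈ Z := fun z hz => by
      rw [← hbn] at hz
      exact mem_cj.1 hz
    have hmz' : ∀ z ∈ Z, m * z * m⁻¹ ∈ Z := fun z hz => by
      rw [← hbn]
      exact ⟨z, hz, rfl⟩
    refine ⟨mul_mem (mul_mem hmL hx) (inv_mem hmL), fun z hz => ?_, fun v hv => ?_⟩
    · calc m * x * m⁻¹ * z * (m * x * m⁻¹)⁻¹ = m * (x * (m⁻¹ * z * m) * x⁻¹) * m⁻¹ := by group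
        _ = z := by rw [hx1 _ (hmz z hz)]; group
    · have e : m * x * m⁻¹ * v * (m * x * m⁻¹)⁻¹ * v⁻¹ =
          m * (x * (m⁻¹ * v * m) * x⁻¹ * (m⁻¹ * v * m)⁻¹) * m⁻¹ := by group
      rw [e]
      exact hmz' _ (hx2 _ (h.toFB.nV' hmL hv))
  have hBs : Syl B X := ⟨hBX, hB, fun Q hQ h3 hle => h.syl Q hle (hQ.trans hXL) h3⟩
  have hBm : Syl (cj m B) X := by
    refine ⟨?_, isPGroup_cj m hB, fun Q hQ h3 hle => ?_⟩
    · rw [← hmX]; exact cj_mono m hBX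
    · have h4 := hBs.2.2 (cj m⁻¹ Q) (by rw [cj_le_iff, inv_inv, hmX]; exact hQ) (isPGroup_cj _ h3) (by
        rw [← cj_inv_cj m B]; exact cj_mono _ hle)
      have h5 := congrArg (cj m) h4
      rwa [cj_cj, mul_inv_cancel, cj_one] at h5
  obtain ⟨x, hx, ex⟩ := syl_conj hBm hBs
  refine ⟨x * m, mul_mem hx.1 hmL, ?_, ?_⟩
  · rw [mem_normalizer_iff_cj, ← cj_cj, ex]
  · have h3 := hx.2.2 _ (h.nV k hk z₂ (h.ZV hz₂))
    have e : x * m * (k * z₁ * k⁻¹) * (x * m)⁻¹ * (k * z₂ * k⁻¹)⁻¹ =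
        x * (m * (k * z₁ * k⁻¹) * m⁻¹) * x⁻¹ * (k * z₂ * k⁻¹)⁻¹ := by group
    rw [e, e₃]
    exact h3

end nb

section bg

variable [Finite G] {S : Sylow 2 G} {P : Subgroup G} {ι : Type} {B ZJ : Subgroup G}
  {L W Z C : ι → Subgroup G} {q : ℕ} (h : Bg S P B ZJ L W Z C q)
include h

/-- `[v, B] = Z i` for `v ∈ V' - Z i`, `V' ≤ W i Z_J`. -/
theorem rt' {i : ι} {L' V' : Subgroup G} (hN : NB B L' V' (Z i) q) (hV : V' ≤ W i ⊔ ZJ) : Rt B V' (Z i) := by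
  intro v hv hvZ z hz
  obtain ⟨w, hw, c, hc, rfl⟩ := mem_sup_comm
    (fun a ha b hb => h.fr.Vc (h.fr.WV i ha) (h.fr.ZJV hb)) (hV hv)
  have hcB := ((h.fr.mem_ZJ c).1 hc).2
  have hwZ : w ∉ Z i := by
    intro hwZ
    refine hvZ (hN.toMd.mem_Z_iff.2 ⟨hv, fun b hb => ?_⟩)
    have c1 : Commute b w := h.fr.blk i |>.cZ b hb w hwZ
    have c2 : Commute b c := hcB b hb
    exact (c1.mul_right c2).eq
  obtain ⟨b, hb, e⟩ := rt h i w hw hwZ z hz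
  refine ⟨b, hb, ?_⟩
  have e2 : b * c * b⁻¹ = c := by rw [hcB b hb]; group
  calc b * (w * c) * b⁻¹ * (w * c)⁻¹ = b * w * b⁻¹ * (b * c * b⁻¹) * c⁻¹ * w⁻¹ := by group
    _ = b * w * b⁻¹ * w⁻¹ := by rw [e2]; group
    _ = z := e

/-- **`V_{L'} = W i`** -/
theorem V_eq [Finite ι] (hq : 2 < q) {i : ι} {L' V' : Subgroup G} (hN : NB B L' V' (Z i) q) (hV : V' ≤ W i ⊔ ZJ)
    (hcen : ∀ z ∈ ZJ, z ∈ C i → ∀ l ∈ L', l * z = z * l) : V' = W i := by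
  refine Subgroup.eq_of_le_of_card_ge ?_ (by rw [hN.card, (h.fr.blk i).card])
  -- `[V', N_{L'}(B)] ≤ W i`
  have key : ∀ x ∈ L', x ∈ normalizer (B : Set G) → ∀ v ∈ V', x * v * x⁻¹ * v⁻¹ ∈ W i := by
    intro x hx hxB v hv
    obtain ⟨w, hw, c, hc, rfl⟩ := mem_sup_comm
      (fun a ha b hb => h.fr.Vc (h.fr.WV i ha) (h.fr.ZJV hb)) (hV hv)
    obtain ⟨z, hz, d, hd, hdJ, rfl⟩ := h.fr.split_ZJ i hc
    have hxZ : cj x (Z i) = Z i := by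
      refine Subgroup.eq_of_le_of_card_ge ?_ (by rw [card_cj])
      rintro _ ⟨z, hz, rfl⟩
      exact hN.nZ hx hxB hz
    have hxW : cj x (W i) = W i := h.cj_W hxB hxZ
    have hwz : w * z ∈ W i := mul_mem hw ((h.fr.blk i).ZV hz)
    have h1 : x * (w * z) * x⁻¹ ∈ cj x (W i) := ⟨_, hwz, rfl⟩
    rw [hxW] at h1
    have h2 : x * d * x⁻¹ = d := by rw [hcen d hdJ hd x hx]; group
    have e : x * (w * (z * d)) * x⁻¹ * (w * (z * d))⁻¹ = x * (w * z) * x⁻¹ * (x * d * x⁻¹) * d⁻¹ * (w * z)⁻¹ := by group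
    rw [e, h2, mul_inv_cancel_right]
    exact mul_mem h1 (inv_mem hwz)
  obtain ⟨k, hk, hne⟩ := exists_ne hN
  rw [← sup_eq hN hk hne]
  refine sup_le (h.fr.blk i).ZV fun y₀ hy₀ => ?_
  by_cases hy01 : y₀ = 1
  · rw [hy01]; exact one_mem _
  -- `y₁ ≠ 1, y₀`
  have hcard : Nat.card (cj k (Z i)) = q := by rw [card_cj, h.fr.cardZ]
  obtain ⟨y₁, hy₁, h1, h2⟩ : ∃ y ∈ cj k (Z i), y ≠ 1 ∧ y ≠ y₀⁻¹ := by
    by_contra hcon
    push Not at hcon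
    have h1 : (cj k (Z i) : Set G) ⊆ {1, y₀⁻¹} := by
      intro x hx
      by_cases hx1 : x = 1
      · exact Or.inl hx1
      · exact Or.inr (hcon x hx hx1)
    have h2 := Set.ncard_le_ncard h1 (Set.toFinite _)
    have h3 : (cj k (Z i) : Set G).ncard = Nat.card (cj k (Z i)) := rfl
    rw [h3, hcard] at h2
    have h4 := Set.ncard_insert_le (1 : G) {y₀⁻¹}
    rw [Set.ncard_singleton] at h4
    omega
  have hy₂ : y₀ * y₁ ∈ cj k (Z i) := mul_mem hy₀ hy₁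
  have hy₂1 : y₀ * y₁ ≠ 1 := fun e => h2 (eq_inv_of_mul_eq_one_right e)
  obtain ⟨x, hx, hxB, hxy⟩ := trN hN h.bau_two (rt' h hN hV) hk hne hy₁ h1 hy₂ hy₂1
  have h3 := key x hx hxB y₁ (hN.cjV hk hy₁)
  -- `x y₁ x⁻¹ = z y₀ y₁`
  have h4 : y₀ = (x * y₁ * x⁻¹ * (y₀ * y₁)⁻¹)⁻¹ * (x * y₁ * x⁻¹ * y₁⁻¹) := by
    have hc : y₁ * y₀ = y₀ * y₁ := hN.comm (hN.cjV hk hy₁) (hN.cjV hk hy₀)
    group
  rw [h4]
  exact mul_mem (inv_mem ((h.fr.blk i).ZV hxy)) h3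

end bg

section bs

variable [Finite G] {S : Sylow 2 G} {P : Subgroup G} {ι : Type} {L W Z C A : ι → Subgroup G} {q m : ℕ}
  (h : Bs S P L W Z C A q m) (hs : 2 < q → ∀ i, Scal (S : Subgroup G) P W Z C i)
include h hs

/-- Every block over `B` is a block at some `n`. -/
theorem blkQ [Finite ι] (h4 : q = 2 → Nat.card (zj (S : Subgroup G)) ≠ 4) {L' V' Z' : Subgroup G} {q' : ℕ}
    (h' : FB (bau (S : Subgroup G)) L' V' Z' q') : ∃ n, BlkQ (zj (S : Subgroup G)) W Z C n L' := by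
  have hq := h'.one
  obtain ⟨rfl, n, rfl, hN, h1⟩ := UniPlus.uniPlus' h.hyp.ctx.char2 h.fr h.bau_two (UniPlus.wc_bau S)
    (fun g hg w hw v hv => by
      rw [(h.norm hg).1] at hw
      exact h.fr.Vc hw hv) h.two h'
  rcases h1 with ⟨h0, h2, h3⟩ | ⟨hq2, h2, -⟩
  · have hcen : ∀ z ∈ zj (S : Subgroup G), z ∈ C n → ∀ l ∈ L', l * z = z * l := fun z hz hzC l hl => (h2 z hz).1 hzC l hl
    have hV : V' = W n := by
      by_cases hq2 : q' = 2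
      · exact (h3 hq2).1
      · exact V_eq (Bg.of_bs h hs) (by omega) hN h0 hcen
    refine ⟨n, hcen, ?_, fun hc => ?_⟩
    · rw [← hV]
      exact ML.MinFrame.le_normalizer_of fun g hg v hv => hN.nV g hg v hv
    · obtain ⟨k, hk, hne⟩ := exists_ne hN
      exact hne (mem_normalizer_iff_cj.1 (hc hk))
  · exact absurd h2 (h4 hq2)

/-- **`DichQ` at stage `-1`.** -/
theorem dichQ [Finite ι] (hFF : FFThm.Stmt.{u}) (hA : FFBr.AStmt.{u})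
    (h4 : q = 2 → Nat.card (zj (S : Subgroup G)) ≠ 4) {i : ι} {b : G} (hb : b ∈ Z i) (hb1 : b ≠ 1)
    (hbT : (S : Subgroup G) ⊓ normalizer (Z i : Set G) ≤ centralizer ({b} : Set G)) :
    DichQ (zj (S : Subgroup G)) W Z C ((S : Subgroup G) ⊓ normalizer (Z i : Set G)) b := by
  intro Y hY hYb
  set T : Subgroup G := (S : Subgroup G) ⊓ normalizer (Z i : Set G) with hTd
  have hT0 : Syl T (centralizer ({b} : Set G)) := syl_b (Bg.of_bs h hs) hb hb1 hbT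
  have hT : Syl T Y := ⟨hY.le, hT0.2.1, fun Q hQ h3 hle => hT0.2.2 Q (hQ.trans hYb) h3 hle⟩
  have hBT : bau (S : Subgroup G) ≤ T := h.bau_le_T i
  by_cases hJ : jj T ≤ o2 Y
  · left
    have h3 : jj (o2 Y) = jj T := Cfsg.Agent.ZN.ChoiceBase.jj_eq_of_jj_le hJ (o2_le_syl hT)
    have h4 : Y ≤ normalizer (jj (S : Subgroup G) : Set G) := by
      rw [← LemmaK.Main.jj_eq S hT.2.1 hBT, ← h3]
      exact (le_normalizer_o2 Y).trans (normalizer_le_jj _)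
    refine h4.trans ?_
    have h7 := normalizer_le_of_cj (F := zj) zj_cj (jj (S : Subgroup G))
    have h8 : zj (jj (S : Subgroup G)) = zj (S : Subgroup G) := zj_congr (jj_eq_of_jj_le le_rfl (jj_le _))
    rwa [h8] at h7
  right
  by_cases hZ : Y ≤ centralizer (zc T : Set G)
  · left
    exact le_centralizer_iff.1 (FixPt.fixPt hA hT hY hJ hZ)
  right
  have hb2 : b ^ 2 = 1 := SQ1.Bau.elem_sq h.fr.el b (h.fr.ZV i hb)
  have hc : Y ⊓ centralizer (o2 Y : Set G) ≤ o2 Y :=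
    MinSimple.Basic.char2_of_le (MinSimple.Basic.char2_centralizer h.hyp.ctx.char2 hb2 hb1)
      ((o2_le_syl hT0).trans hY.le) hYb
  obtain ⟨L', V', Z', q', h1, h2, h3⟩ := FourD.exists_fb hFF S hT hBT hY hc hJ hZ
  obtain ⟨n, hn⟩ := blkQ h hs h4 h1
  exact ⟨n, L', h2, h3, hn⟩

end bs

end Cfsg.Agent.Omega.NO3S.EMany.FourDQ
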