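import Cfsg.Agent.Omega.NO3S.EMany.LowEnd
import Cfsg.Agent.Omega.ML.Ex.RedDef

/-!
# EXACT + LOW: the general input `InpG` (bb #22180 (3), #22451 (B3), #22781 (4), #22648 (3), #21609 (4), #21788 (f5)-(f7))

* `LB.exists_sysW`, `LB.exists_sysE` : from `LB` and `T`-fixed vectors of `M`;
* `InpG T F S` : **the input**: `X` acts on `M` (not necessarily faithfully), `T` a Sylow 2-subgroup, `F` an exact atom on
  `M`, `F ≰ O₂(X)`, `S` a set of `T`-fixed vectors, `F ≤ O₂(C_X(m))` for all `m ∈ S`, `N_X(T)` and every `T`-minimal `P`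
  fix a member of `S`;
* **`InpG.exists_sysE`** : (ML) and `InpG` give `SysE` for a section of `(X, M)`;
* `InpG.nT_of` : `F ≰ O₂(X)` if `M = ⟨z^X⟩`, `z` fixed by `T`;
* `SysE.odd` : `O(H) = 1`;  **`SysE.mn`** : the input `Red.Mn` of THEOREM RED.
-/

set_option autoImplicit false

namespace Cfsg.Agent.Omega.NO3S.EMany.Low

open Subgroup Cfsg Cfsg.Agent.ZN Cfsg.Agent.ClassTwoFusion.Quad Cfsg.Agent.Omega.ML.MinFrame
open Cfsg.Agent.Omega.ML.Final
open Cfsg.Agent.MinSimple.VModule (o2_isPGroup o2_le le_o2 le_normalizer_o2 o2_le_of_sylow)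
open Cfsg.Agent.MinSimple.MinParabolic (IsMinPar le_of_forall)

universe u v

section

variable {H : Type u} [Group H] [Finite H] {M : Type v} [Group M] [Finite M] [MulDistribMulAction H M]
  {T B : Subgroup H}

/-- a `T`-fixed vector has a translate in `U¹` with the same stabilisers -/
theorem LB.shift (h : LB H M T B) {m : M} (tm : ∀ t ∈ T, t • m = m) :
    ∃ m' ∈ cmm M B, ∀ g : H, g • m' = m' ↔ g • m = m := by
  obtain ⟨m0, h1, h2⟩ := exists_fix_coset (T := T) (R := ⊤) h.sq (by rw [relIndex_top_right]; exact h.syl) tm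
    (I := cmm M B) (fun g _ => h.orb_eq tm g)
  refine ⟨m0 * m⁻¹, h2, fun g => ?_⟩
  rw [smul_mul', smul_inv', h1 g (mem_top g)]
  exact ⟨fun h3 => inv_injective (mul_left_cancel h3), fun h3 => by rw [h3]⟩

/-- **`SysW` from `LB`** and vectors of `M` -/
theorem LB.exists_sysW (h : LB H M T B) (hM : MLK.{u, v}) {x y : M} (tx : ∀ t ∈ T, t • x = x)
    (ty : ∀ t ∈ T, t • y = y) (hy : ¬ ∀ g : H, g • y = y)
    (mov : ∃ P : Subgroup H, IsMinPar T P ∧ (∃ p ∈ P, p • x ≠ x) ∧ ∀ p ∈ P, p • y = y)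
    (fP : ∀ P : Subgroup H, IsMinPar T P → ∃ m : M, (¬ ∀ g : H, g • m = m) ∧ ∀ p ∈ P, p • m = m) :
    ∃ (H' : Type u) (_ : Group H') (_ : Finite H') (N : Type v) (_ : Group N) (_ : Finite N)
      (_ : MulDistribMulAction H' N) (π : H →* H') (f : ↥(cmm M B) →* N) (A' : Subgroup H') (x' y' : N),
      Out H M T B H' N π f A' ∧ SysW (T.map π) A' x' y' := by
  obtain ⟨x', hxU, hx'⟩ := h.shift tx
  obtain ⟨y', hyU, hy'⟩ := h.shift ty
  obtain ⟨P, hP, ⟨p, hp, hpx⟩, hPy⟩ := mov
  obtain ⟨H', i1, i2, N, i3, i4, i5, π, f, A', o, hs⟩ := h.exists_sysW₀ hM (x := x') (y := y')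
    (fun t ht => (hx' t).2 (tx t ht)) (fun t ht => (hy' t).2 (ty t ht)) hxU hyU
    (fun hc => hy fun g => (hy' g).1 (hc g)) ⟨P, hP, ⟨p, hp, fun hc => hpx ((hx' p).1 hc)⟩, fun q hq => (hy' q).2 (hPy q hq)⟩
    (fun P hP => by
      obtain ⟨m, hm, hPm⟩ := fP P hP
      obtain ⟨m', hmU, hm'⟩ := h.shift (fun t ht => hPm t (hP.le ht))
      exact ⟨m', hmU, fun hc => hm fun g => (hm' g).1 (hc g), fun q hq => (hm' q).2 (hPm q hq)⟩)
  exact ⟨H', i1, i2, N, i3, i4, i5, π, f, A', _, _, o, hs⟩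

/-- **`SysE` from `LB`** and vectors of `M` -/
theorem LB.exists_sysE (h : LB H M T B) (hM : MLK.{u, v}) {x y : M} (tx : ∀ t ∈ T, t • x = x)
    (ty : ∀ t ∈ T, t • y = y) (hy : ¬ ∀ g : H, g • y = y)
    (mov : ∃ P : Subgroup H, IsMinPar T P ∧ (∃ p ∈ P, p • x ≠ x) ∧ ∀ p ∈ P, p • y = y)
    (fN : ∃ m : M, (¬ ∀ g : H, g • m = m) ∧ ∀ g ∈ normalizer (T : Set H), g • m = m)
    (fP : ∀ P : Subgroup H, IsMinPar T P → ∃ m : M, (¬ ∀ g : H, g • m = m) ∧ ∀ p ∈ P, p • m = m) :
    ∃ (H' : Type u) (_ : Group H') (_ : Finite H') (N : Type v) (_ : Group N) (_ : Finite N)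
      (_ : MulDistribMulAction H' N) (π : H →* H') (f : ↥(cmm M B) →* N) (A' : Subgroup H') (x' y' : N),
      Out H M T B H' N π f A' ∧ SysE (T.map π) A' x' y' := by
  obtain ⟨H', i1, i2, N, i3, i4, i5, π, f, A', x', y', o, hs⟩ := h.exists_sysW hM tx ty hy mov fP
  refine ⟨H', i1, i2, N, i3, i4, i5, π, f, A', x', y', o, ⟨hs, ?_⟩⟩
  obtain ⟨m, hm, hNm⟩ := fN
  obtain ⟨m', hmU, hm'⟩ := h.shift (fun t ht => hNm t (le_normalizer ht))
  exact o.fixN h ⟨m', hmU, fun hc => hm fun g => (hm' g).1 (hc g), fun q hq => (hm' q).2 (hNm q hq)⟩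

end

/-! ### The input -/

/-- **The input** -/
structure InpG {X : Type u} [Group X] {M : Type v} [Group M] [MulDistribMulAction X M] (T F : Subgroup X)
    (S : Set M) : Prop where
  sq : ∀ m : M, m * m = 1
  two : IsPGroup 2 T
  syl : ¬ 2 ∣ T.index
  el : ∀ a ∈ F, a * a = 1
  exact : (cv M (F : Set X)).index = Nat.card F
  atom : ∀ C : Subgroup X, C ≤ F → C ≠ ⊥ → C ≠ F → Nat.card C < (cv M (C : Set X)).index
  nT : ¬ F ≤ o2 (⊤ : Subgroup X)
  tS : ∀ m ∈ S, ∀ t ∈ T, t • m = m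
  low : ∀ m ∈ S, F ≤ o2 (MulAction.stabilizer X m)
  /-- `N_X(T)` fixes a member of `S` -/
  nN : ∃ m ∈ S, ∀ g ∈ normalizer (T : Set X), g • m = m
  /-- every `T`-minimal `P` fixes a member of `S` -/
  uni : ∀ P : Subgroup X, IsMinPar T P → ∃ m ∈ S, ∀ p ∈ P, p • m = m
  KH : IsKGroup X

namespace InpG

variable {X : Type u} [Group X] [Finite X] {M : Type v} [Group M] [Finite M] [MulDistribMulAction X M]
  {T F : Subgroup X} {S : Set M}

omit [Finite X] [Finite M] in
/-- a subgroup of `O₂(C_X(m)) ∩ H` is in `O₂(H)` if `H` fixes `m` -/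
theorem o2_le_o2_of_le {H R : Subgroup X} (hHR : H ≤ R) : o2 R ⊓ H ≤ o2 H :=
  KL.GenTool.o2_inf_le le_rfl (fun _ hg _ hx => H.mul_mem (H.mul_mem hg hx) (H.inv_mem hg)) hHR

omit [Finite M] in
/-- `F ≤ T` -/
theorem FT (i : InpG T F S) : F ≤ T := by
  obtain ⟨m, hm, -⟩ := i.nN
  refine (i.low m hm).trans (o2_le_of_sylow i.two fun h2 => i.syl (h2.trans (relIndex_dvd_index_of_le ?_)))
  exact fun t ht => i.tS m hm t ht

omit [Finite M] in
/-- `F ≰ O₂(X)` if `M = ⟨z^X⟩` -/
theorem nT_of (two : IsPGroup 2 T) (syl : ¬ 2 ∣ T.index) (hF : F ≠ ⊥)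
    (exact : (cv M (F : Set X)).index = Nat.card F) {z : M} (tz : ∀ t ∈ T, t • z = z)
    (gen : orb (⊤ : Subgroup X) z = ⊤) : ¬ F ≤ o2 (⊤ : Subgroup X) := by
  intro hc
  have hT : o2 (⊤ : Subgroup X) ≤ T := o2_le_of_sylow two (by rw [relIndex_top_right]; exact syl)
  have h1 : cv M (F : Set X) = ⊤ := by
    rw [eq_top_iff, ← gen]
    refine orb_le fun g _ b hb => ?_
    have h1 : g⁻¹ * b * g ∈ o2 (⊤ : Subgroup X) := by
      have := (mem_normalizer_iff.1 (le_normalizer_o2 (⊤ : Subgroup X) (mem_top g⁻¹)) b).1 (hc hb)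
      rwa [inv_inv] at this
    have h2 := tz _ (hT h1)
    rwa [mul_smul, mul_smul, inv_smul_eq_iff] at h2
  rw [h1, index_top] at exact
  exact hF (Subgroup.eq_bot_of_card_eq _ exact.symm)

/-- **the machine for `InpG`** -/
theorem exists_sysE (i : InpG T F S) (hM : MLK.{u, v}) :
    ∃ (H : Type u) (_ : Group H) (_ : Finite H) (N : Type v) (_ : Group N) (_ : Finite N)
      (_ : MulDistribMulAction H N) (T' A' : Subgroup H) (x' y' : N), SysE T' A' x' y' := by
  -- `H` minimal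
  obtain ⟨H, ⟨hTH, hFH⟩, hmin⟩ : ∃ H : Subgroup X, (T ≤ H ∧ ¬ F ≤ o2 H) ∧
      ∀ R : Subgroup X, (T ≤ R ∧ ¬ F ≤ o2 R) → R ≤ H → R = H := by
    have hfin : {H : Subgroup X | T ≤ H ∧ ¬ F ≤ o2 H}.Finite := Set.toFinite _
    obtain ⟨A, hA⟩ := hfin.exists_minimal ⟨⊤, le_top, i.nT⟩
    exact ⟨A, hA.1, fun C hC hCA => le_antisymm hCA (hA.2 hC hCA)⟩
  have hFT := i.FT
  have hFH' : F ≤ H := hFT.trans hTH
  have e1 : ∀ {C : Subgroup X}, C ≤ H → (C.subgroupOf H).map H.subtype = C := fun {C} hC => by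
    rw [subgroupOf_map_subtype, inf_eq_left.2 hC]
  have hcv : ∀ C : Subgroup H, cv M (C : Set H) = cv M ((C.map H.subtype : Subgroup X) : Set X) := by
    intro C
    ext m
    constructor
    · rintro hm _ ⟨c, hc, rfl⟩
      exact hm c hc
    · exact fun hm c hc => hm _ ⟨c, hc, rfl⟩
  have hcard : ∀ C : Subgroup H, Nat.card (C.map H.subtype) = Nat.card C := fun C =>
    card_map_of_injective H.subtype_injective
  have hlb : LB H M (T.subgroupOf H) (F.subgroupOf H) := by
    refine ⟨i.sq, i.two.comap_subtype, fun h2 => ?_, fun x hx => hFT hx, fun b hb => Subtype.ext (i.el b hb), ?_, ?_, ?_, ?_,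
      sec_KG.sub X i.KH H⟩
    · exact i.syl (h2.trans (relIndex_dvd_index_of_le hTH))
    · rw [hcv, e1 hFH', i.exact, ← hcard, e1 hFH']
    · intro C hC hC1 hCF
      rw [hcv, ← hcard]
      refine i.atom _ ?_ ?_ ?_
      · rintro _ ⟨c, hc, rfl⟩
        exact hC hc
      · intro h1
        exact hC1 ((Subgroup.map_eq_bot_iff_of_injective _ H.subtype_injective).1 h1)
      · intro h1
        apply hCF
        rw [← h1]
        exact (comap_map_eq_self_of_injective H.subtype_injective C).symm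
    · intro R hTR hR
      have h1 : R.map H.subtype ≠ H := by
        intro h2
        apply hR
        rw [eq_top_iff]
        intro r _
        have h3 : (r : X) ∈ R.map H.subtype := by
          rw [h2]
          exact r.2
        obtain ⟨s, hs, hsr⟩ := h3
        rwa [← (Subtype.ext hsr : s = r)]
      have h2 : T ≤ R.map H.subtype := fun t ht => ⟨⟨t, hTH ht⟩, hTR ht, rfl⟩
      have h3 : F ≤ o2 (R.map H.subtype) := by
        by_contra hc
        exact h1 (hmin _ ⟨h2, hc⟩ (map_subtype_le R))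
      exact fun x hx => KL.GenTool.o2_subgroupOf_le R (h3 hx)
    · intro hc
      apply hFH
      have h1 := (map_mono (f := H.subtype) hc).trans (KL.GenTool.o2_map_le H.subtype ⊤)
      rw [e1 hFH', ← MonoidHom.range_eq_map, H.range_subtype] at h1
      exact h1
  -- `H` moves every member of `S`
  have hmv : ∀ m ∈ S, ¬ ∀ g : H, g • m = m := by
    intro m hm hc
    apply hFH
    have h1 : H ≤ MulAction.stabilizer X m := fun g hg => hc ⟨g, hg⟩
    exact (le_inf (i.low m hm) hFH').trans (o2_le_o2_of_le h1)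
  have hS : ∀ m ∈ S, ∀ t ∈ T.subgroupOf H, t • m = m := fun m hm t ht => i.tS m hm _ ht
  have hP : ∀ P : Subgroup H, IsMinPar (T.subgroupOf H) P → ∃ m ∈ S, ∀ p ∈ P, p • m = m := by
    intro P hP
    obtain ⟨m, hm, hPm⟩ := i.uni _ (KL.GenTool.minPar_map_subtype hTH hP)
    exact ⟨m, hm, fun p hp => hPm _ ⟨p, hp, rfl⟩⟩
  obtain ⟨x, hxS, hxN⟩ := i.nN
  have hNx : ∀ g ∈ normalizer ((T.subgroupOf H : Subgroup H) : Set H), g • x = x := by
    intro g hg
    refine hxN g ?_
    rw [mem_normalizer_iff] at hg ⊢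
    intro t
    constructor
    · intro ht
      exact (hg ⟨t, hTH ht⟩).1 ht
    · intro ht
      have h1 : t ∈ H := by
        have h2 := H.mul_mem (H.mul_mem (H.inv_mem g.2) (hTH ht)) g.2
        have e : (g : X)⁻¹ * (g * t * (g : X)⁻¹) * g = t := by group
        rwa [e] at h2
      exact (hg ⟨t, h1⟩).2 ht
  -- a mover of `x`
  obtain ⟨P, hPm, hPx⟩ : ∃ P : Subgroup H, IsMinPar (T.subgroupOf H) P ∧ ¬ P ≤ MulAction.stabilizer H x := by
    by_contra hc
    push Not at hc
    have h1 : (⊤ : Subgroup H) ≤ MulAction.stabilizer H x :=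
      le_of_forall le_top (fun g hg => hNx g hg.2) fun P hP _ => hc P hP
    exact hmv x hxS fun g => h1 (mem_top g)
  obtain ⟨y, hyS, hPy⟩ := hP P hPm
  obtain ⟨p, hp, hpx⟩ := SetLike.not_le_iff_exists.1 hPx
  obtain ⟨H', i1, i2, N, i3, i4, i5, π, f, A', x', y', -, hs⟩ := hlb.exists_sysE hM (hS x hxS) (hS y hyS) (hmv y hyS)
    ⟨P, hPm, ⟨p, hp, hpx⟩, hPy⟩ ⟨x, hmv x hxS, hNx⟩ fun P hP' => by
      obtain ⟨m, hm, hPm⟩ := hP P hP'
      exact ⟨m, hmv m hm, hPm⟩
  exact ⟨H', i1, i2, N, i3, i4, i5, _, A', x', y', hs⟩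

end InpG

/-! ### `O(H) = 1` -/

section odd

variable {H : Type u} [Group H] [Finite H] {M : Type v} [Group M] [Finite M] [MulDistribMulAction H M]
  {T A : Subgroup H} {x y : M}

omit [Finite H] [Finite M] in
/-- a normal subgroup which fixes a non-trivial vector is trivial -/
theorem SysW.bot_of_fix (h : SysW T A x y) {N : Subgroup H} (hN : N.Normal) {m : M} (hm : m ≠ 1)
    (hf : ∀ n ∈ N, n • m = m) : N = ⊥ := by
  have h1 : cv M (N : Set H) = ⊤ := by
    refine (h.irr _ ?_).resolve_left ?_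
    · intro g w hw n hn
      have h2 := hw (g⁻¹ * n * g) (by simpa using hN.conj_mem n hn g⁻¹)
      rwa [mul_smul, mul_smul, inv_smul_eq_iff] at h2
    · intro h2
      have h3 : m ∈ cv M (N : Set H) := fun n hn => hf n hn
      rw [h2, mem_bot] at h3
      exact hm h3
  rw [eq_bot_iff]
  intro n hn
  exact mem_bot.2 (h.faith n fun w => (h1 ▸ mem_top w : w ∈ cv M (N : Set H)) n hn)

omit [Finite M] in
theorem SysW.o2_top (h : SysW T A x y) : o2 (⊤ : Subgroup H) = ⊥ := by
  refine h.bot_of_fix ?_ h.x1 fun n hn => h.tx n (o2_le_of_sylow h.two (by rw [relIndex_top_right]; exact h.syl) hn)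
  rw [← normalizer_eq_top_iff, eq_top_iff]
  exact le_normalizer_o2 _

omit [Finite M] in
theorem SysW.lb (h : SysW T A x y) : LB H M T A :=
  ⟨h.sq, h.two, h.syl, h.AT, h.el, h.exact, h.atom, h.low, fun hc => h.A1 (by
    rw [h.o2_top] at hc
    exact le_bot_iff.1 hc), h.KH⟩

omit [Finite H] in
theorem eq_one_of_odd {N Q : Subgroup H} (hN : Odd (Nat.card N)) (hQ : IsPGroup 2 Q) {z : H} (h1 : z ∈ N)
    (h2 : z ∈ Q) : z = 1 := by
  obtain ⟨n, hn⟩ := hQ ⟨z, h2⟩
  have h3 : z ^ 2 ^ n = 1 := congrArg Subtype.val hn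
  have h4 : orderOf z ∣ Nat.card N := by
    have := orderOf_dvd_natCard (⟨z, h1⟩ : N)
    rwa [orderOf_mk] at this
  have h5 : orderOf z ∣ 2 ^ n := orderOf_dvd_of_pow_eq_one h3
  have h6 : (orderOf z).Coprime (2 ^ n) := by
    refine Nat.Coprime.pow_right n ?_
    exact (Nat.coprime_comm.1 (Nat.coprime_two_left.2 (hN.of_dvd_nat h4)))
  have h7 : orderOf z = 1 := by
    have h8 := Nat.dvd_gcd (dvd_refl (orderOf z)) h5
    rw [h6] at h8
    exact Nat.dvd_one.1 h8
  exact orderOf_eq_one_iff.1 h7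

omit [Finite H] in
/-- `[N ∩ R, A] = 1` for `N` normal of odd order, `A ≤ O₂(R)` -/
theorem comm_odd {N R : Subgroup H} (hN : N.Normal) (hNo : Odd (Nat.card N)) {e b : H} (heN : e ∈ N) (heR : e ∈ R)
    (hb : b ∈ o2 R) : e * b = b * e := by
  have h4 : e * b * e⁻¹ ∈ o2 R := (mem_normalizer_iff.1 (le_normalizer_o2 R heR) b).1 hb
  have h5 : e * b * e⁻¹ * b⁻¹ = 1 := by
    refine eq_one_of_odd hNo (o2_isPGroup R) ?_ (mul_mem h4 (inv_mem hb))
    have h6 : b * e⁻¹ * b⁻¹ ∈ N := hN.conj_mem _ (inv_mem heN) b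
    have h7 : e * b * e⁻¹ * b⁻¹ = e * (b * e⁻¹ * b⁻¹) := by group
    rw [h7]
    exact mul_mem heN h6
  have h6 : e * b = (e * b * e⁻¹ * b⁻¹) * (b * e) := by group
  rw [h6, h5, one_mul]

omit [Finite M] in
/-- `O(H) = 1` -/
theorem SysE.odd (h : SysE T A x y) {N : Subgroup H} (hN : N.Normal) (hNo : Odd (Nat.card N)) : N = ⊥ := by
  have hgen : Km A ⊔ T = ⊤ := h.lb.gen
  by_cases hNT : N ⊔ T = ⊤
  · -- `N T = H`
    exfalso
    let D : Subgroup H := N ⊓ centralizer {z : H | ∃ t ∈ T, ∃ a ∈ A, z = t * a * t⁻¹}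
    have hDT : ∀ s ∈ T, ∀ d ∈ D, s * d * s⁻¹ ∈ D := by
      intro s hs d hd
      refine ⟨hN.conj_mem d hd.1 s, mem_centralizer_iff.2 ?_⟩
      rintro _ ⟨t, ht, a, ha, rfl⟩
      have h1 := mem_centralizer_iff.1 hd.2 _ ⟨s⁻¹ * t, mul_mem (inv_mem hs) ht, a, ha, rfl⟩
      have h2 := congrArg (fun w => s * w * s⁻¹) h1
      simp only [mul_inv_rev, inv_inv] at h2
      calc t * a * t⁻¹ * (s * d * s⁻¹) = s * (s⁻¹ * t * a * (t⁻¹ * s) * d) * s⁻¹ := by group
        _ = s * (d * (s⁻¹ * t * a * (t⁻¹ * s))) * s⁻¹ := h2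
        _ = s * d * s⁻¹ * (t * a * t⁻¹) := by group
    have hDn : T ≤ normalizer (D : Set H) := by
      intro s hs
      rw [mem_normalizer_iff]
      intro z
      refine ⟨hDT s hs z, fun hz => ?_⟩
      have h1 := hDT s⁻¹ (inv_mem hs) _ hz
      have h2 : s⁻¹ * (s * z * s⁻¹) * s⁻¹⁻¹ = z := by group
      rwa [h2] at h1
    refine h.nmax ⟨D ⊔ T, ?_, ?_⟩
    · intro htop
      -- `N` centralises all `T`-conjugates of `A`
      have hcen : ∀ n ∈ N, ∀ t ∈ T, ∀ a ∈ A, t * a * t⁻¹ * n = n * (t * a * t⁻¹) := by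
        intro e he t' ht' a ha
        have h2 : e ∈ ((D ⊔ T : Subgroup H) : Set H) := htop ▸ mem_top e
        rw [coe_mul_of_right_le_normalizer_left D T hDn] at h2
        obtain ⟨d, hd, t, ht, rfl⟩ := h2
        have h3 : t ∈ N := by
          have := N.mul_mem (N.inv_mem hd.1) he
          simpa using this
        have h4 : t = 1 := eq_one_of_odd hNo h.two h3 ht
        rw [h4]
        simp only [mul_one]
        exact mem_centralizer_iff.1 hd.2 _ ⟨t', ht', a, ha, rfl⟩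
      -- their closure is normal in `H`
      let K1 : Subgroup H := closure {z : H | ∃ t ∈ T, ∃ a ∈ A, z = t * a * t⁻¹}
      have hK1T : K1 ≤ T := by
        rw [closure_le]
        rintro _ ⟨t, ht, a, ha, rfl⟩
        exact T.mul_mem (T.mul_mem ht (h.AT ha)) (T.inv_mem ht)
      have hK1 : K1 ≤ o2 (⊤ : Subgroup H) := by
        refine le_o2 le_top (h.two.to_le hK1T) ?_
        rw [← hNT]
        refine sup_le ?_ ?_
        · intro n hn
          have h1 : n ∈ centralizer (K1 : Set H) := by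
            rw [centralizer_closure, mem_centralizer_iff]
            rintro _ ⟨t, ht, a, ha, rfl⟩
            exact hcen n hn t ht a ha
          exact centralizer_le_normalizer _ h1
        · have hconj : ∀ s ∈ T, ∀ k ∈ K1, s * k * s⁻¹ ∈ K1 := by
            intro s hs k hk
            have h1 : K1 ≤ K1.comap (MulAut.conj s).toMonoidHom := by
              rw [closure_le]
              rintro _ ⟨t, ht, a, ha, rfl⟩
              refine subset_closure ⟨s * t, T.mul_mem hs ht, a, ha, ?_⟩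
              change s * (t * a * t⁻¹) * s⁻¹ = _
              group
            exact h1 hk
          intro s hs
          rw [mem_normalizer_iff]
          intro z
          refine ⟨hconj s hs z, fun hz => ?_⟩
          have h1 := hconj s⁻¹ (inv_mem hs) _ hz
          have h2 : s⁻¹ * (s * z * s⁻¹) * s⁻¹⁻¹ = z := by group
          rwa [h2] at h1
      exact h.lb.nb fun a ha => hK1 (subset_closure ⟨1, one_mem T, a, ha, by group⟩)
    · intro R hTR hR
      have h1 : R ⊓ N ⊔ T = R := by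
        apply le_antisymm (sup_le inf_le_left hTR)
        intro r hr
        have h1 : r ∈ N ⊔ T := hNT ▸ mem_top r
        rw [mem_sup_of_normal_left] at h1
        obtain ⟨n, hn, s, hs, rfl⟩ := h1
        refine mul_mem_sup ⟨?_, hn⟩ hs
        have := R.mul_mem hr (R.inv_mem (hTR hs))
        rwa [mul_inv_cancel_right] at this
      rw [← h1]
      refine sup_le_sup_right ?_ T
      intro e he
      refine ⟨he.2, mem_centralizer_iff.2 ?_⟩
      rintro _ ⟨t, ht, a, ha, rfl⟩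
      have h3 : t * a * t⁻¹ ∈ o2 R := (mem_normalizer_iff.1 (le_normalizer_o2 R (hTR ht)) a).1 (h.low R hTR hR ha)
      exact (comm_odd hN hNo he.2 he.1 h3).symm
  · -- `N T < H` : `N` is centralised by `A`
    have hAN : Km A ≤ centralizer (N : Set H) := by
      refine Km_le inferInstance fun a ha => mem_centralizer_iff.2 fun n hn => ?_
      exact comm_odd hN hNo hn (mem_sup_left hn) (h.low _ le_sup_right hNT ha)
    -- no minimal parabolics in `N T`
    have hP : ∀ P : Subgroup H, IsMinPar T P → P ≤ N ⊔ T → False := by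
      intro P hP hPN
      have h4 : P ⊓ N ⊔ T = P := by
        apply le_antisymm (sup_le inf_le_left hP.le)
        intro r hr
        have h1 : r ∈ N ⊔ T := hPN hr
        rw [mem_sup_of_normal_left] at h1
        obtain ⟨n, hn, s, hs, rfl⟩ := h1
        refine mul_mem_sup ⟨?_, hn⟩ hs
        have := P.mul_mem hr (P.inv_mem (hP.le hs))
        rwa [mul_inv_cancel_right] at this
      have h5 : (P ⊓ N).Normal := by
        rw [← normalizer_eq_top_iff, eq_top_iff, ← hgen]
        refine sup_le ?_ ?_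
        · intro k hk
          have h1 : k ∈ centralizer ((P ⊓ N : Subgroup H) : Set H) := by
            rw [mem_centralizer_iff]
            intro z hz
            exact mem_centralizer_iff.1 (hAN hk) z hz.2
          exact centralizer_le_normalizer _ h1
        · intro t ht
          rw [mem_normalizer_iff]
          intro z
          constructor
          · rintro ⟨hz1, hz2⟩
            exact ⟨P.mul_mem (P.mul_mem (hP.le ht) hz1) (P.inv_mem (hP.le ht)), hN.conj_mem z hz2 t⟩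
          · rintro ⟨hz1, hz2⟩
            have h7 : t⁻¹ * (t * z * t⁻¹) * t⁻¹⁻¹ = z := by group
            refine ⟨?_, ?_⟩
            · rw [← h7]
              exact P.mul_mem (P.mul_mem (P.inv_mem (hP.le ht)) hz1) (P.inv_mem (P.inv_mem (hP.le ht)))
            · rw [← h7]
              exact hN.conj_mem _ hz2 t⁻¹
      obtain ⟨m, hm, hPm⟩ := h.fixP P hP
      have h6 : P ⊓ N = ⊥ := h.bot_of_fix h5 hm fun n hn => hPm n hn.1
      rw [h6, bot_sup_eq] at h4
      exact hP.ne h4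
    have hNT' : N ⊔ T ≤ normalizer (T : Set H) :=
      le_of_forall le_sup_right inf_le_right fun P hP1 hP2 => (hP P hP1 hP2).elim
    obtain ⟨m, hm, hNm⟩ := h.fixN
    exact h.bot_of_fix hN hm fun n hn => hNm n (hNT' (mem_sup_left hn))

omit [Finite M] in
/-- **the input of THEOREM RED** -/
theorem SysE.mn (h : SysE T A x y) : ML.Ex.Red.Mn T A x where
  sq := h.sq
  faith := h.faith
  gen := by
    refine (h.irr _ fun g u hu => smul_mem_orb (mem_top g) hu).resolve_left fun h1 => h.x1 ?_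
    have h2 := mem_orb_self (⊤ : Subgroup H) x
    rw [h1] at h2
    exact mem_bot.1 h2
  fixT := h.tx
  odd := fun _ hN hNo => h.odd hN hNo
  two := h.two
  syl := h.syl
  el := h.el
  four := h.four
  exact := h.exact
  atom := h.atom
  low := h.low
  nmax := h.nmax

end odd

end Cfsg.Agent.Omega.NO3S.EMany.Low
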