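import Cfsg.Agent.Omega.NO3S.EMany.LowOut
import Cfsg.Agent.Omega.KL.GenTool
import Cfsg.Agent.Omega.TC.TT

/-!
# The end of the machine: `LB ⟹ SysW` (bb #21609 (4), #21788 (f4)-(f6), #22180 (3), #22451 (B3))

* `SysW T A x y` : **the output**: `H` faithful and irreducible on the elementary abelian 2-group `M`, `T` a Sylow
  2-subgroup, `A ≤ T` an exact atom, `|A| ≥ 4`, `A ≤ O₂(R)` for `T ≤ R < H`, `T` in at least two maximal subgroups,
  `x ≠ y` non-trivial `T`-fixed vectors; every `T`-minimal `P` fixes a non-trivial vector; some `T`-minimal `P`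
  moves `x` and fixes `y`;
* `SysE T A x y` : moreover `N_H(T)` fixes a non-trivial vector;
* `four_le` : `|A| ≥ 4`;
* `LB.exists_sysW₀` : `Out` and `SysW` from `LB` and `T`-fixed vectors of `U¹ = [M, ⟨B^H⟩]`; `Out.fixN`.

The general input is in `LowGen.lean`.
-/

set_option autoImplicit false

namespace Cfsg.Agent.Omega.NO3S.EMany.Low

open Subgroup Cfsg Cfsg.Agent.ZN Cfsg.Agent.ClassTwoFusion.Quad Cfsg.Agent.Omega.ML.MinFrame
open Cfsg.Agent.Omega.ML.Final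
open Cfsg.Agent.MinSimple.VModule (o2_isPGroup o2_le le_o2 le_normalizer_o2 o2_le_of_sylow)
open Cfsg.Agent.MinSimple.MinParabolic (IsMinPar le_of_forall)

universe u v

/-- **The output**, without `fixN` -/
structure SysW {H : Type u} [Group H] {M : Type v} [Group M] [MulDistribMulAction H M] (T A : Subgroup H)
    (x y : M) : Prop where
  sq : ∀ m : M, m * m = 1
  faith : ∀ h : H, (∀ m : M, h • m = m) → h = 1
  irr : ∀ W : Subgroup M, (∀ h : H, ∀ w ∈ W, h • w ∈ W) → W = ⊥ ∨ W = ⊤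
  two : IsPGroup 2 T
  syl : ¬ 2 ∣ T.index
  AT : A ≤ T
  el : ∀ a ∈ A, a * a = 1
  A1 : A ≠ ⊥
  four : 4 ≤ Nat.card A
  exact : (cv M (A : Set H)).index = Nat.card A
  atom : ∀ C : Subgroup H, C ≤ A → C ≠ ⊥ → C ≠ A → Nat.card C < (cv M (C : Set H)).index
  low : ∀ R : Subgroup H, T ≤ R → R ≠ ⊤ → A ≤ o2 R
  nmax : ¬ ∃ N : Subgroup H, N ≠ ⊤ ∧ ∀ R : Subgroup H, T ≤ R → R ≠ ⊤ → R ≤ N
  KH : IsKGroup H
  x1 : x ≠ 1
  y1 : y ≠ 1
  xy : x ≠ y
  tx : ∀ t ∈ T, t • x = x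
  ty : ∀ t ∈ T, t • y = y
  /-- every `T`-minimal `P` fixes a non-trivial vector -/
  fixP : ∀ P : Subgroup H, IsMinPar T P → ∃ m : M, m ≠ 1 ∧ ∀ p ∈ P, p • m = m
  /-- some `T`-minimal `P` moves `x` and fixes `y` -/
  mov : ∃ P : Subgroup H, IsMinPar T P ∧ (∃ p ∈ P, p • x ≠ x) ∧ ∀ p ∈ P, p • y = y

/-- **The output** -/
structure SysE {H : Type u} [Group H] {M : Type v} [Group M] [MulDistribMulAction H M] (T A : Subgroup H)
    (x y : M) : Prop extends SysW T A x y where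
  /-- `N_H(T)` fixes a non-trivial vector -/
  fixN : ∃ m : M, m ≠ 1 ∧ ∀ g ∈ normalizer (T : Set H), g • m = m

/-- three vectors `x`, `y`, `x y`: no transvections (354, #21212 (6)) -/
theorem mem_pCore_three {X : Type*} [Group X] {M : Type*} [Group M] [MulDistribMulAction X M] [Finite X]
    (sq : ∀ m : M, m * m = 1) {x y : M} {A B C : Subgroup X} (hA : IsPGroup 2 A) (hB : IsPGroup 2 B)
    (hC : IsPGroup 2 C) (hAn : ∀ g : X, g • x = x → ∀ a ∈ A, g * a * g⁻¹ ∈ A)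
    (hBn : ∀ g : X, g • y = y → ∀ b ∈ B, g * b * g⁻¹ ∈ B)
    (hCn : ∀ g : X, g • (x * y) = x * y → ∀ c ∈ C, g * c * g⁻¹ ∈ C)
    {t : X} (htA : t ∈ A) (htB : t ∈ B) (htC : t ∈ C) (htt : t * t = 1) {b : M}
    (htb : ∀ m : M, t • m = m ∨ t • m = m * b) : t ∈ Cfsg.pCore 2 X := by
  have hcomm := comm_of_sq sq
  refine Involutions.BaerSuzuki.mem_pCore_of_conj_pairs t fun g => ?_
  have hcc : g * t * g⁻¹ * (g * t * g⁻¹) = 1 := by
    have : g * t * g⁻¹ * (g * t * g⁻¹) = g * (t * t) * g⁻¹ := by group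
    rw [this, htt, mul_one, mul_inv_cancel]
  have hinv : (g * t * g⁻¹)⁻¹ = g * t * g⁻¹ := inv_eq_of_mul_eq_one_right hcc
  have hcen : ∀ m : M, (g * t * g⁻¹) • m = m ∨ (g * t * g⁻¹) • m = m * (g • b) := by
    intro m
    rw [mul_smul, mul_smul]
    rcases htb (g⁻¹ • m) with h | h
    · left; rw [h, smul_inv_smul]
    · right; rw [h, smul_mul', smul_inv_smul]
  have hfix : ∀ (D : Subgroup X) (c : M), IsPGroup 2 D → (∀ g : X, g • c = c → ∀ a ∈ D, g * a * g⁻¹ ∈ D) → t ∈ D →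
      (g * t * g⁻¹) • c = c → IsPGroup 2 (Subgroup.closure {t, g * t * g⁻¹} : Subgroup X) := by
    intro D c hD hDn htD hc
    refine IId.BSTrick.pair_isPGroup hD htD ?_ hcc
    rw [Subgroup.mem_normalizer_iff]
    intro a
    refine ⟨fun ha => hDn _ hc a ha, fun ha => ?_⟩
    have := hDn _ hc _ ha
    rw [hinv] at this
    have e : g * t * g⁻¹ * (g * t * g⁻¹ * a * (g * t * g⁻¹)) * (g * t * g⁻¹) =
      (g * t * g⁻¹ * (g * t * g⁻¹)) * a * (g * t * g⁻¹ * (g * t * g⁻¹)) := by group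
    rwa [e, hcc, one_mul, mul_one] at this
  rcases hcen x with hx | hx
  · exact hfix A x hA hAn htA hx
  rcases hcen y with hy | hy
  · exact hfix B y hB hBn htB hy
  refine hfix C (x * y) hC hCn htC ?_
  rw [smul_mul', hx, hy]
  calc x * g • b * (y * g • b) = x * (g • b * y) * g • b := by group
    _ = x * (y * g • b) * g • b := by rw [hcomm (g • b) y]
    _ = x * y * (g • b * g • b) := by group
    _ = x * y := by rw [sq, mul_one]

section

variable {H : Type u} [Group H] [Finite H] {M : Type v} [Group M] [Finite M] [MulDistribMulAction H M]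
  {T A : Subgroup H}

/-- `|A| ≥ 4` if there are two `T`-fixed vectors -/
theorem four_le (sq : ∀ m : M, m * m = 1) (faith : ∀ h : H, (∀ m : M, h • m = m) → h = 1)
    (irr : ∀ W : Subgroup M, (∀ h : H, ∀ w ∈ W, h • w ∈ W) → W = ⊥ ∨ W = ⊤) (h : LB H M T A) {x y : M}
    (hx : ∀ t ∈ T, t • x = x) (hy : ∀ t ∈ T, t • y = y) (x1 : x ≠ 1) (y1 : y ≠ 1) (xy : x ≠ y) :
    4 ≤ Nat.card A := by
  by_contra hlt
  have hcomm := comm_of_sq sq
  -- `H` is not trivial on any non-trivial vector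
  have hmov : ∀ m : M, m ≠ 1 → ¬ ∀ g : H, g • m = m := by
    intro m hm hc
    have h1 : cv M ((⊤ : Subgroup H) : Set H) = ⊤ := by
      refine (irr _ ?_).resolve_left ?_
      · intro g w hw k _
        have h2 := hw (g⁻¹ * k * g) (mem_top _)
        rwa [mul_smul, mul_smul, inv_smul_eq_iff] at h2
      · intro h2
        have h3 : m ∈ cv M ((⊤ : Subgroup H) : Set H) := fun g _ => hc g
        rw [h2, mem_bot] at h3
        exact hm h3
    apply h.B1
    rw [eq_bot_iff]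
    intro a ha
    exact mem_bot.2 (faith a fun w => (h1 ▸ mem_top w : w ∈ cv M ((⊤ : Subgroup H) : Set H)) a (mem_top a))
  obtain ⟨n, hn⟩ := IsPGroup.iff_card.1 (h.two.to_le h.BT)
  have hA1 : Nat.card A ≠ 1 := fun h1 => h.B1 (Subgroup.eq_bot_of_card_eq _ h1)
  have hc2 : Nat.card A = 2 := by
    match n, hn with
    | 0, hn => exact absurd hn hA1
    | 1, hn => exact hn
    | n + 2, hn =>
      exfalso
      rw [hn, pow_add] at hlt
      have := Nat.one_le_two_pow (n := n)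
      omega
  obtain ⟨⟨t, htA⟩, ht1'⟩ := (Subgroup.ne_bot_iff_exists_ne_one).1 h.B1
  have ht1 : t ≠ 1 := fun h1 => ht1' (Subtype.ext h1)
  have htt : t * t = 1 := h.el t htA
  -- a transvection
  have hidx : (cv M ({t} : Set H)).index ≤ 2 := by
    have h1 : cv M (A : Set H) ≤ cv M ({t} : Set H) := cv_anti (by simpa using htA)
    have h2 := index_dvd_of_le h1
    rw [h.exact, hc2] at h2
    exact Nat.le_of_dvd (by norm_num) h2
  obtain ⟨b, hb⟩ := TC.TT.exists_centre sq hidx index_ne_zero_of_finite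
  have hst : ∀ m : M, m ≠ 1 → (∀ t ∈ T, t • m = m) → A ≤ o2 (MulAction.stabilizer H m) := fun m hm tm =>
    h.stab_le tm (hmov m hm)
  have hno : ∀ m : M, ∀ g : H, g • m = m → ∀ a ∈ o2 (MulAction.stabilizer H m), g * a * g⁻¹ ∈
      o2 (MulAction.stabilizer H m) := fun m g hg a ha =>
    (mem_normalizer_iff.1 (le_normalizer_o2 _ (MulAction.mem_stabilizer_iff.2 hg)) a).1 ha
  have hxy1 : x * y ≠ 1 := by
    intro h1
    apply xy
    have h2 := sq y
    exact mul_right_cancel (h1.trans h2.symm)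
  have hp : t ∈ Cfsg.pCore 2 H := mem_pCore_three sq (x := x) (y := y)
    (o2_isPGroup _) (o2_isPGroup _) (o2_isPGroup _) (hno x) (hno y) (hno (x * y)) (hst x x1 hx htA)
    (hst y y1 hy htA) (hst (x * y) hxy1 (fun t ht => by rw [smul_mul', hx t ht, hy t ht]) htA) htt hb
  -- so `t ∈ O₂(H)`
  have h2 : t ∈ A ⊓ o2 (⊤ : Subgroup H) := by
    refine ⟨htA, ?_⟩
    have h3 : Cfsg.pCore 2 H ≤ o2 (⊤ : Subgroup H) :=
      le_o2 le_top (Lib.Cores.pCore_isPGroup 2) (by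
        have : (Cfsg.pCore 2 H).Normal := Lib.Cores.pCore_normal 2
        rw [normalizer_eq_top_iff.2 this])
    exact h3 hp
  have h3 : o2 (⊤ : Subgroup H) = ⊥ := by
    have h4 : cv M ((o2 (⊤ : Subgroup H) : Subgroup H) : Set H) = ⊤ := by
      refine (irr _ ?_).resolve_left ?_
      · intro g w hw k hk
        have h3 : g⁻¹ * k * g ∈ o2 (⊤ : Subgroup H) := by
          have := (mem_normalizer_iff.1 (le_normalizer_o2 (⊤ : Subgroup H) (mem_top g⁻¹)) k).1 hk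
          rwa [inv_inv] at this
        have h4 := hw _ h3
        rwa [mul_smul, mul_smul, inv_smul_eq_iff] at h4
      · intro h5
        have h6 : x ∈ cv M ((o2 (⊤ : Subgroup H) : Subgroup H) : Set H) := fun k hk => hx k (h.o2_top_le hk)
        rw [h5, mem_bot] at h6
        exact x1 h6
    rw [eq_bot_iff]
    intro k hk
    exact mem_bot.2 (faith k fun w => (h4 ▸ mem_top w : w ∈ cv M ((o2 (⊤ : Subgroup H) : Subgroup H) : Set H)) k hk)
  rw [h3, inf_bot_eq] at h2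
  exact ht1 (mem_bot.1 h2)

variable {B : Subgroup H}

/-- **`SysW` from `LB`** and vectors of `U¹ = [M, ⟨B^H⟩]` -/
theorem LB.exists_sysW₀ (h : LB H M T B) (hM : MLK.{u, v}) {x y : M} (tx : ∀ t ∈ T, t • x = x)
    (ty : ∀ t ∈ T, t • y = y) (hxU : x ∈ cmm M B) (hyU : y ∈ cmm M B) (hy : ¬ ∀ g : H, g • y = y)
    (mov : ∃ P : Subgroup H, IsMinPar T P ∧ (∃ p ∈ P, p • x ≠ x) ∧ ∀ p ∈ P, p • y = y)
    (fP : ∀ P : Subgroup H, IsMinPar T P → ∃ m ∈ cmm M B, (¬ ∀ g : H, g • m = m) ∧ ∀ p ∈ P, p • m = m) :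
    ∃ (H' : Type u) (_ : Group H') (_ : Finite H') (N : Type v) (_ : Group N) (_ : Finite N)
      (_ : MulDistribMulAction H' N) (π : H →* H') (f : ↥(cmm M B) →* N) (A' : Subgroup H'),
      Out H M T B H' N π f A' ∧ SysW (T.map π) A' (f ⟨x, hxU⟩) (f ⟨y, hyU⟩) := by
  have hx : ¬ ∀ g : H, g • x = x := by
    obtain ⟨P, -, ⟨p, -, hp⟩, -⟩ := mov
    exact fun hc => hp (hc p)
  obtain ⟨H', _, _, N, _, _, _, π, f, A', o⟩ := h.exists_out hM tx hx hxU
  refine ⟨H', inferInstance, inferInstance, N, inferInstance, inferInstance, inferInstance, π, f, A', o, ?_⟩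
  -- images of vectors
  have him : ∀ {m : M} (hm : m ∈ cmm M B) {g : H}, g • m = m → π g • f ⟨m, hm⟩ = f ⟨m, hm⟩ := by
    intro m hm g hg
    rw [← o.eqv g ⟨m, hm⟩]
    exact congrArg f (Subtype.ext hg)
  have hne : ∀ {m : M} (hm : m ∈ cmm M B), (∀ t ∈ T, t • m = m) → (¬ ∀ g : H, g • m = m) → f ⟨m, hm⟩ ≠ 1 := by
    intro m hm tm hc h1
    exact hc fun g => h.fix_of_cvKm tm ((o.ker _).1 h1) g
  have hback : ∀ {m : M} (hm : m ∈ cmm M B), (∀ t ∈ T, t • m = m) → ∀ R : Subgroup H, T ≤ R →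
      (∀ g ∈ R, π g • f ⟨m, hm⟩ = f ⟨m, hm⟩) → ∀ g ∈ R, g • m = m := by
    intro m hm tm R hTR hR
    refine h.fix_of_mod tm hTR (I := cv M (Km B : Set H)) (fun w hw tw g _ => h.fix_of_cvKm tw hw g) fun g hg => ?_
    have h1 := hR g hg
    rw [← o.eqv g ⟨m, hm⟩, ← mul_inv_eq_one, ← map_inv, ← map_mul, o.ker] at h1
    exact h1
  have x1 := hne hxU tx hx
  have y1 := hne hyU ty hy
  have htx : ∀ t ∈ T.map π, t • f ⟨x, hxU⟩ = f ⟨x, hxU⟩ := by
    rintro _ ⟨t, ht, rfl⟩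
    exact him hxU (tx t ht)
  have hty : ∀ t ∈ T.map π, t • f ⟨y, hyU⟩ = f ⟨y, hyU⟩ := by
    rintro _ ⟨t, ht, rfl⟩
    exact him hyU (ty t ht)
  -- `π(P)` is minimal if `P` moves `x`
  have hmov : ∃ P' : Subgroup H', IsMinPar (T.map π) P' ∧ (∃ p ∈ P', p • f ⟨x, hxU⟩ ≠ f ⟨x, hxU⟩) ∧
      ∀ p ∈ P', p • f ⟨y, hyU⟩ = f ⟨y, hyU⟩ := by
    obtain ⟨P, hP, ⟨p, hp, hpx⟩, hPy⟩ := mov
    have hPx : ∃ p ∈ P.map π, p • f ⟨x, hxU⟩ ≠ f ⟨x, hxU⟩ := by
      by_contra hc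
      push Not at hc
      exact hpx (hback hxU tx P hP.le (fun g hg => hc _ ⟨g, hg, rfl⟩) p hp)
    have hPy' : ∀ p ∈ P.map π, p • f ⟨y, hyU⟩ = f ⟨y, hyU⟩ := by
      rintro _ ⟨q, hq, rfl⟩
      exact him hyU (hPy q hq)
    refine ⟨P.map π, ⟨map_mono hP.le, ?_, ?_⟩, hPx, hPy'⟩
    · -- not normal
      intro hn
      obtain ⟨L, hL, hLm⟩ := hP.exists_max
      -- `P = (P ∩ π⁻¹(T')) N_P(T)`
      have hT' : T ≤ P ⊓ (T.map π).comap π := le_inf hP.le (le_comap_map π T)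
      have hnormal : P ≤ normalizer ((P ⊓ (T.map π).comap π : Subgroup H) : Set H) := by
        intro g hg
        have hg' : π g ∈ normalizer ((T.map π : Subgroup H') : Set H') := hn ⟨g, hg, rfl⟩
        rw [mem_normalizer_iff] at hg' ⊢
        intro z
        have h1 := hg' (π z)
        rw [← map_mul, ← map_inv, ← map_mul] at h1
        constructor
        · rintro ⟨hz1, hz2⟩
          exact ⟨P.mul_mem (P.mul_mem hg hz1) (P.inv_mem hg), h1.1 hz2⟩
        · rintro ⟨hz1, hz2⟩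
          refine ⟨?_, h1.2 hz2⟩
          have := P.mul_mem (P.mul_mem (P.inv_mem hg) hz1) hg
          have e : g⁻¹ * (g * z * g⁻¹) * g = z := by group
          rwa [e] at this
      have hfr := MinSimple.Basic.frattini (X := P) (L := P ⊓ (T.map π).comap π) (S := T) hP.le h.two
        (fun h2 => h.syl (h2.trans (relIndex_dvd_index_of_le hP.le))) hnormal
      have hNP : P ⊓ normalizer ((T ⊓ (P ⊓ (T.map π).comap π) : Subgroup H) : Set H) ≤ L := by
        rw [inf_eq_left.2 hT']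
        exact hLm _ (le_inf hP.le le_normalizer) (lt_of_le_of_ne inf_le_left fun h2 => hP.not_le (inf_eq_left.1 h2))
      by_cases h1 : P ⊓ (T.map π).comap π = P
      · -- then `π(P) = T'` fixes `x`
        obtain ⟨q, hq, hqx⟩ := hPx
        have h2 : P.map π ≤ T.map π := map_le_iff_le_comap.2 (inf_eq_left.1 h1)
        exact hqx (htx q (h2 hq))
      · have h2 : P ⊓ (T.map π).comap π ≤ L := hLm _ hT' (lt_of_le_of_ne inf_le_left h1)
        exact hL.not_ge (hfr.trans (sup_le h2 hNP))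
    · obtain ⟨L, hL, hLm⟩ := hP.exists_max
      refine ⟨L.map π, lt_of_le_of_ne (map_mono hL.le) fun he => ?_, fun K' hTK hK => ?_⟩
      · have hK0 : (P ⊓ π.ker) ⊔ T ≤ P := sup_le inf_le_left hP.le
        by_cases h1 : (P ⊓ π.ker) ⊔ T = P
        · obtain ⟨q, hq, hqx⟩ := hPx
          rw [← h1, Subgroup.map_sup] at hq
          have h2 : (P ⊓ π.ker).map π = ⊥ := by
            rw [Subgroup.map_eq_bot_iff]
            exact inf_le_right
          rw [h2, bot_sup_eq] at hq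
          exact hqx (htx q hq)
        · have h2 := hLm _ le_sup_right (lt_of_le_of_ne hK0 h1)
          refine hL.not_ge fun p hp => ?_
          have h3 : π p ∈ L.map π := he ▸ ⟨p, hp, rfl⟩
          obtain ⟨l, hl, hlp⟩ := h3
          have h4 : l⁻¹ * p ∈ P ⊓ π.ker := by
            refine ⟨P.mul_mem (P.inv_mem (hL.le hl)) hp, ?_⟩
            change π (l⁻¹ * p) = 1
            rw [map_mul, map_inv, hlp, inv_mul_cancel]
          have h5 := L.mul_mem hl (h2 (le_sup_left (a := P ⊓ π.ker) h4))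
          rwa [mul_inv_cancel_left] at h5
      · have h1 : T ≤ K'.comap π ⊓ P := le_inf (map_le_iff_le_comap.1 hTK) hP.le
        have h2 : K'.comap π ⊓ P ≠ P := by
          intro h3
          exact hK.not_ge (map_le_iff_le_comap.2 (inf_eq_right.1 h3))
        have h3 := hLm _ h1 (lt_of_le_of_ne inf_le_right h2)
        intro k' hk'
        obtain ⟨p, hp, rfl⟩ := hK.le hk'
        exact ⟨p, h3 ⟨hk', hp⟩, rfl⟩
  have hfP : ∀ P' : Subgroup H', IsMinPar (T.map π) P' → ∃ m : N, m ≠ 1 ∧ ∀ p ∈ P', p • m = m := by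
    intro P' hP'
    obtain ⟨P, hP, rfl⟩ := KL.GenTool.exists_minPar_map π o.πs hP'
    obtain ⟨m, hm, hmm, hPm⟩ := fP P hP
    refine ⟨f ⟨m, hm⟩, hne hm (fun t ht => hPm t (hP.le ht)) hmm, ?_⟩
    rintro _ ⟨p, hp, rfl⟩
    exact him hm (hPm p hp)
  have hxy : f ⟨x, hxU⟩ ≠ f ⟨y, hyU⟩ := by
    intro he
    obtain ⟨P, -, ⟨p, hp, hpx⟩, hPy⟩ := hmov
    rw [he] at hpx
    exact hpx (hPy p hp)
  -- a vector fixed by `H'`
  have hnofix : ∀ m : N, m ≠ 1 → ¬ ∀ g : H', g • m = m := by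
    intro m hm hc
    have h1 : cv N ((⊤ : Subgroup H') : Set H') = ⊤ := by
      refine (o.irr _ ?_).resolve_left ?_
      · intro g w hw k _
        have h2 := hw (g⁻¹ * k * g) (mem_top _)
        rwa [mul_smul, mul_smul, inv_smul_eq_iff] at h2
      · intro h2
        have h3 : m ∈ cv N ((⊤ : Subgroup H') : Set H') := fun g _ => hc g
        rw [h2, mem_bot] at h3
        exact hm h3
    obtain ⟨P, -, ⟨p, -, hpx⟩, -⟩ := hmov
    exact hpx ((h1 ▸ mem_top (f ⟨x, hxU⟩) : f ⟨x, hxU⟩ ∈ cv N ((⊤ : Subgroup H') : Set H')) p (mem_top p))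
  refine ⟨o.lb.sq, o.faith, o.irr, o.lb.two, o.lb.syl, o.lb.BT, o.lb.el, o.lb.B1,
    four_le o.lb.sq o.faith o.irr o.lb htx hty x1 y1 hxy, o.lb.exact, o.lb.atom, o.lb.low, ?_, o.lb.KH, x1, y1, hxy,
    htx, hty, hfP, hmov⟩
  rintro ⟨L, hL, hLm⟩
  by_cases hn : (⊤ : Subgroup H') ≤ normalizer ((T.map π : Subgroup H') : Set H')
  · exact o.lb.nb (o.lb.BT.trans (le_o2 le_top o.lb.two hn))
  · obtain ⟨m, hm, hmP⟩ := hfP ⊤ ⟨le_top, hn, L, lt_top_iff_ne_top.2 hL, fun K hK hlt => hLm K hK hlt.ne⟩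
    exact hnofix m hm fun g => hmP g (mem_top g)

omit [Finite M] in
/-- `N_H(T)` -/
theorem Out.fixN {H' : Type u} [Group H'] {N : Type v} [Group N] [MulDistribMulAction H' N] {π : H →* H'}
    {f : ↥(cmm M B) →* N} {A' : Subgroup H'} (o : Out H M T B H' N π f A') (h : LB H M T B)
    (fN : ∃ m ∈ cmm M B, (¬ ∀ g : H, g • m = m) ∧ ∀ g ∈ normalizer (T : Set H), g • m = m) :
    ∃ m : N, m ≠ 1 ∧ ∀ g ∈ normalizer ((T.map π : Subgroup H') : Set H'), g • m = m := by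
  obtain ⟨m, hm, hmm, hNm⟩ := fN
  have him : ∀ {g : H}, g • m = m → π g • f ⟨m, hm⟩ = f ⟨m, hm⟩ := by
    intro g hg
    rw [← o.eqv g ⟨m, hm⟩]
    exact congrArg f (Subtype.ext hg)
  refine ⟨f ⟨m, hm⟩, fun h1 => hmm fun g => h.fix_of_cvKm (fun t ht => hNm t (le_normalizer ht)) ((o.ker _).1 h1) g, ?_⟩
  intro g' hg'
  obtain ⟨_, ⟨t, ht, rfl⟩, n, hn, rfl⟩ := KL.GenTool.exists_normalizer_map π o.πs h.two h.syl hg'
  rw [mul_smul, him (hNm n hn), him (hNm t (le_normalizer ht))]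

end

end Cfsg.Agent.Omega.NO3S.EMany.Low
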