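import Cfsg.Agent.Omega.ML.Final
import Cfsg.Agent.ZN.ChoiceSit
import Cfsg.Agent.MinSimple.Basic
import Cfsg.Agent.Omega.NO3S.ML

/-!
# NO-3S, case (E), `k ≥ 3`, `q = 2`, `[U₁, U₂] ≠ 1`: the exact groups `al m` (bb #21609 (1), (3))

* `oc K x` : the subgroup generated by the `K`-conjugates of `x`;
* `ml_oc` : (ML) for `K` on `oc K w`, `w ∈ Ω₁(Z(T))`, `T` a Sylow 2-subgroup of `K`;
* `Duo U₁ U₂`, `Exa U₁ U₂ A` : two abelian groups acting on each other without over-offenders, exact subgroups;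
* `DD` : the pair `H₁, H₂ = H₁^s` with centres `z₁, z₂`, `U i = ⟨Ω₁(Z(T))^{H i}⟩`, `C_{H₁}(z₂) = C_{H₂}(z₁)`;
* `DD.exists_E` : if `[U₁, U₂] ≠ 1`, and `z₁, z₂` have commuting conjugates in `C(y)`, in `C(z₂ y)` and in `C(z₁ z₂ y)`
  (LEMMA W-LOC), then there is a `T`-invariant exact group `E ≤ U₂`, `E ≰ C(U₁)`, in
  `O₂(C_{H₁}(z₂)) ∩ O₂(C_{H₁}(y)) ∩ O₂(C_{H₁}(z₂ y))`.
-/

set_option autoImplicit false
set_option linter.unusedSectionVars false
set_option linter.unusedVariables false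

namespace Cfsg.Agent.Omega.NO3S.EMany.Al

open Subgroup Cfsg Cfsg.Agent.ZN.ChoiceBase Cfsg.Agent.ZN.ChoiceSit
open Cfsg.Agent.ZN (zc zl o2)
open Cfsg.Agent.Omega.ML.Final
open Cfsg.Agent.MinSimple.VModule (o2_isPGroup le_o2 o2_le_of_sylow)

universe u

section oc

variable {G : Type u} [Group G]

/-- the subgroup generated by the `K`-conjugates of `x` -/
def oc (K : Subgroup G) (x : G) : Subgroup G := closure {y | ∃ k ∈ K, k * x * k⁻¹ = y}

theorem mem_oc {K : Subgroup G} {x k : G} (hk : k ∈ K) : k * x * k⁻¹ ∈ oc K x := subset_closure ⟨k, hk, rfl⟩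

theorem self_mem_oc (K : Subgroup G) (x : G) : x ∈ oc K x := by
  have := mem_oc (x := x) K.one_mem
  simpa using this

theorem oc_le {K U : Subgroup G} {x : G} (h : ∀ k ∈ K, k * x * k⁻¹ ∈ U) : oc K x ≤ U := by
  refine (closure_le _).2 ?_
  rintro _ ⟨_, hk, rfl⟩
  exact h _ hk

theorem oc_le_of {K U : Subgroup G} {x : G} (hx : x ∈ U) (hK : K ≤ normalizer (U : Set G)) : oc K x ≤ U :=
  oc_le fun k hk => (mem_normalizer_iff.1 (hK hk) x).1 hx

theorem oc_mono {K K' : Subgroup G} (h : K ≤ K') (x : G) : oc K x ≤ oc K' x := oc_le fun _ hk => mem_oc (h hk)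

theorem cj_oc (g : G) (K : Subgroup G) (x : G) : cj g (oc K x) = oc (cj g K) (g * x * g⁻¹) := by
  have key : ∀ (g : G) (K : Subgroup G) (x : G), cj g (oc K x) ≤ oc (cj g K) (g * x * g⁻¹) := by
    intro g K x
    rw [cj_le_iff]
    refine oc_le fun k hk => ?_
    rw [mem_cj, inv_inv]
    have h1 : g * k * g⁻¹ ∈ cj g K := ⟨k, hk, rfl⟩
    have h2 := mem_oc (x := g * x * g⁻¹) h1
    have e : g * k * g⁻¹ * (g * x * g⁻¹) * (g * k * g⁻¹)⁻¹ = g * (k * x * k⁻¹) * g⁻¹ := by group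
    rwa [e] at h2
  refine le_antisymm (key g K x) ?_
  have h1 := key g⁻¹ (cj g K) (g * x * g⁻¹)
  rw [cj_inv_cj] at h1
  have e : g⁻¹ * (g * x * g⁻¹) * g⁻¹⁻¹ = x := by group
  rw [e] at h1
  have h2 := cj_mono g h1
  rwa [cj_cj_inv] at h2

theorem oc_norm (K : Subgroup G) (x : G) : K ≤ normalizer (oc K x : Set G) := by
  intro k hk
  rw [mem_normalizer_iff_cj, cj_oc, cj_eq_of_mem_normalizer (Subgroup.le_normalizer hk)]
  apply le_antisymm
  · refine oc_le fun l hl => ?_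
    have h1 := mem_oc (x := x) (K.mul_mem hl hk)
    have e : l * k * x * (l * k)⁻¹ = l * (k * x * k⁻¹) * l⁻¹ := by group
    rwa [e] at h1
  · refine oc_le fun l hl => ?_
    have h1 := mem_oc (x := k * x * k⁻¹) (K.mul_mem hl (K.inv_mem hk))
    have e : l * k⁻¹ * (k * x * k⁻¹) * (l * k⁻¹)⁻¹ = l * x * l⁻¹ := by group
    rwa [e] at h1

theorem mem_cent1 {x g : G} : g ∈ centralizer ({x} : Set G) ↔ g * x = x * g := mem_centralizer_singleton_iff

/-- **(ML) on `oc K w`** -/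
theorem ml_oc [Finite G] (hML : MLK.{u, u}) {K T A : Subgroup G} {w : G} (hK : IsKGroup K) (hT : Syl T K)
    (hw : w ∈ zc T) (hcomm : ∀ x ∈ oc K w, ∀ y ∈ oc K w, x * y = y * x)
    (hA : A ≤ o2 (K ⊓ centralizer ({w} : Set G))) (hA2 : ∀ a ∈ A, a * a = 1) :
    (A ⊓ centralizer (oc K w : Set G)).relIndex A ≤ (oc K w ⊓ centralizer (A : Set G)).relIndex (oc K w) := by
  obtain ⟨hwT, hwc, hw2⟩ : w ∈ T ∧ (∀ t ∈ T, t * w = w * t) ∧ w ^ 2 = 1 := MinSimple.VModule.mem_zc.1 hw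
  have hsq : ∀ x ∈ oc K w, x * x = 1 := by
    intro x hx
    have h1 : ∀ x ∈ oc K w, x * x = 1 ∧ x ∈ oc K w := by
      intro x hx
      induction hx using closure_induction with
      | mem y hy =>
        obtain ⟨k, hk, rfl⟩ := hy
        refine ⟨?_, mem_oc hk⟩
        have e : k * w * k⁻¹ * (k * w * k⁻¹) = k * (w * w) * k⁻¹ := by group
        rw [e, ← pow_two, hw2]; group
      | one => exact ⟨mul_one 1, one_mem _⟩
      | mul a b _ _ ha hb =>
        refine ⟨?_, mul_mem ha.2 hb.2⟩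
        have e : a * b * (a * b) = a * (b * a) * b := by group
        rw [e, ← hcomm a ha.2 b hb.2]
        have e2 : a * (a * b) * b = (a * a) * (b * b) := by group
        rw [e2, ha.1, hb.1, mul_one]
      | inv a _ ha =>
        refine ⟨?_, inv_mem ha.2⟩
        rw [← mul_inv_rev, ha.1, inv_one]
    exact (h1 x hx).1
  have hbot : ∀ a b : G, a * b * a⁻¹ * b⁻¹ ∈ (⊥ : Subgroup G) ↔ a * b = b * a := by
    intro a b
    rw [mem_bot]
    constructor
    · intro h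
      have := congrArg (fun t => t * (b * a)) h
      simpa [mul_assoc] using this
    · intro h
      rw [h]; group
  have hD : GDat K (oc K w) ⊥ T (o2 (K ⊓ centralizer ({w} : Set G))) A w :=
    { nW := oc_norm K w
      nY := fun g _ => by rw [normalizer_eq_top]; exact mem_top _
      YW := bot_le
      WY := fun g _ => by rw [normalizer_eq_top]; exact mem_top _
      sq := fun x hx => by rw [hsq x hx]; exact one_mem _
      mem := self_mem_oc K w
      gen := fun U hw _ hU => oc_le_of hw hU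
      TC := hT.1
      two := hT.2.1
      odd := syl_not_dvd hT
      fixT := fun t ht => (hbot t w).2 (hwc t ht)
      QC := (o2_le _).trans inf_le_left
      Q2 := o2_isPGroup _
      fixQ := fun q hq => (hbot q w).2 (mem_cent1.1 (o2_le _ hq).2)
      nrmQ := fun g hg hgw q hq => by
        have h1 : g ∈ K ⊓ centralizer ({w} : Set G) := ⟨hg, mem_cent1.2 ((hbot g w).1 hgw)⟩
        exact (mem_normalizer_iff.1 (le_normalizer_o2 _ h1) q).1 hq
      AQ := hA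
      Asq := fun a ha x hx => by
        have e : a * (a * x * a⁻¹) * a⁻¹ * x⁻¹ = (a * a) * x * (a * a)⁻¹ * x⁻¹ := by group
        rw [e, hA2 a ha]
        simp }
  refine hML.grp hK hD (KA := A ⊓ centralizer (oc K w : Set G)) (CW := oc K w ⊓ centralizer (A : Set G)) ?_ ?_
  · intro a
    rw [mem_inf, mem_centralizer_iff]
    refine and_congr_right fun _ => forall₂_congr fun x hx => ?_
    rw [hbot]
    exact eq_comm
  · intro x
    rw [mem_inf, mem_centralizer_iff]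
    refine and_congr_right fun _ => forall₂_congr fun a ha => ?_
    rw [hbot]

end oc

/-! ### Two abelian groups acting on each other -/

section duo

variable {G : Type u} [Group G]

/-- `|K L| |K ∩ L| = |K| |L|` inside an abelian group -/
theorem card_sup {U K L : Subgroup G} (hU : ∀ x ∈ U, ∀ y ∈ U, x * y = y * x) (hK : K ≤ U) (hL : L ≤ U) :
    Nat.card (K ⊔ L : Subgroup G) * Nat.card (K ⊓ L : Subgroup G) = Nat.card K * Nat.card L :=
  NO3S.ML.card_sup_mul_of_comm fun a ha b hb => hU a (hK ha) b (hL hb)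

/-- `U₁`, `U₂` act on each other without over-offenders. -/
structure Duo (U₁ U₂ : Subgroup G) : Prop where
  c1 : ∀ x ∈ U₁, ∀ y ∈ U₁, x * y = y * x
  c2 : ∀ x ∈ U₂, ∀ y ∈ U₂, x * y = y * x
  ml1 : ∀ A ≤ U₂, Nat.card A * Nat.card (U₁ ⊓ centralizer (A : Set G) : Subgroup G) ≤
    Nat.card (A ⊓ centralizer (U₁ : Set G) : Subgroup G) * Nat.card U₁
  ml2 : ∀ A ≤ U₁, Nat.card A * Nat.card (U₂ ⊓ centralizer (A : Set G) : Subgroup G) ≤
    Nat.card (A ⊓ centralizer (U₂ : Set G) : Subgroup G) * Nat.card U₂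

/-- `A / C_{U₂}(U₁)` is exact on `U₁`. -/
structure Exa (U₁ U₂ A : Subgroup G) : Prop where
  le : A ≤ U₂
  ge : U₂ ⊓ centralizer (U₁ : Set G) ≤ A
  eq : Nat.card A * Nat.card (U₁ ⊓ centralizer (A : Set G) : Subgroup G) =
    Nat.card (U₂ ⊓ centralizer (U₁ : Set G) : Subgroup G) * Nat.card U₁

namespace Duo

variable {U₁ U₂ : Subgroup G} (h : Duo U₁ U₂)
include h

theorem symm : Duo U₂ U₁ := ⟨h.c2, h.c1, h.ml2, h.ml1⟩

theorem eq : Nat.card U₂ * Nat.card (U₁ ⊓ centralizer (U₂ : Set G) : Subgroup G) =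
    Nat.card (U₂ ⊓ centralizer (U₁ : Set G) : Subgroup G) * Nat.card U₁ := by
  have h1 := h.ml1 U₂ le_rfl
  have h2 := h.ml2 U₁ le_rfl
  apply le_antisymm h1
  calc _ = Nat.card U₁ * Nat.card (U₂ ⊓ centralizer (U₁ : Set G) : Subgroup G) := mul_comm _ _
    _ ≤ _ := h2
    _ = _ := mul_comm _ _

theorem ml {A : Subgroup G} (hA : A ≤ U₂) (hY : U₂ ⊓ centralizer (U₁ : Set G) ≤ A) :
    Nat.card A * Nat.card (U₁ ⊓ centralizer (A : Set G) : Subgroup G) ≤
      Nat.card (U₂ ⊓ centralizer (U₁ : Set G) : Subgroup G) * Nat.card U₁ := by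
  have h1 := h.ml1 A hA
  have e : A ⊓ centralizer (U₁ : Set G) = U₂ ⊓ centralizer (U₁ : Set G) :=
    le_antisymm (inf_le_inf_right _ hA) (le_inf hY inf_le_right)
  rwa [e] at h1

theorem al [Finite G] {V : Subgroup G} (hV : V ≤ U₁)
    (hml : Nat.card U₂ * Nat.card (V ⊓ centralizer (U₂ : Set G) : Subgroup G) ≤
      Nat.card (U₂ ⊓ centralizer (V : Set G) : Subgroup G) * Nat.card V) :
    Exa U₁ U₂ (U₂ ⊓ centralizer (V : Set G)) ∧
      U₁ ⊓ centralizer ((U₂ ⊓ centralizer (V : Set G) : Subgroup G) : Set G) =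
        V ⊔ (U₁ ⊓ centralizer (U₂ : Set G)) := by
  set a : Subgroup G := U₂ ⊓ centralizer (V : Set G) with ha
  set Y₁ : Subgroup G := U₁ ⊓ centralizer (U₂ : Set G) with hY₁
  set Y₂ : Subgroup G := U₂ ⊓ centralizer (U₁ : Set G) with hY₂
  have hYa : Y₂ ≤ a := inf_le_inf_left _ (centralizer_le hV)
  have h1 := h.ml (A := a) inf_le_left hYa
  have h2 := h.eq
  rw [← hY₁, ← hY₂] at h2
  rw [← hY₂] at h1
  have hle : V ⊔ Y₁ ≤ U₁ ⊓ centralizer (a : Set G) := by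
    refine sup_le (le_inf hV ?_) (inf_le_inf_left _ (centralizer_le (inf_le_left : a ≤ U₂)))
    rw [le_centralizer_iff]
    exact inf_le_right
  have h3 := card_sup h.c1 hV (inf_le_left : Y₁ ≤ U₁)
  have e3 : V ⊓ Y₁ = V ⊓ centralizer (U₂ : Set G) := by
    rw [hY₁, ← inf_assoc, inf_eq_left.2 hV]
  rw [e3] at h3
  have h4 : Nat.card (V ⊔ Y₁ : Subgroup G) ≤ Nat.card (U₁ ⊓ centralizer (a : Set G) : Subgroup G) :=
    card_le_of_le hle
  have hpos : 0 < Nat.card (V ⊓ centralizer (U₂ : Set G) : Subgroup G) := Nat.card_pos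
  -- `|a| |V Y₁| ≥ |U₂| |Y₁|`
  have h5 : Nat.card U₂ * Nat.card Y₁ ≤ Nat.card a * Nat.card (V ⊔ Y₁ : Subgroup G) := by
    refine Nat.le_of_mul_le_mul_right ?_ hpos
    calc Nat.card U₂ * Nat.card Y₁ * Nat.card (V ⊓ centralizer (U₂ : Set G) : Subgroup G)
        = Nat.card U₂ * Nat.card (V ⊓ centralizer (U₂ : Set G) : Subgroup G) * Nat.card Y₁ := by ring
      _ ≤ Nat.card a * Nat.card V * Nat.card Y₁ := Nat.mul_le_mul_right _ hml
      _ = Nat.card a * (Nat.card V * Nat.card Y₁) := by ring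
      _ = Nat.card a * (Nat.card (V ⊔ Y₁ : Subgroup G) *
            Nat.card (V ⊓ centralizer (U₂ : Set G) : Subgroup G)) := by rw [h3]
      _ = _ := by ring
  have h6 : Nat.card a * Nat.card (V ⊔ Y₁ : Subgroup G) ≤
      Nat.card a * Nat.card (U₁ ⊓ centralizer (a : Set G) : Subgroup G) := Nat.mul_le_mul_left _ h4
  have h7 : Nat.card a * Nat.card (U₁ ⊓ centralizer (a : Set G) : Subgroup G) = Nat.card Y₂ * Nat.card U₁ :=
    le_antisymm h1 (h2 ▸ h5.trans h6)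
  refine ⟨⟨inf_le_left, hYa, h7⟩, ?_⟩
  symm
  refine Subgroup.eq_of_le_of_card_ge hle ?_
  refine Nat.le_of_mul_le_mul_left ?_ (Nat.card_pos : 0 < Nat.card a)
  rw [h7, ← h2]
  exact h5

theorem inf [Finite G] {A A' : Subgroup G} (hA : Exa U₁ U₂ A) (hA' : Exa U₁ U₂ A') : Exa U₁ U₂ (A ⊓ A') := by
  have hge : U₂ ⊓ centralizer (U₁ : Set G) ≤ A ⊓ A' := le_inf hA.ge hA'.ge
  refine ⟨inf_le_left.trans hA.le, hge, le_antisymm (h.ml (inf_le_left.trans hA.le) hge) ?_⟩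
  have h1 := h.ml (A := A ⊔ A') (sup_le hA.le hA'.le) (hA.ge.trans le_sup_left)
  have h2 := card_sup h.c2 hA.le hA'.le
  set C : Subgroup G := U₁ ⊓ centralizer (A : Set G) with hC
  set C' : Subgroup G := U₁ ⊓ centralizer (A' : Set G) with hC'
  have h3 := card_sup h.c1 (inf_le_left : C ≤ U₁) (inf_le_left : C' ≤ U₁)
  have e : U₁ ⊓ centralizer ((A ⊔ A' : Subgroup G) : Set G) = C ⊓ C' := by
    apply le_antisymm
    · exact le_inf (inf_le_inf_left _ (centralizer_le (SetLike.coe_subset_coe.2 le_sup_left)))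
        (inf_le_inf_left _ (centralizer_le (SetLike.coe_subset_coe.2 le_sup_right)))
    · refine le_inf (inf_le_left.trans inf_le_left) ?_
      rw [le_centralizer_iff]
      refine sup_le ?_ ?_
      · rw [le_centralizer_iff]
        exact inf_le_left.trans inf_le_right
      · rw [le_centralizer_iff]
        exact inf_le_right.trans inf_le_right
  rw [e] at h1
  have hle : C ⊔ C' ≤ U₁ ⊓ centralizer ((A ⊓ A' : Subgroup G) : Set G) :=
    sup_le (inf_le_inf_left _ (centralizer_le (SetLike.coe_subset_coe.2 inf_le_left)))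
      (inf_le_inf_left _ (centralizer_le (SetLike.coe_subset_coe.2 inf_le_right)))
  have h4 := card_le_of_le hle
  have h5 := hA.eq
  have h6 := hA'.eq
  rw [← hC] at h5
  rw [← hC'] at h6
  set n := Nat.card (U₂ ⊓ centralizer (U₁ : Set G) : Subgroup G) * Nat.card U₁ with hn
  have hpos : 0 < n := Nat.mul_pos Nat.card_pos Nat.card_pos
  refine Nat.le_of_mul_le_mul_right ?_ hpos
  calc n * n = (Nat.card A * Nat.card C) * (Nat.card A' * Nat.card C') := by rw [h5, h6]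
    _ = (Nat.card A * Nat.card A') * (Nat.card C * Nat.card C') := by ring
    _ = (Nat.card (A ⊓ A' : Subgroup G) * Nat.card (C ⊔ C' : Subgroup G)) *
          (Nat.card (A ⊔ A' : Subgroup G) * Nat.card (C ⊓ C' : Subgroup G)) := by
        rw [← h2, ← h3]; ring
    _ ≤ (Nat.card (A ⊓ A' : Subgroup G) *
          Nat.card (U₁ ⊓ centralizer ((A ⊓ A' : Subgroup G) : Set G) : Subgroup G)) * n :=
        Nat.mul_le_mul (Nat.mul_le_mul_left _ h4) h1

end Duo

/-- a minimal exact subgroup -/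
theorem Exa.exists_atom [Finite G] {U₁ U₂ E : Subgroup G} (hE : Exa U₁ U₂ E)
    (hne : ¬ E ≤ centralizer (U₁ : Set G)) :
    ∃ B ≤ E, Exa U₁ U₂ B ∧ ¬ B ≤ centralizer (U₁ : Set G) ∧
      ∀ B' ≤ B, Exa U₁ U₂ B' → ¬ B' ≤ centralizer (U₁ : Set G) → B' = B := by
  obtain ⟨B, ⟨⟨hBE, hB, hB1⟩, hmin⟩⟩ := Set.Finite.exists_minimal
    (s := {B : Subgroup G | B ≤ E ∧ Exa U₁ U₂ B ∧ ¬ B ≤ centralizer (U₁ : Set G)}) (Set.toFinite _)
    ⟨E, le_rfl, hE, hne⟩
  exact ⟨B, hBE, hB, hB1, fun B' h1 h2 h3 => le_antisymm h1 (hmin ⟨h1.trans hBE, h2, h3⟩ h1)⟩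

end duo

/-! ### The pair `H₁`, `H₂` -/

section pair

variable {G : Type u} [Group G]

/-- The pair `H₁`, `H₂ = s H₁ s⁻¹` with the centres `z₁`, `z₂`. -/
structure DD (T H₁ H₂ : Subgroup G) (z₁ z₂ s : G) : Prop where
  syl₁ : Syl T H₁
  syl₂ : Syl T H₂
  mem₁ : z₁ ∈ zc T
  mem₂ : z₂ ∈ zc T
  cen₁ : H₁ ≤ centralizer ({z₁} : Set G)
  cen₂ : H₂ ≤ centralizer ({z₂} : Set G)
  mid₁ : H₁ ⊓ centralizer ({z₂} : Set G) ≤ H₂
  mid₂ : H₂ ⊓ centralizer ({z₁} : Set G) ≤ H₁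
  char₁ : H₁ ⊓ centralizer (o2 H₁ : Set G) ≤ o2 H₁
  char₂ : H₂ ⊓ centralizer (o2 H₂ : Set G) ≤ o2 H₂
  kg₁ : ∀ X : Subgroup G, X ≤ H₁ → IsKGroup X
  kg₂ : ∀ X : Subgroup G, X ≤ H₂ → IsKGroup X
  sH₁ : cj s H₁ = H₂
  sH₂ : cj s H₂ = H₁
  sT : cj s T = T
  s₁ : s * z₁ * s⁻¹ = z₂
  s₂ : s * z₂ * s⁻¹ = z₁

theorem rel_card {H K : Subgroup G} (h : H ≤ K) : H.relIndex K * Nat.card H = Nat.card K := by
  have h1 := (H.subgroupOf K).index_mul_card
  rwa [Nat.card_congr (subgroupOfEquivOfLe h).toEquiv] at h1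

/-- (ML) on `oc K w`, with orders -/
theorem ml_card [Finite G] (hML : MLK.{u, u}) {K T A : Subgroup G} {w : G} (hK : IsKGroup K) (hT : Syl T K)
    (hw : w ∈ zc T) (hcomm : ∀ x ∈ oc K w, ∀ y ∈ oc K w, x * y = y * x)
    (hA : A ≤ o2 (K ⊓ centralizer ({w} : Set G))) (hA2 : ∀ a ∈ A, a * a = 1) :
    Nat.card A * Nat.card (oc K w ⊓ centralizer (A : Set G) : Subgroup G) ≤
      Nat.card (A ⊓ centralizer (oc K w : Set G) : Subgroup G) * Nat.card (oc K w) := by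
  have h1 := ml_oc hML hK hT hw hcomm hA hA2
  have h2 := rel_card (inf_le_left : A ⊓ centralizer (oc K w : Set G) ≤ A)
  have h3 := rel_card (inf_le_left : oc K w ⊓ centralizer (A : Set G) ≤ oc K w)
  rw [← h3]
  conv_lhs => rw [← h2]
  calc _ ≤ (oc K w ⊓ centralizer (A : Set G)).relIndex (oc K w) *
        Nat.card (A ⊓ centralizer (oc K w : Set G) : Subgroup G) *
        Nat.card (oc K w ⊓ centralizer (A : Set G) : Subgroup G) :=
        Nat.mul_le_mul_right _ (Nat.mul_le_mul_right _ h1)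
    _ = _ := by ring

theorem nrm_o2 (X : Subgroup G) : normalizer (X : Set G) ≤ normalizer (o2 X : Set G) :=
  ZN.normalizer_le_normalizer_o2 X

theorem cj_sup' (g : G) (A B : Subgroup G) : cj g (A ⊔ B) = cj g A ⊔ cj g B := Subgroup.map_sup _ _ _

theorem nrm_cent (X : Subgroup G) : normalizer (X : Set G) ≤ normalizer (centralizer (X : Set G) : Set G) := by
  intro g hg
  rw [mem_normalizer_iff_cj, cj_centralizer, cj_eq_of_mem_normalizer hg]

theorem nrm_inf {X A B : Subgroup G} (hA : X ≤ normalizer (A : Set G)) (hB : X ≤ normalizer (B : Set G)) :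
    X ≤ normalizer ((A ⊓ B : Subgroup G) : Set G) :=
  (le_inf hA hB).trans inf_normalizer_le_normalizer_inf

namespace DD

variable [Finite G] {T H₁ H₂ : Subgroup G} {z₁ z₂ s : G} (h : DD T H₁ H₂ z₁ z₂ s)
include h

omit [Finite G] in
theorem symm : DD T H₂ H₁ z₂ z₁ s :=
  ⟨h.syl₂, h.syl₁, h.mem₂, h.mem₁, h.cen₂, h.cen₁, h.mid₂, h.mid₁, h.char₂, h.char₁, h.kg₂, h.kg₁, h.sH₂, h.sH₁,
    h.sT, h.s₂, h.s₁⟩

theorem U_comm : ∀ x ∈ zl T H₂, ∀ y ∈ zl T H₂, x * y = y * x :=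
  MinSimple.VModule.zl_comm h.syl₂.1 h.syl₂.2.1 (syl_not_dvd h.syl₂) h.char₂

theorem U_sq : ∀ x ∈ zl T H₂, x * x = 1 := fun x hx => by
  rw [← pow_two]
  exact MinSimple.VModule.zl_sq h.syl₂.1 h.syl₂.2.1 (syl_not_dvd h.syl₂) h.char₂ x hx

theorem o2_cent : o2 H₂ ≤ centralizer (zl T H₂ : Set G) :=
  MinSimple.VModule.o2_le_centralizer_zl h.syl₂.1 h.syl₂.2.1 (syl_not_dvd h.syl₂) h.char₂

theorem U_le_T : zl T H₂ ≤ T :=
  ((MinSimple.VModule.zl_le_zc h.syl₂.1 h.syl₂.2.1 (syl_not_dvd h.syl₂) h.char₂).trans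
    (MinSimple.VModule.zc_le _)).trans (o2_le_of_sylow h.syl₂.2.1 (syl_not_dvd h.syl₂))

theorem U_le_cent {m : G} (hm : m ∈ zc T) : zl T H₂ ≤ centralizer ({m} : Set G) := by
  intro x hx
  rw [mem_cent1]
  exact h.U_comm x hx m (MinSimple.VModule.zc_le_zl T H₂ hm)

theorem U_le {K : Subgroup G} (hK : K ≤ H₁) (hU : zl T H₂ ≤ K) :
    zl T H₂ ≤ o2 (K ⊓ centralizer ({z₂} : Set G)) := by
  refine le_o2 (le_inf hU (h.U_le_cent h.mem₂)) (h.syl₂.2.1.to_le h.U_le_T) ?_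
  exact ((inf_le_inf_right _ hK).trans h.mid₁).trans (MinSimple.VModule.le_normalizer_zl _ _)

/-- a subgroup of `U₂ ∩ K` centralising `⟨z₂^K⟩` lies in `O₂(K)` -/
theorem low {K A : Subgroup G} (hK : K ≤ H₁) (hU : zl T H₂ ≤ K) (hA : A ≤ zl T H₂)
    (hAc : A ≤ centralizer (oc K z₂ : Set G)) : A ≤ o2 K := by
  set F : Subgroup G := K ⊓ centralizer (oc K z₂ : Set G) with hF
  have hFz : F ≤ K ⊓ centralizer ({z₂} : Set G) :=
    le_inf inf_le_left (inf_le_right.trans (centralizer_le (by simpa using self_mem_oc K z₂)))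
  have hKF : K ≤ normalizer (F : Set G) := nrm_inf Subgroup.le_normalizer ((oc_norm K z₂).trans (nrm_cent _))
  set N : Subgroup G := o2 (K ⊓ centralizer ({z₂} : Set G)) ⊓ F with hN
  have h1 : N ≤ o2 F := by
    refine le_o2 inf_le_right ((o2_isPGroup _).to_le inf_le_left) ?_
    exact nrm_inf (hFz.trans (le_normalizer_o2 _)) Subgroup.le_normalizer
  have h2 : o2 F ≤ o2 K := le_o2 ((o2_le F).trans inf_le_left) (o2_isPGroup _) (hKF.trans (nrm_o2 F))
  exact (le_inf (hA.trans (h.U_le hK hU)) (le_inf (hA.trans hU) hAc)).trans (h1.trans h2)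

/-- **`U₁`, `U₂` act on each other without over-offenders** -/
theorem ml (hML : MLK.{u, u}) {A : Subgroup G} (hA : A ≤ zl T H₂) :
    Nat.card A * Nat.card (zl T H₁ ⊓ centralizer (A : Set G) : Subgroup G) ≤
      Nat.card (A ⊓ centralizer (zl T H₁ : Set G) : Subgroup G) * Nat.card (zl T H₁) := by
  set W : Subgroup G := oc H₁ z₂ with hW
  have hWU : W ≤ zl T H₁ :=
    oc_le_of (MinSimple.VModule.zc_le_zl T H₁ h.mem₂) (MinSimple.VModule.le_normalizer_zl _ _)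
  have hUH : zl T H₂ ≤ H₁ := h.U_le_T.trans h.syl₁.1
  have h1 := ml_card hML (h.kg₁ H₁ le_rfl) h.syl₁ h.mem₂
    (fun x hx y hy => h.symm.U_comm x (hWU hx) y (hWU hy)) (hA.trans (h.U_le le_rfl hUH))
    (fun a ha => h.U_sq a (hA ha))
  rw [← hW] at h1
  -- the kernel
  have h2 : A ⊓ centralizer (W : Set G) = A ⊓ centralizer (zl T H₁ : Set G) := by
    apply le_antisymm
    · refine le_inf inf_le_left ?_
      exact (h.low (K := H₁) le_rfl hUH (inf_le_left.trans hA) inf_le_right).trans h.symm.o2_cent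
    · exact inf_le_inf_left _ (centralizer_le hWU)
  rw [h2] at h1
  have h3 : (zl T H₁ : Subgroup G) ⊓ centralizer (A : Set G) = zl T H₁ ⊓ centralizer (A : Set G) := rfl
  have h4 := rel_card (inf_le_left : W ⊓ centralizer (A : Set G) ≤ W)
  have h5 := rel_card (inf_le_left : zl T H₁ ⊓ centralizer (A : Set G) ≤ zl T H₁)
  have h6 : (W ⊓ centralizer (A : Set G)).relIndex W ≤ (zl T H₁ ⊓ centralizer (A : Set G)).relIndex (zl T H₁) := by
    have e1 : (W ⊓ centralizer (A : Set G)).relIndex W = (centralizer (A : Set G)).relIndex W := inf_relIndex_left _ _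
    have e2 : (zl T H₁ ⊓ centralizer (A : Set G)).relIndex (zl T H₁) =
        (centralizer (A : Set G)).relIndex (zl T H₁) := inf_relIndex_left _ _
    rw [e1, e2]
    exact relIndex_le_of_le_right hWU index_ne_zero_of_finite
  have hpos : 0 < Nat.card (W ⊓ centralizer (A : Set G) : Subgroup G) := Nat.card_pos
  have h7 : Nat.card A ≤ Nat.card (A ⊓ centralizer (zl T H₁ : Set G) : Subgroup G) *
      (W ⊓ centralizer (A : Set G)).relIndex W := by
    refine Nat.le_of_mul_le_mul_right ?_ hpos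
    rw [mul_assoc, h4]
    exact h1
  calc _ ≤ Nat.card (A ⊓ centralizer (zl T H₁ : Set G) : Subgroup G) *
        (zl T H₁ ⊓ centralizer (A : Set G)).relIndex (zl T H₁) *
        Nat.card (zl T H₁ ⊓ centralizer (A : Set G) : Subgroup G) :=
        Nat.mul_le_mul_right _ (h7.trans (Nat.mul_le_mul_left _ h6))
    _ = _ := by rw [mul_assoc, h5]

theorem duo (hML : MLK.{u, u}) : Duo (zl T H₁) (zl T H₂) :=
  ⟨h.symm.U_comm, h.U_comm, fun _ hA => h.ml hML hA, fun _ hA => h.symm.ml hML hA⟩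

/-- **(1)** : `al m := C_{U₂}(⟨z₂^{C_{H₁}(m)}⟩)` -/
theorem exa (hML : MLK.{u, u}) {m : G} (hm : m ∈ zc T) :
    Exa (zl T H₁) (zl T H₂)
      (zl T H₂ ⊓ centralizer (oc (H₁ ⊓ centralizer ({m} : Set G)) z₂ : Set G)) ∧
    zl T H₁ ⊓ centralizer
        ((zl T H₂ ⊓ centralizer (oc (H₁ ⊓ centralizer ({m} : Set G)) z₂ : Set G) : Subgroup G) : Set G) =
      oc (H₁ ⊓ centralizer ({m} : Set G)) z₂ ⊔ (zl T H₁ ⊓ centralizer (zl T H₂ : Set G)) := by
  set K : Subgroup G := H₁ ⊓ centralizer ({m} : Set G) with hK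
  have hVU : oc K z₂ ≤ zl T H₁ :=
    oc_le_of (MinSimple.VModule.zc_le_zl T H₁ h.mem₂) (inf_le_left.trans (MinSimple.VModule.le_normalizer_zl _ _))
  have hTK : T ≤ K := by
    refine le_inf h.syl₁.1 fun t ht => ?_
    rw [mem_cent1]
    exact (MinSimple.VModule.mem_zc.1 hm).2.1 t ht
  have hsyl : Syl T K := ⟨hTK, h.syl₁.2.1, fun Q hQ h2 hTQ => h.syl₁.2.2 Q (hQ.trans inf_le_left) h2 hTQ⟩
  have hUK : zl T H₂ ≤ K := h.U_le_T.trans hTK
  refine (h.duo hML).al hVU ?_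
  exact ml_card hML (h.kg₁ K inf_le_left) hsyl h.mem₂
    (fun x hx y hy => h.symm.U_comm x (hVU hx) y (hVU hy)) (h.U_le inf_le_left hUK) h.U_sq

omit [Finite G] h in
theorem T_le_cent {m : G} (hm : m ∈ zc T) : T ≤ centralizer ({m} : Set G) := by
  intro t ht
  rw [mem_cent1]
  exact (MinSimple.VModule.mem_zc.1 hm).2.1 t ht

omit [Finite G] in
theorem V_le (m : G) : oc (H₁ ⊓ centralizer ({m} : Set G)) z₂ ≤ zl T H₁ :=
  oc_le_of (MinSimple.VModule.zc_le_zl T H₁ h.mem₂) (inf_le_left.trans (MinSimple.VModule.le_normalizer_zl _ _))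

omit [Finite G] in
/-- the image under `s` -/
theorem cj_V {m : G} : cj s (oc (H₁ ⊓ centralizer ({m} : Set G)) z₂) =
    oc (H₂ ⊓ centralizer ({s * m * s⁻¹} : Set G)) z₁ := by
  have e : cj s (centralizer ({m} : Set G)) = centralizer ({s * m * s⁻¹} : Set G) := by
    ext x
    rw [mem_cj, mem_cent1, mem_cent1]
    constructor
    · intro hx
      have := congrArg (fun t => s * t * s⁻¹) hx
      simpa [mul_assoc] using this
    · intro hx
      have := congrArg (fun t => s⁻¹ * t * s) hx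
      simpa [mul_assoc] using this
  rw [cj_oc, cj_inf, h.sH₁, e, h.s₂]

omit [Finite G] in
theorem cj_U : cj s (zl T H₁) = zl T H₂ := by
  have h1 : zl (cj s T) (cj s H₁) = cj s (zl T H₁) := ZN.zl_map _ (MulAut.conj s).injective T H₁
  rw [← h1, h.sH₁, h.sT]

omit [Finite G] in
theorem cj_Y : cj s (zl T H₁ ⊓ centralizer (zl T H₂ : Set G)) = zl T H₂ ⊓ centralizer (zl T H₁ : Set G) := by
  rw [cj_inf, cj_centralizer, h.cj_U, h.symm.cj_U]

/-- `al m` is `T`-invariant -/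
theorem al_T {m : G} (hm : m ∈ zc T) : T ≤ normalizer
    ((zl T H₂ ⊓ centralizer (oc (H₁ ⊓ centralizer ({m} : Set G)) z₂ : Set G) : Subgroup G) : Set G) := by
  refine nrm_inf (h.syl₂.1.trans (MinSimple.VModule.le_normalizer_zl _ _)) ?_
  exact ((le_inf h.syl₁.1 (T_le_cent hm)).trans (oc_norm _ _)).trans (nrm_cent _)

/-- `al m` is not `Y₂` -/
theorem al_ne (hML : MLK.{u, u}) {m : G} (hm : m ∈ zc T) (hms : s * m * s⁻¹ = m)
    (hc : oc (H₁ ⊓ centralizer ({m} : Set G)) z₂ ≤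
      centralizer (oc (H₂ ⊓ centralizer ({m} : Set G)) z₁ : Set G))
    (hne : ¬ zl T H₂ ≤ centralizer (zl T H₁ : Set G)) :
    ¬ zl T H₂ ⊓ centralizer (oc (H₁ ⊓ centralizer ({m} : Set G)) z₂ : Set G) ≤ centralizer (zl T H₁ : Set G) := by
  intro h0
  set V := oc (H₁ ⊓ centralizer ({m} : Set G)) z₂ with hV
  set V' := oc (H₂ ⊓ centralizer ({m} : Set G)) z₁ with hV'
  set Y₁ : Subgroup G := zl T H₁ ⊓ centralizer (zl T H₂ : Set G) with hY₁
  set Y₂ : Subgroup G := zl T H₂ ⊓ centralizer (zl T H₁ : Set G) with hY₂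
  have h1 := (h.exa hML hm).2
  rw [← hV, ← hY₁] at h1
  have h2 : zl T H₁ = V ⊔ Y₁ := by
    rw [← h1]
    symm
    rw [inf_eq_left, le_centralizer_iff]
    exact h0
  have h3 : zl T H₂ = V' ⊔ Y₂ := by
    have := congrArg (cj s) h2
    rwa [h.cj_U, cj_sup', h.cj_V, hms, h.cj_Y] at this
  apply hne
  rw [h3, sup_le_iff]
  refine ⟨?_, inf_le_right⟩
  rw [h2, le_centralizer_iff, sup_le_iff]
  refine ⟨hc, ?_⟩
  refine inf_le_right.trans (centralizer_le ?_)
  rw [h3]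
  exact_mod_cast (le_sup_left : V' ≤ V' ⊔ Y₂)

/-- **(3)** : an exact group `E ≤ U₂` in `O₂(C_{H₁}(z₂)) ∩ O₂(C_{H₁}(y)) ∩ O₂(C_{H₁}(z₂ y))`. -/
theorem exists_E (hML : MLK.{u, u}) {y : G} (hy : y ∈ zc T) (hys : s * y * s⁻¹ = y)
    (cy : oc (H₁ ⊓ centralizer ({y} : Set G)) z₂ ≤
      centralizer (oc (H₂ ⊓ centralizer ({y} : Set G)) z₁ : Set G))
    (ce : oc (H₁ ⊓ centralizer ({z₂ * y} : Set G)) z₂ ≤
      centralizer (oc (H₂ ⊓ centralizer ({z₂ * y} : Set G)) z₁ : Set G))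
    (cz : oc (H₁ ⊓ centralizer ({z₁ * z₂ * y} : Set G)) z₂ ≤
      centralizer (oc (H₂ ⊓ centralizer ({z₁ * z₂ * y} : Set G)) z₁ : Set G))
    (hne : ¬ zl T H₂ ≤ centralizer (zl T H₁ : Set G)) :
    ∃ E : Subgroup G, Exa (zl T H₁) (zl T H₂) E ∧ ¬ E ≤ centralizer (zl T H₁ : Set G) ∧
      T ≤ normalizer (E : Set G) ∧ E ≤ o2 (H₁ ⊓ centralizer ({z₂} : Set G)) ∧
      E ≤ o2 (H₁ ⊓ centralizer ({y} : Set G)) ∧ E ≤ o2 (H₁ ⊓ centralizer ({z₂ * y} : Set G)) := by
  have hz : z₁ * z₂ * y ∈ zc T := mul_mem (mul_mem h.mem₁ h.mem₂) hy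
  have he : z₂ * y ∈ zc T := mul_mem h.mem₂ hy
  -- `C_{H₁}(z₁ z₂ y) = C_{H₁}(z₂ y)`
  have e1 : H₁ ⊓ centralizer ({z₁ * z₂ * y} : Set G) = H₁ ⊓ centralizer ({z₂ * y} : Set G) := by
    ext x
    rw [mem_inf, mem_inf, mem_cent1, mem_cent1]
    refine and_congr_right fun hx => ?_
    have h1 : x * z₁ = z₁ * x := mem_cent1.1 (h.cen₁ hx)
    have e : x * (z₁ * z₂ * y) = z₁ * (x * (z₂ * y)) := by
      rw [mul_assoc z₁, ← mul_assoc x, h1, mul_assoc]
    have e' : z₁ * z₂ * y * x = z₁ * (z₂ * y * x) := by group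
    rw [e, e']
    exact mul_right_inj z₁
  have e2 : H₂ ⊓ centralizer ({z₂ * y} : Set G) = H₂ ⊓ centralizer ({y} : Set G) := by
    ext x
    rw [mem_inf, mem_inf, mem_cent1, mem_cent1]
    refine and_congr_right fun hx => ?_
    have h1 : x * z₂ = z₂ * x := mem_cent1.1 (h.cen₂ hx)
    have e : x * (z₂ * y) = z₂ * (x * y) := by rw [← mul_assoc, h1, mul_assoc]
    have e' : z₂ * y * x = z₂ * (y * x) := by group
    rw [e, e']
    exact mul_right_inj z₂
  have hzs : s * (z₁ * z₂ * y) * s⁻¹ = z₁ * z₂ * y := by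
    have e : s * (z₁ * z₂ * y) * s⁻¹ = (s * z₁ * s⁻¹) * (s * z₂ * s⁻¹) * (s * y * s⁻¹) := by group
    rw [e, h.s₁, h.s₂, hys, MinSimple.VModule.zc_comm T z₂ h.mem₂ z₁ h.mem₁]
  set V := oc (H₁ ⊓ centralizer ({y} : Set G)) z₂ with hV
  set V' := oc (H₂ ⊓ centralizer ({y} : Set G)) z₁ with hV'
  set W := oc (H₁ ⊓ centralizer ({z₂ * y} : Set G)) z₂ with hW
  have hay := h.exa hML hy
  have hae := h.exa hML he
  rw [← hV] at hay
  rw [← hW] at hae
  have ny := h.al_ne hML hy hys cy hne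
  have nz := h.al_ne hML hz hzs cz hne
  rw [e1, ← hW] at nz
  rw [← hV] at ny
  rw [e2, ← hV'] at ce
  refine ⟨(zl T H₂ ⊓ centralizer (V : Set G)) ⊓ (zl T H₂ ⊓ centralizer (W : Set G)),
    (h.duo hML).inf hay.1 hae.1, ?_, ?_, ?_, ?_, ?_⟩
  · intro h0
    have hV'U : V' ≤ zl T H₂ := h.symm.V_le y
    have hV'E : V' ≤ (zl T H₂ ⊓ centralizer (V : Set G)) ⊓ (zl T H₂ ⊓ centralizer (W : Set G)) := by
      refine le_inf (le_inf hV'U ?_) (le_inf hV'U ?_)
      · rw [le_centralizer_iff]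
        exact cy
      · rw [le_centralizer_iff]
        exact ce
    have h1 : V' ≤ zl T H₂ ⊓ centralizer (zl T H₁ : Set G) := le_inf hV'U (hV'E.trans h0)
    -- conjugate by `s`
    have h2 : V ≤ zl T H₁ ⊓ centralizer (zl T H₂ : Set G) := by
      have := cj_mono s h1
      rw [h.symm.cj_V, hys, h.symm.cj_Y] at this
      exact this
    have h3 : zl T H₂ ≤ centralizer (V : Set G) := by
      rw [le_centralizer_iff]
      exact h2.trans inf_le_right
    rw [inf_eq_left.2 h3] at h0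
    exact nz ((le_inf inf_le_left le_rfl : _ ≤ _).trans h0)
  · exact nrm_inf (h.al_T hy) (h.al_T he)
  · exact (inf_le_left.trans inf_le_left).trans (h.U_le le_rfl (h.U_le_T.trans h.syl₁.1))
  · refine h.low inf_le_left (h.U_le_T.trans (le_inf h.syl₁.1 (T_le_cent hy))) (inf_le_left.trans inf_le_left) ?_
    exact inf_le_left.trans inf_le_right
  · refine h.low inf_le_left (h.U_le_T.trans (le_inf h.syl₁.1 (T_le_cent he))) (inf_le_left.trans inf_le_left) ?_
    exact inf_le_right.trans inf_le_right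

end DD

end pair

end Cfsg.Agent.Omega.NO3S.EMany.Al
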