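import Cfsg.Agent.Omega.TV.Basic

/-!
# NO-3S, case (E), `k ≥ 3`, `q = 2`: the module part (bb #18482 (1)-(3), (5), with the repair #19114)

`X` is a finite group acting faithfully (`ρ`) on `U` over `𝔽₂`, `O₂(X) = 1`, `T` a Sylow 2-subgroup, `b` fixed by `X`,
`c` and the `w o` fixed by `T`, and these are all vectors fixed by `T` up to sums; `L` moves `c` only, `LO o` moves
`w o` only; `X = ⟨C_X(c), L⟩`; `Q` is a 2-subgroup of `C_X(c)` normalised by it.

* `ES` : this setting, with (ML);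
* `ES.ex` : an exact elementary abelian `A ≤ Q` centralises every invariant `Y` without `c`, and `U = N C_U(A)`;
* `ES.split` : `U = N + C_U(K̂)`, `K̂` the normal closure of the exact groups;
* `ES.alt` : `w o ∈ C_U(K̂)` (BETA) or `w o ∈ N` and `c ∈ ⟨(w o)^X⟩` (ALPHA);
* `ES.orbit` : if `X = K̂ C_X(c)` and `o` is BETA, the orbits of `w o` under `X` and `C_X(c)` are equal.
-/

set_option autoImplicit false

namespace Cfsg.Agent.Omega.NO3S.EMany

open Module Cfsg.Agent.Omega.TV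

variable {X : Type*} [Group X] {U : Type*} [AddCommGroup U] [Module (ZMod 2) U]

/-- the vectors fixed by `A` -/
def cu (ρ : X →* (U ≃ₗ[ZMod 2] U)) (A : Set X) : Submodule (ZMod 2) U where
  carrier := {u | ∀ a ∈ A, ρ a u = u}
  zero_mem' := fun a _ => map_zero _
  add_mem' := fun hu hv a ha => by rw [map_add, hu a ha, hv a ha]
  smul_mem' := fun c u hu a ha => by rw [map_smul, hu a ha]

theorem mem_cu {ρ : X →* (U ≃ₗ[ZMod 2] U)} {A : Set X} {u : U} : u ∈ cu ρ A ↔ ∀ a ∈ A, ρ a u = u := Iff.rfl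

/-- invariant submodules -/
def Inv (ρ : X →* (U ≃ₗ[ZMod 2] U)) (W : Submodule (ZMod 2) U) : Prop := ∀ x, ∀ u ∈ W, ρ x u ∈ W

/-- the submodule generated by the orbit of `v` -/
def orb (ρ : X →* (U ≃ₗ[ZMod 2] U)) (v : U) : Submodule (ZMod 2) U := Submodule.span (ZMod 2) {u | ∃ x, ρ x v = u}

theorem mem_orb (ρ : X →* (U ≃ₗ[ZMod 2] U)) (v : U) (x : X) : ρ x v ∈ orb ρ v := Submodule.subset_span ⟨x, rfl⟩

theorem self_mem_orb (ρ : X →* (U ≃ₗ[ZMod 2] U)) (v : U) : v ∈ orb ρ v := by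
  have := mem_orb ρ v 1
  rwa [rone] at this

theorem inv_orb (ρ : X →* (U ≃ₗ[ZMod 2] U)) (v : U) : Inv ρ (orb ρ v) := by
  intro x u hu
  induction hu using Submodule.span_induction with
  | mem u hu =>
    obtain ⟨y, rfl⟩ := hu
    rw [← rmul]
    exact mem_orb ρ v _
  | zero => rw [map_zero]; exact zero_mem _
  | add u w _ _ h1 h2 => rw [map_add]; exact add_mem h1 h2
  | smul a u _ h1 => rw [map_smul]; exact Submodule.smul_mem _ _ h1

theorem orb_le {ρ : X →* (U ≃ₗ[ZMod 2] U)} {W : Submodule (ZMod 2) U} (hW : Inv ρ W) {v : U} (hv : v ∈ W) :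
    orb ρ v ≤ W := by
  refine Submodule.span_le.2 ?_
  rintro _ ⟨x, rfl⟩
  exact hW x v hv

theorem Inv.sup {ρ : X →* (U ≃ₗ[ZMod 2] U)} {W W' : Submodule (ZMod 2) U} (h : Inv ρ W) (h' : Inv ρ W') :
    Inv ρ (W ⊔ W') := by
  intro x u hu
  obtain ⟨a, ha, b, hb, rfl⟩ := Submodule.mem_sup.1 hu
  rw [map_add]
  exact Submodule.add_mem_sup (h x a ha) (h' x b hb)

theorem Inv.cu_normal {ρ : X →* (U ≃ₗ[ZMod 2] U)} {K : Subgroup X} (hK : K.Normal) : Inv ρ (cu ρ (K : Set X)) := by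
  intro x u hu k hk
  have h1 : x⁻¹ * k * x ∈ K := by
    have := hK.conj_mem k hk x⁻¹
    rwa [inv_inv] at this
  have h2 := hu _ h1
  have e : ρ k (ρ x u) = ρ x (ρ (x⁻¹ * k * x) u) := by
    rw [← rmul, ← rmul]
    congr 2
    group
  rw [e, h2]

/-- a 2-group of odd index fixes a vector in every odd invariant set: in the coset of an odd orbit -/
theorem exists_fixed [Finite X] [Finite U] {ρ : X →* (U ≃ₗ[ZMod 2] U)} {T E : Subgroup X}
    (hodd : ¬ 2 ∣ T.index) (hTE : T ≤ E) {c : U} (hc : ∀ t ∈ T, ρ t c = c) {Y : Submodule (ZMod 2) U}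
    (hE : ∀ e ∈ E, ρ e c + c ∈ Y) : ∃ v : U, v + c ∈ Y ∧ ∀ e ∈ E, ρ e v = v := by
  classical
  have := Fintype.ofFinite U
  -- the orbit
  let A : Finset U := Finset.univ.filter fun u => ∃ e ∈ E, ρ e c = u
  have hA : ∀ u, u ∈ A ↔ ∃ e ∈ E, ρ e c = u := fun u => by simp [A]
  have hinv : ∀ e ∈ E, ∀ u ∈ A, ρ e u ∈ A := by
    intro e he u hu
    obtain ⟨f, hf, rfl⟩ := (hA u).1 hu
    exact (hA _).2 ⟨e * f, mul_mem he hf, rmul ρ e f c⟩
  have hcard : ¬ 2 ∣ A.card := by
    let _act : MulAction E U :=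
      { smul := fun e u => ρ (e : X) u
        one_smul := fun u => by
          show ρ ((1 : E) : X) u = u
          rw [Subgroup.coe_one, rone]
        mul_smul := fun e f u => by
          show ρ ((e * f : E) : X) u = ρ (e : X) (ρ (f : X) u)
          rw [Subgroup.coe_mul, rmul] }
    have h1 := MulAction.index_stabilizer E c
    have h2 : (MulAction.orbit E c).ncard = A.card := by
      have : MulAction.orbit E c = (A : Set U) := by
        ext u
        rw [Finset.mem_coe, hA]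
        constructor
        · rintro ⟨e, rfl⟩
          exact ⟨e, e.2, rfl⟩
        · rintro ⟨e, he, rfl⟩
          exact ⟨⟨e, he⟩, rfl⟩
      rw [this, Set.ncard_coe_finset]
    rw [← h2, ← h1]
    intro hdvd
    apply hodd
    have h3 : T.subgroupOf E ≤ MulAction.stabilizer E c := fun t ht => hc _ ht
    have h4 : (MulAction.stabilizer E c).index ∣ (T.subgroupOf E).index := Subgroup.index_dvd_of_le h3
    have h5 : T.relIndex E ∣ T.index := by
      have := Subgroup.relIndex_dvd_index_of_le (H := T) (K := E) hTE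
      exact this
    exact (hdvd.trans h4).trans h5
  refine ⟨∑ u ∈ A, u, ?_, fun e he => ?_⟩
  · have h1 : ∀ s : Finset U, (∀ u ∈ s, u + c ∈ Y) → (∑ u ∈ s, u) + (s.card : ZMod 2) • c ∈ Y := by
      intro s
      induction s using Finset.induction_on with
      | empty => intro _; simp
      | insert a s ha ih =>
        intro hs
        rw [Finset.sum_insert ha, Finset.card_insert_of_notMem ha, Nat.cast_add, Nat.cast_one, add_smul, one_smul]
        have e : a + ∑ u ∈ s, u + ((s.card : ZMod 2) • c + c) = (a + c) + (∑ u ∈ s, u + (s.card : ZMod 2) • c) := by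
          abel
        rw [e]
        exact add_mem (hs a (Finset.mem_insert_self _ _)) (ih fun u hu => hs u (Finset.mem_insert_of_mem hu))
    have h2 := h1 A (fun u hu => by
      obtain ⟨e, he, rfl⟩ := (hA u).1 hu
      exact hE e he)
    have h3 : (A.card : ZMod 2) = 1 := z2_ne_zero fun h0 => hcard ((ZMod.natCast_eq_zero_iff _ _).1 h0)
    rwa [h3, one_smul] at h2
  · have h1 : ρ e (∑ u ∈ A, u) = ∑ u ∈ A, ρ e u := map_sum _ _ _
    have h2 : A.image (fun u => ρ e u) = A := by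
      refine Finset.eq_of_subset_of_card_le ?_ ?_
      · intro u hu
        obtain ⟨x, hx, rfl⟩ := Finset.mem_image.1 hu
        exact hinv e he x hx
      · rw [Finset.card_image_of_injective _ (ρ e).injective]
    rw [h1]
    conv_rhs => rw [← h2]
    rw [Finset.sum_image (f := fun u => u) (g := fun u => ρ e u) fun a _ b _ hab => (ρ e).injective hab]

/-- **The setting** of #18482 (`q = 2`). -/
structure ES [Finite X] [Finite U] (ρ : X →* (U ≃ₗ[ZMod 2] U)) (T Q : Subgroup X) (b c : U) (L : Subgroup X)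
    {O : Type*} (w : O → U) (LO : O → Subgroup X) : Prop where
  inj : Function.Injective ρ
  two : IsPGroup 2 T
  odd : ¬ 2 ∣ T.index
  /-- `O₂(X) = 1` -/
  o2 : ∀ K : Subgroup X, K.Normal → ∀ R : Subgroup X, IsPGroup 2 R → R ≤ K →
    (∀ k ∈ K, ∀ r ∈ R, k * r * k⁻¹ ∈ R) → R = ⊥
  fixb : ∀ x, ρ x b = b
  fixc : ∀ t ∈ T, ρ t c = c
  fixw : ∀ o, ∀ t ∈ T, ρ t (w o) = w o
  w_ne : ∀ o, w o ≠ 0
  /-- the vectors fixed by `T` -/
  fixT : ∀ v : U, (∀ t ∈ T, ρ t v = v) → ∃ (β γ : ZMod 2) (s : Finset O), v = β • b + γ • c + ∑ o ∈ s, w o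
  gen : ∀ W : Submodule (ZMod 2) U, Inv ρ W → b ∈ W → c ∈ W → (∀ o, w o ∈ W) → W = ⊤
  Q2 : IsPGroup 2 Q
  Qc : ∀ q ∈ Q, ρ q c = c
  nQ : ∀ x, ρ x c = c → ∀ q ∈ Q, x * q * x⁻¹ ∈ Q
  Lw : ∀ l ∈ L, ∀ o, ρ l (w o) = w o
  Lc : ∀ Y : Submodule (ZMod 2) U, (∀ l ∈ L, ρ l c + c ∈ Y) → c ∈ Y
  Oc : ∀ o, ∀ l ∈ LO o, ρ l c = c
  Ow' : ∀ o o', o' ≠ o → ∀ l ∈ LO o, ρ l (w o') = w o'
  Ow : ∀ o, ∀ Y : Submodule (ZMod 2) U, (∀ l ∈ LO o, ρ l (w o) + w o ∈ Y) → w o ∈ Y
  genX : ∀ K : Subgroup X, (∀ x, ρ x c = c → x ∈ K) → L ≤ K → K = ⊤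
  /-- (ML) for `(⟨c^X⟩ + Y) / Y` -/
  ml : ∀ Y : Submodule (ZMod 2) U, Inv ρ Y → (∀ x, ρ x c + c ∈ Y → ρ x c = c) → ∀ A ≤ Q, (∀ a ∈ A, a * a = 1) →
    ∀ (KA : Subgroup X) (CW : Submodule (ZMod 2) U),
      (∀ a, a ∈ KA ↔ a ∈ A ∧ ∀ u ∈ orb ρ c ⊔ Y, ρ a u + u ∈ Y) →
      (∀ u, u ∈ CW ↔ u ∈ orb ρ c ⊔ Y ∧ ∀ a ∈ A, ρ a u + u ∈ Y) →
      Nat.card A * Nat.card CW ≤ Nat.card KA * Nat.card (orb ρ c ⊔ Y : Submodule (ZMod 2) U)

/-- exact elementary abelian groups -/
structure Ex [Finite X] [Finite U] (ρ : X →* (U ≃ₗ[ZMod 2] U)) (Q A : Subgroup X) : Prop where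
  le : A ≤ Q
  sq : ∀ a ∈ A, a * a = 1
  ne : A ≠ ⊥
  eq : Nat.card A * Nat.card (cu ρ (A : Set X)) = Nat.card U

/-- the normal closure of the exact groups -/
def Kh [Finite X] [Finite U] (ρ : X →* (U ≃ₗ[ZMod 2] U)) (Q : Subgroup X) : Subgroup X :=
  Subgroup.normalClosure {a | ∃ A, Ex ρ Q A ∧ a ∈ A}

namespace ES

variable [Finite X] [Finite U] {ρ : X →* (U ≃ₗ[ZMod 2] U)} {T Q : Subgroup X} {b c : U} {L : Subgroup X}
  {O : Type*} {w : O → U} {LO : O → Subgroup X} (h : ES ρ T Q b c L w LO)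

include h

/-- a `T`-fixed vector in an invariant submodule without `c` has no `c`-coordinate, and an invariant submodule
containing a `T`-fixed vector with `o`-coordinate contains `w o` -/
theorem c_of {Y : Submodule (ZMod 2) U} (hY : Inv ρ Y) {β : ZMod 2} {s : Finset O}
    (hv : β • b + (1 : ZMod 2) • c + ∑ o ∈ s, w o ∈ Y) : c ∈ Y := by
  refine h.Lc Y fun l hl => ?_
  have h1 := add_mem (hY l _ hv) hv
  have h2 : ρ l (∑ o ∈ s, w o) = ∑ o ∈ s, w o := by
    rw [map_sum]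
    exact Finset.sum_congr rfl fun o _ => h.Lw l hl o
  rw [map_add, map_add, map_smul, h.fixb, h2, map_smul, one_smul, one_smul] at h1
  have e : β • b + ρ l c + ∑ o ∈ s, w o + (β • b + c + ∑ o ∈ s, w o) =
      (β • b + β • b) + (∑ o ∈ s, w o + ∑ o ∈ s, w o) + (ρ l c + c) := by abel
  simp only [e, v_add_self, zero_add] at h1
  exact h1

theorem w_of {Y : Submodule (ZMod 2) U} (hY : Inv ρ Y) {β γ : ZMod 2} {s : Finset O} {o : O} (ho : o ∈ s)
    (hv : β • b + γ • c + ∑ o ∈ s, w o ∈ Y) : w o ∈ Y := by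
  classical
  refine h.Ow o Y fun l hl => ?_
  have h1 := add_mem (hY l _ hv) hv
  have hs : ∑ o ∈ s, w o = w o + ∑ o' ∈ s.erase o, w o' := (Finset.add_sum_erase s w ho).symm
  have h2 : ρ l (∑ o' ∈ s.erase o, w o') = ∑ o' ∈ s.erase o, w o' := by
    rw [map_sum]
    exact Finset.sum_congr rfl fun o' ho' => h.Ow' o o' (Finset.ne_of_mem_erase ho') l hl
  rw [hs, map_add, map_add, map_smul, h.fixb, map_smul, h.Oc o l hl, map_add, h2] at h1
  have e : β • b + γ • c + (ρ l (w o) + ∑ o' ∈ s.erase o, w o') + (β • b + γ • c + (w o + ∑ o' ∈ s.erase o, w o')) =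
      (β • b + β • b) + (γ • c + γ • c) + (∑ o' ∈ s.erase o, w o' + ∑ o' ∈ s.erase o, w o') + (ρ l (w o) + w o) := by
    abel
  simp only [e, v_add_self, zero_add] at h1
  exact h1

/-- the stabiliser of `c + Y` is the stabiliser of `c` -/
theorem stab {Y : Submodule (ZMod 2) U} (hY : Inv ρ Y) (hc : c ∉ Y) {x : X} (hx : ρ x c + c ∈ Y) : ρ x c = c := by
  let E : Subgroup X :=
    { carrier := {x | ρ x c + c ∈ Y}
      one_mem' := by
        show ρ 1 c + c ∈ Y
        rw [rone, v_add_self]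
        exact zero_mem _
      mul_mem' := by
        intro x y (hx : ρ x c + c ∈ Y) (hy : ρ y c + c ∈ Y)
        show ρ (x * y) c + c ∈ Y
        have h1 := add_mem (hY x _ hy) hx
        rw [map_add, add_assoc, self_add_add, ← rmul] at h1
        exact h1
      inv_mem' := by
        intro x (hx : ρ x c + c ∈ Y)
        show ρ x⁻¹ c + c ∈ Y
        have h1 := hY x⁻¹ _ hx
        rw [map_add, rinv, add_comm] at h1
        exact h1 }
  have hTE : T ≤ E := fun t ht => by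
    show ρ t c + c ∈ Y
    rw [h.fixc t ht, v_add_self]
    exact zero_mem _
  obtain ⟨v, hv, hvE⟩ := exists_fixed (E := E) h.odd hTE h.fixc (fun e he => he)
  obtain ⟨β, γ, s, rfl⟩ := h.fixT v fun t ht => hvE t (hTE ht)
  have hγ : γ = 1 := by
    apply z2_ne_zero
    rintro rfl
    apply hc
    refine h.c_of hY (β := β) (s := s) ?_
    have e : β • b + (0 : ZMod 2) • c + ∑ o ∈ s, w o + c = β • b + (1 : ZMod 2) • c + ∑ o ∈ s, w o := by
      rw [zero_smul, one_smul]; abel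
    rwa [e] at hv
  subst hγ
  have hs : s = ∅ := by
    by_contra hne
    obtain ⟨o, ho⟩ := Finset.nonempty_iff_ne_empty.2 hne
    have hLE : LO o ≤ E := fun l hl => by
      show ρ l c + c ∈ Y
      rw [h.Oc o l hl, v_add_self]
      exact zero_mem _
    classical
    -- `w o = 0`
    have key : ∀ l ∈ LO o, ρ l (w o) = w o := by
      intro l hl
      have h1 := hvE l (hLE hl)
      have hsum : ∑ o ∈ s, w o = w o + ∑ o' ∈ s.erase o, w o' := (Finset.add_sum_erase s w ho).symm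
      have h2 : ρ l (∑ o' ∈ s.erase o, w o') = ∑ o' ∈ s.erase o, w o' := by
        rw [map_sum]
        exact Finset.sum_congr rfl fun o' ho' => h.Ow' o o' (Finset.ne_of_mem_erase ho') l hl
      rw [hsum, map_add, map_add, map_smul, h.fixb, map_smul, h.Oc o l hl, map_add, h2] at h1
      have h3 := congrArg (fun u => u + ∑ o' ∈ s.erase o, w o') (add_left_cancel h1)
      simp only [add_add_self] at h3
      exact h3
    have h4 : w o ∈ (⊥ : Submodule (ZMod 2) U) := h.Ow o ⊥ fun l hl => by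
      rw [key l hl, v_add_self]
      exact zero_mem _
    exact absurd ((Submodule.mem_bot _).1 h4) (h.w_ne o)
  subst hs
  have h1 := hvE x hx
  rw [Finset.sum_empty, add_zero, map_add, map_smul, h.fixb, one_smul] at h1
  exact add_left_cancel h1

/-- a subgroup of `Q` centralising `(N + Y) / Y` is trivial -/
theorem triv {Y : Submodule (ZMod 2) U} (hY : Inv ρ Y) (hc : c ∉ Y) {a : X} (ha : a ∈ Q)
    (haY : ∀ u ∈ orb ρ c ⊔ Y, ρ a u + u ∈ Y) : a = 1 := by
  have hW : Inv ρ (orb ρ c ⊔ Y) := (inv_orb ρ c).sup hY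
  let K : Subgroup X :=
    { carrier := {x | ∀ u ∈ orb ρ c ⊔ Y, ρ x u + u ∈ Y}
      one_mem' := by
        intro u _
        rw [rone, v_add_self]
        exact zero_mem _
      mul_mem' := by
        intro x y hx hy u hu
        have h1 := add_mem (hY x _ (hy u hu)) (hx u hu)
        rw [map_add, add_assoc, self_add_add, ← rmul] at h1
        exact h1
      inv_mem' := by
        intro x hx u hu
        have h1 := hY x⁻¹ _ (hx u hu)
        rw [map_add, rinv, add_comm] at h1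
        exact h1 }
  have hK : K.Normal := by
    refine ⟨fun k hk g u hu => ?_⟩
    have h1 := hY g _ (hk _ (hW g⁻¹ u hu))
    rw [map_add, rinv', ← rmul, ← rmul] at h1
    exact h1
  have hKc : ∀ k ∈ K, ρ k c = c := fun k hk =>
    h.stab hY hc (hk c (Submodule.mem_sup_left (self_mem_orb ρ c)))
  have h1 := h.o2 K hK (Q ⊓ K) (h.Q2.to_le inf_le_left) inf_le_right fun k hk r hr =>
    ⟨h.nQ k (hKc k hk) r hr.1, hK.conj_mem r hr.2 k⟩
  have h2 : a ∈ Q ⊓ K := ⟨ha, haY⟩
  rw [h1, Subgroup.mem_bot] at h2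
  exact h2

omit [Finite X] h in
theorem card_sup_inf (W W' : Submodule (ZMod 2) U) :
    Nat.card (W ⊔ W' : Submodule (ZMod 2) U) * Nat.card (W ⊓ W' : Submodule (ZMod 2) U) =
      Nat.card W * Nat.card W' := by
  have hc : ∀ V : Submodule (ZMod 2) U, Nat.card V = 2 ^ Module.finrank (ZMod 2) V := fun V => by
    rw [Module.natCard_eq_pow_finrank (K := ZMod 2), Nat.card_zmod]
  rw [hc, hc, hc, hc, ← pow_add, ← pow_add, Submodule.finrank_sup_add_finrank_inf_eq]

/-- **(1), (2)** -/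
theorem ex {A : Subgroup X} (hA : Ex ρ Q A) {Y : Submodule (ZMod 2) U} (hY : Inv ρ Y) (hc : c ∉ Y) :
    Y ≤ cu ρ (A : Set X) ∧ (orb ρ c ⊔ Y) ⊔ cu ρ (A : Set X) = ⊤ := by
  set W := orb ρ c ⊔ Y with hW
  let CW : Submodule (ZMod 2) U :=
    { carrier := {u | u ∈ W ∧ ∀ a ∈ A, ρ a u + u ∈ Y}
      zero_mem' := ⟨zero_mem _, fun a _ => by rw [map_zero, add_zero]; exact zero_mem _⟩
      add_mem' := by
        rintro u v ⟨hu, hu'⟩ ⟨hv, hv'⟩
        refine ⟨add_mem hu hv, fun a ha => ?_⟩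
        have h1 := add_mem (hu' a ha) (hv' a ha)
        rw [map_add]
        have e : ρ a u + ρ a v + (u + v) = ρ a u + u + (ρ a v + v) := by abel
        rwa [e]
      smul_mem' := by
        rintro r u ⟨hu, hu'⟩
        refine ⟨Submodule.smul_mem _ _ hu, fun a ha => ?_⟩
        rw [map_smul, ← smul_add]
        exact Submodule.smul_mem _ _ (hu' a ha) }
  have h1 := h.ml Y hY (fun x hx => h.stab hY hc hx) A hA.le hA.sq ⊥ CW
    (fun _ => by
      rw [Subgroup.mem_bot]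
      constructor
      · rintro rfl
        exact ⟨one_mem _, fun u _ => by rw [rone, v_add_self]; exact zero_mem _⟩
      · rintro ⟨h1, h2⟩
        exact h.triv hY hc (hA.le h1) h2)
    (fun u => Iff.rfl)
  rw [Subgroup.card_bot, one_mul, ← hW] at h1
  set C := cu ρ (A : Set X) with hC
  have h2 := card_sup_inf W C
  have h3 : Nat.card (W ⊔ C : Submodule (ZMod 2) U) ≤ Nat.card U := Nat.card_le_card_of_injective _ Subtype.val_injective
  have hCpos : 0 < Nat.card C := Nat.card_pos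
  have hUpos : 0 < Nat.card U := Nat.card_pos
  have hle : W ⊓ C ≤ CW := fun u hu => ⟨hu.1, fun a ha => by
    rw [hu.2 a ha, v_add_self]
    exact zero_mem _⟩
  have hge : Nat.card (W ⊓ C : Submodule (ZMod 2) U) ≤ Nat.card CW := by
    refine Nat.card_le_card_of_injective (Submodule.inclusion hle) (Submodule.inclusion_injective hle)
  have h4 : Nat.card U * Nat.card CW ≤
      Nat.card (W ⊔ C : Submodule (ZMod 2) U) * Nat.card (W ⊓ C : Submodule (ZMod 2) U) := by
    rw [h2]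
    calc Nat.card U * Nat.card CW = Nat.card C * (Nat.card A * Nat.card CW) := by rw [← hA.eq]; ring
      _ ≤ Nat.card C * Nat.card W := Nat.mul_le_mul_left _ h1
      _ = _ := by ring
  have hCWpos : 0 < Nat.card CW := Nat.card_pos
  have h5 : Nat.card CW ≤ Nat.card (W ⊓ C : Submodule (ZMod 2) U) := by
    refine Nat.le_of_mul_le_mul_left (h4.trans ?_) hUpos
    exact Nat.mul_le_mul_right _ h3
  have h6 : W ⊓ C = CW := by
    refine SetLike.coe_injective (Set.eq_of_subset_of_ncard_le hle ?_ (Set.toFinite _))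
    rw [← Nat.card_coe_set_eq, ← Nat.card_coe_set_eq]
    exact h5
  have h7 : Nat.card U ≤ Nat.card (W ⊔ C : Submodule (ZMod 2) U) := by
    rw [h6] at h4
    exact Nat.le_of_mul_le_mul_right h4 hCWpos
  constructor
  · intro y hy
    have hyC : y ∈ CW := ⟨Submodule.mem_sup_right hy, fun a _ => add_mem (hY a y hy) hy⟩
    rw [← h6] at hyC
    exact hyC.2
  · rw [eq_top_iff]
    have h8 : ((W ⊔ C : Submodule (ZMod 2) U) : Set U) = Set.univ := by
      refine Set.eq_of_subset_of_ncard_le (Set.subset_univ _) ?_ (Set.toFinite _)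
      rw [Set.ncard_univ, ← Nat.card_coe_set_eq]
      exact h7
    intro u _
    have : u ∈ ((W ⊔ C : Submodule (ZMod 2) U) : Set U) := by rw [h8]; trivial
    exact this

/-- `[U, A] ≤ N` -/
theorem comm_mem (hc0 : c ≠ 0) {A : Subgroup X} (hA : Ex ρ Q A) {a : X} (ha : a ∈ A) (u : U) :
    ρ a u + u ∈ orb ρ c := by
  have hbot : Inv ρ (⊥ : Submodule (ZMod 2) U) := fun x u hu => by
    rw [(Submodule.mem_bot _).1 hu, map_zero]
    exact zero_mem _
  obtain ⟨-, h2⟩ := h.ex hA hbot fun e => hc0 ((Submodule.mem_bot _).1 e)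
  rw [sup_bot_eq] at h2
  have hu : u ∈ orb ρ c ⊔ cu ρ (A : Set X) := by rw [h2]; trivial
  obtain ⟨n, hn, v, hv, rfl⟩ := Submodule.mem_sup.1 hu
  have h3 := add_mem (inv_orb ρ c a n hn) hn
  rw [map_add, hv a ha]
  have e : ρ a n + v + (n + v) = ρ a n + n + (v + v) := by abel
  rw [e, v_add_self, add_zero]
  exact h3

omit h in
theorem Kh_normal : (Kh ρ Q).Normal := Subgroup.normalClosure_normal

omit h in
theorem le_Kh {A : Subgroup X} (hA : Ex ρ Q A) : A ≤ Kh ρ Q := fun _ ha => Subgroup.subset_normalClosure ⟨A, hA, ha⟩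

omit h in
theorem inv_Yb : Inv ρ (cu ρ (Kh ρ Q : Set X)) := Inv.cu_normal Kh_normal

/-- **(2)** every invariant submodule contains `c` or is centralised by `K̂` -/
theorem le_Yb {Y : Submodule (ZMod 2) U} (hY : Inv ρ Y) (hc : c ∉ Y) : Y ≤ cu ρ (Kh ρ Q : Set X) := by
  let F : Subgroup X :=
    { carrier := {x | ∀ y ∈ Y, ρ x y = y}
      one_mem' := fun y _ => rone ρ y
      mul_mem' := by
        intro x y hx hy u hu
        rw [rmul, hy u hu, hx u hu]
      inv_mem' := by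
        intro x hx u hu
        have h1 := rinv ρ x u
        rwa [hx u hu] at h1 }
  have hF : F.Normal := by
    refine ⟨fun f hf g y hy => ?_⟩
    rw [rmul, rmul, hf _ (hY g⁻¹ y hy), rinv']
  have h1 : Kh ρ Q ≤ F := Subgroup.normalClosure_le_normal (by
    rintro a ⟨A, hA, ha⟩ y hy
    exact (h.ex hA hY hc).1 hy a ha)
  exact fun y hy k hk => h1 hk y hy

theorem Kh_comm (hc0 : c ≠ 0) {k : X} (hk : k ∈ Kh ρ Q) (u : U) : ρ k u + u ∈ orb ρ c := by
  let F : Subgroup X :=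
    { carrier := {x | ∀ u, ρ x u + u ∈ orb ρ c}
      one_mem' := fun u => by rw [rone, v_add_self]; exact zero_mem _
      mul_mem' := by
        intro x y hx hy u
        have h1 := add_mem (inv_orb ρ c x _ (hy u)) (hx u)
        rw [map_add, add_assoc, self_add_add, ← rmul] at h1
        exact h1
      inv_mem' := by
        intro x hx u
        have h1 := inv_orb ρ c x⁻¹ _ (hx u)
        rw [map_add, rinv, add_comm] at h1
        exact h1 }
  have hF : F.Normal := by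
    refine ⟨fun f hf g u => ?_⟩
    have h1 := inv_orb ρ c g _ (hf (ρ g⁻¹ u))
    rw [map_add, rinv', ← rmul, ← rmul] at h1
    exact h1
  have h1 : Kh ρ Q ≤ F := Subgroup.normalClosure_le_normal (by
    rintro a ⟨A, hA, ha⟩ u
    exact h.comm_mem hc0 hA ha u)
  exact h1 hk u

/-- `c` is not centralised by `K̂` -/
theorem c_notMem (hc0 : c ≠ 0) {A : Subgroup X} (hA : Ex ρ Q A) : c ∉ cu ρ (Kh ρ Q : Set X) := by
  intro hc
  apply hA.ne
  rw [eq_bot_iff]
  intro a ha
  have hbot : Inv ρ (⊥ : Submodule (ZMod 2) U) := fun x u hu => by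
    rw [(Submodule.mem_bot _).1 hu, map_zero]
    exact zero_mem _
  obtain ⟨-, h2⟩ := h.ex hA hbot fun e => hc0 ((Submodule.mem_bot _).1 e)
  rw [sup_bot_eq] at h2
  refine Subgroup.mem_bot.2 (h.inj ?_)
  rw [map_one]
  ext u
  change ρ a u = u
  have hu : u ∈ orb ρ c ⊔ cu ρ (A : Set X) := by rw [h2]; trivial
  obtain ⟨n, hn, v, hv, rfl⟩ := Submodule.mem_sup.1 hu
  rw [map_add, hv a ha, orb_le inv_Yb hc hn a (le_Kh hA ha)]

theorem exists_v (hc0 : c ≠ 0) (o : O) : ∃ v ∈ cu ρ (Kh ρ Q : Set X), v + w o ∈ orb ρ c ∧ ∀ t ∈ T, ρ t v = v := by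
  let E : Subgroup X :=
    { carrier := {x | ρ x (w o) + w o ∈ orb ρ c}
      one_mem' := by
        show ρ 1 (w o) + w o ∈ orb ρ c
        rw [rone, v_add_self]
        exact zero_mem _
      mul_mem' := by
        intro x y (hx : ρ x (w o) + w o ∈ orb ρ c) (hy : ρ y (w o) + w o ∈ orb ρ c)
        show ρ (x * y) (w o) + w o ∈ orb ρ c
        have h1 := add_mem (inv_orb ρ c x _ hy) hx
        rw [map_add, add_assoc, self_add_add, ← rmul] at h1
        exact h1
      inv_mem' := by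
        intro x (hx : ρ x (w o) + w o ∈ orb ρ c)
        show ρ x⁻¹ (w o) + w o ∈ orb ρ c
        have h1 := inv_orb ρ c x⁻¹ _ hx
        rw [map_add, rinv, add_comm] at h1
        exact h1 }
  have hTE : T ≤ E := fun t ht => by
    show ρ t (w o) + w o ∈ orb ρ c
    rw [h.fixw o t ht, v_add_self]
    exact zero_mem _
  have hKE : Kh ρ Q ≤ E := fun k hk => h.Kh_comm hc0 hk (w o)
  obtain ⟨v, hv, hvE⟩ := exists_fixed (E := E) (Y := orb ρ c) h.odd hTE (h.fixw o) (fun e he => he)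
  exact ⟨v, fun k hk => hvE k (hKE hk), hv, fun t ht => hvE t (hTE ht)⟩

/-- **(3)** `U = N + C_U(K̂)` -/
theorem split (hc0 : c ≠ 0) : orb ρ c ⊔ cu ρ (Kh ρ Q : Set X) = ⊤ := by
  refine h.gen _ ((inv_orb ρ c).sup inv_Yb) ?_ (Submodule.mem_sup_left (self_mem_orb ρ c)) fun o => ?_
  · exact Submodule.mem_sup_right fun k _ => h.fixb k
  · obtain ⟨v, hv, hvN, -⟩ := h.exists_v hc0 o
    have e : w o = (v + w o) + v := by rw [add_comm v, add_assoc, v_add_self, add_zero]
    rw [e]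
    exact Submodule.add_mem_sup hvN hv

/-- **(3)** BETA or ALPHA -/
theorem alt (hc0 : c ≠ 0) (o : O) :
    w o ∈ cu ρ (Kh ρ Q : Set X) ∨ (w o ∉ cu ρ (Kh ρ Q : Set X) ∧ w o ∈ orb ρ c ∧ c ∈ orb ρ (w o)) := by
  classical
  by_cases hb : w o ∈ cu ρ (Kh ρ Q : Set X)
  · exact Or.inl hb
  right
  refine ⟨hb, ?_, ?_⟩
  · obtain ⟨v, hv, hvN, hvT⟩ := h.exists_v hc0 o
    obtain ⟨β, γ, s, rfl⟩ := h.fixT v hvT
    have ho : o ∉ s := fun ho => hb (h.w_of inv_Yb ho hv)
    refine h.w_of (inv_orb ρ c) (β := β) (γ := γ) (s := insert o s) (Finset.mem_insert_self _ _) ?_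
    rw [Finset.sum_insert ho]
    have e : β • b + γ • c + (w o + ∑ o ∈ s, w o) = β • b + γ • c + ∑ o ∈ s, w o + w o := by abel
    rwa [e]
  · by_contra hcon
    exact hb (h.le_Yb (inv_orb ρ (w o)) hcon (self_mem_orb ρ (w o)))

omit h in
/-- **(5)** if `X = K̂ C_X(c)` and `w` is BETA, the orbits of `w` under `X` and `C_X(c)` are equal -/
theorem orbit (hK : ∀ x : X, ∃ k ∈ Kh ρ Q, ∃ m, ρ m c = c ∧ x = k * m) {v : U}
    (hv : v ∈ cu ρ (Kh ρ Q : Set X)) (x : X) : ∃ m, ρ m c = c ∧ ρ x v = ρ m v := by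
  obtain ⟨k, hk, m, hm, rfl⟩ := hK x
  refine ⟨m, hm, ?_⟩
  rw [rmul, inv_Yb m v hv k hk]

end ES

end Cfsg.Agent.Omega.NO3S.EMany
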