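import Cfsg.Agent.Omega.OM.BlkGen
import Cfsg.Agent.Omega.NO3S.EMany.Four

/-!
# NO-3S, case (E), `q = 2`, `k ≥ 3`: the minimal parabolics over `T = N_S(Z i)` (input `Dich4` of `Four.lean`)

* `exists_fb` : a minimal parabolic `H` over `T ≥ B(S)` with `J(T) ≰ O₂(H)`, `[Ω₁Z(T), H] ≠ 1` is generated by `T` and an
  FF-block of `H` over `B(S)`;
* `NB.exists_conj` : `q = 2`: a block is transitive on `V - 1`;
* `card_ne_four`, `blkAt` : UNI+ for at least three factors, `q = 2`;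
* `dich` : **`Dich4` at stage `-1`**.
-/

set_option autoImplicit false
set_option linter.unusedVariables false
set_option linter.unusedSectionVars false

namespace Cfsg.Agent.Omega.NO3S.EMany.FourD

open Subgroup Cfsg Cfsg.Agent.ZN.ChoiceBase Cfsg.Agent.ZN.ChoiceSit
open Cfsg.Agent.ZN (jj zj bau zc zl o2)
open Cfsg.Agent.MinSimple.MinParabolic (IsMinPar)
open Cfsg.Agent.Omega
open Cfsg.Agent.Omega.OM
open Cfsg.Agent.Omega.OM.Uni (FB Fr)
open Cfsg.Agent.Omega.OM.UniPlus (NB)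
open Cfsg.Agent.Omega.LemmaK (WeakNormal)
open Cfsg.Agent.Omega.LemmaK.Main (le_normalizer_bau)
open Cfsg.Agent.Omega.NO3S.EThree.Frame
open Cfsg.Agent.Omega.NO3S.EMany.Four

universe u

variable {G : Type u} [Group G]

/-- A minimal parabolic moving `Ω₁Z(T)` with `J(T) ≰ O₂(H)` is generated by `T` and one of its blocks over `B`. -/
theorem exists_fb [Finite G] {T H : Subgroup G} (hFF : FFThm.Stmt.{u}) (S : Sylow 2 G) (hT : Syl T H)
    (hB : bau (S : Subgroup G) ≤ T) (hP : IsMinPar T H) (hc : H ⊓ centralizer (o2 H : Set G) ≤ o2 H)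
    (hJ : ¬ jj T ≤ o2 H) (hZ : ¬ H ≤ centralizer (zc T : Set G)) :
    ∃ L V Z q, FB (bau (S : Subgroup G)) L V Z q ∧ L ≤ H ∧ H ≤ L ⊔ T := by
  have hbau : bau T = bau (S : Subgroup G) := LemmaK.Main.bau_eq S hT.2.1 hB
  have hw : WeakNormal 2 (bau T) := by
    rw [hbau]
    exact fun R hR hBR => le_normalizer_bau S hR hBR
  obtain ⟨A, hA, hoff⟩ := BlkGen.exists_off hT hP hc hJ hZ
  obtain ⟨hno, hcon⟩ := hFF G T H hT hP hc ⟨A, hA.2.1.trans hT.1, hoff⟩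
  have hm := SQ1.FFOne.minH_of hT hP hc
  rcases hcon with ⟨F, _, _, _, k, hk, ⟨M⟩⟩ | ⟨k, m, hk, hm2, ⟨M⟩⟩
  · have : Nonempty (Fin k) := ⟨⟨0, hk⟩⟩
    set N := (SQ1.FFOne.natKB_of hT hc hJ hk M).toFFK hm with hN
    obtain ⟨E, hE⟩ := N.toInK hm
    obtain ⟨L, hL⟩ := hE.exists_blk ⟨0, hk⟩
    have hpb := FBK.pb hm N hE hw hL
    refine ⟨L, _, _, _, by rw [← hbau]; exact hpb.fb, fun l hl => hL.LH hE hl, ?_⟩
    exact hL.sup_T hE le_sup_right le_sup_left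
  · have h := Cfsg.Agent.Omega.OM.syT_of hm hJ M hk (by omega) SQ1.FFOf.cv_le SQ1.FFOf.cv_norm
    obtain ⟨ι, J, X, Y, t, r, c⟩ := h.exists_ch
    have hin := c.main h Cfsg.Agent.Omega.SQ1.SymCyc.exists_pow
    obtain ⟨j, x, y, hTr⟩ := h.exists_tr
    obtain ⟨i, -⟩ := c.ex j x y hTr
    obtain ⟨L, hL⟩ := hin.exists_blk i
    have hpb := FBS.pb hin hw hL
    refine ⟨L, _, _, _, by rw [← hbau]; exact hpb.fb, hL.LP.trans (hin.PP_le i), ?_⟩
    exact hL.sup_T hin le_sup_right le_sup_left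

theorem eq_of_card_two {Z : Subgroup G} (h : Nat.card Z = 2) {x y : G} (hx : x ∈ Z) (hy : y ∈ Z) (hx1 : x ≠ 1)
    (hy1 : y ≠ 1) : x = y := by
  obtain ⟨w, -, hw⟩ := (Nat.card_eq_two_iff' (1 : Z)).1 h
  have h1 := hw ⟨x, hx⟩ fun e => hx1 (congrArg Subtype.val e)
  have h2 := hw ⟨y, hy⟩ fun e => hy1 (congrArg Subtype.val e)
  exact congrArg Subtype.val (h1.trans h2.symm)

/-- `q = 2`: `L` is transitive on `V - 1`. -/
theorem exists_conj [Finite G] {B L V Z : Subgroup G} (h : NB B L V Z 2) {v z : G} (hv : v ∈ V) (hv1 : v ≠ 1)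
    (hz : z ∈ Z) (hz1 : z ≠ 1) : ∃ l ∈ L, l * z * l⁻¹ = v := by
  have hZ : ∀ x ∈ Z, x = 1 ∨ x = z := fun x hx => by
    by_cases hx1 : x = 1
    · exact Or.inl hx1
    · exact Or.inr (eq_of_card_two h.cardZ hx hz hx1 hz1)
  obtain ⟨k, hk, hV, -⟩ := h.spl
  have hcomm : ∀ a ∈ Z, ∀ b ∈ cj k Z, a * b = b * a := fun a ha b hb => h.comm (h.ZV ha) (h.cjV hk hb)
  rw [hV] at hv
  obtain ⟨a, ha, y, hy, rfl⟩ := SQ1.Bau.mem_sup_comm hcomm hv
  obtain ⟨b, hb, rfl⟩ := hy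
  change a * (k * b * k⁻¹) ≠ 1 at hv1
  show ∃ l ∈ L, l * z * l⁻¹ = a * (k * b * k⁻¹)
  rcases hZ b hb with rfl | rfl
  · rcases hZ a ha with rfl | rfl
    · exact absurd (by group) hv1
    · exact ⟨1, one_mem _, by group⟩
  · rcases hZ a ha with rfl | rfl
    · exact ⟨k, hk, by group⟩
    · -- `a = z`, `y = k z k⁻¹` : an element of `B` moves `y`
      have hyZ : k * a * k⁻¹ ∉ Z := by
        intro hc
        have h1 : cj k Z ⊓ Z = ⊥ := by
          refine h.tri' hk fun e => ?_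
          rw [e, sup_idem] at hV
          have h2 := h.card
          rw [hV, h.cardZ] at h2
          omega
        have h2 : k * a * k⁻¹ ∈ cj k Z ⊓ Z := ⟨⟨a, hz, rfl⟩, hc⟩
        rw [h1, mem_bot] at h2
        exact hz1 (conj_eq_one_iff.1 h2)
      obtain ⟨b, hb, u, hu, hne⟩ := h.ne
      have h3 : b * (k * a * k⁻¹) ≠ (k * a * k⁻¹) * b := by
        intro e
        exact hne (h.free b hb _ (h.cjV hk ⟨a, hz, rfl⟩) hyZ e u hu)
      have h4 := h.com b hb _ (h.cjV hk ⟨a, hz, rfl⟩ : k * a * k⁻¹ ∈ V)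
      rcases hZ _ h4 with h5 | h5
      · exact absurd (mul_inv_eq_iff_eq_mul.1 (mul_inv_eq_one.1 h5)) h3
      · refine ⟨b * k, mul_mem (h.BL hb) hk, ?_⟩
        calc b * k * a * (b * k)⁻¹ = b * (k * a * k⁻¹) * b⁻¹ * (k * a * k⁻¹)⁻¹ * (k * a * k⁻¹) := by group
          _ = a * (k * a * k⁻¹) := by rw [h5]

section bs

variable [Finite G] {S : Sylow 2 G} {P : Subgroup G} {ι : Type} {L W Z C A : ι → Subgroup G} {m : ℕ}
  (h : Bs S P L W Z C A 2 m)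
include h

/-- `|Z_J| ≠ 4` for three factors. -/
theorem card_ne_four {a b c : ι} (hab : a ≠ b) (hac : a ≠ c) (hbc : b ≠ c) :
    Nat.card (zj (S : Subgroup G)) ≠ 4 := by
  intro h4
  have hcomm : ∀ {x y : ι}, ∀ u ∈ Z x, ∀ v ∈ Z y, u * v = v * u := fun {x y} u hu v hv =>
    h.fr.Vc (h.fr.ZV x hu) (h.fr.ZV y hv)
  have h1 := SQ1.Bau.card_sup_comm (A := Z b) (B := Z c) hcomm
  have h2 : Z b ⊓ Z c = ⊥ := by
    rw [eq_bot_iff]
    refine le_trans ?_ (h.fr.dir b).le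
    exact inf_le_inf (h.fr.blk b).ZV ((h.fr.blk c).ZV.trans (h.fr.WjC b c hbc))
  rw [h2, card_bot, mul_one, h.fr.cardZ, h.fr.cardZ] at h1
  have h3 := SQ1.Bau.card_sup_comm (A := Z a) (B := Z b ⊔ Z c) fun u hu v hv => h.fr.Vc (h.fr.ZV a hu)
    ((sup_le (h.fr.ZV b) (h.fr.ZV c)) hv)
  have h5 : Z a ⊓ (Z b ⊔ Z c) = ⊥ := by
    rw [eq_bot_iff]
    refine le_trans ?_ (h.fr.dir a).le
    exact inf_le_inf (h.fr.blk a).ZV (sup_le ((h.fr.blk b).ZV.trans (h.fr.WjC a b hab))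
      ((h.fr.blk c).ZV.trans (h.fr.WjC a c hac)))
  rw [h5, card_bot, mul_one, h.fr.cardZ, h1] at h3
  have h6 : Nat.card (Z a ⊔ (Z b ⊔ Z c) : Subgroup G) ≤ Nat.card (zj (S : Subgroup G)) :=
    Subgroup.card_le_of_le (sup_le (h.fr.Z_le a) (sup_le (h.fr.Z_le b) (h.fr.Z_le c)))
  omega

/-- UNI+: every block over `B` is a block at some `m`. -/
theorem blkAt [Finite ι] {a b c : ι} (hab : a ≠ b) (hac : a ≠ c) (hbc : b ≠ c) {L' V' Z' : Subgroup G} {q' : ℕ}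
    (h' : FB (bau (S : Subgroup G)) L' V' Z' q') : ∃ n, BlkAt (zj (S : Subgroup G)) L Z C n L' := by
  obtain ⟨rfl, n, rfl, hN, h1⟩ := UniPlus.uniPlus' h.hyp.ctx.char2 h.fr h.bau_two (UniPlus.wc_bau S)
    (fun g hg w hw v hv => by
      rw [(h.norm hg).1] at hw
      exact h.fr.Vc hw hv) h.two h'
  rcases h1 with ⟨-, h2, h3⟩ | ⟨-, h2, -⟩
  · refine ⟨n, fun z hz hzC l hl => (h2 z hz).1 hzC l hl, fun l hl => ?_⟩
    obtain ⟨rfl, -⟩ := h3 rfl
    obtain ⟨z, hz, hz1⟩ : ∃ x ∈ Z n, x ≠ 1 := by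
      by_contra hcon
      push Not at hcon
      exact h.Z_ne n ((eq_bot_iff_forall _).2 hcon)
    have hv : l * z * l⁻¹ ∈ W n := (h.fr.blk n).nV l hl z ((h.fr.blk n).ZV hz)
    obtain ⟨l', hl', e⟩ := exists_conj hN hv (fun e => hz1 (conj_eq_one_iff.1 e)) hz hz1
    refine ⟨l', hl', fun y hy => ?_⟩
    -- `Z n = {1, z}`
    by_cases hy1 : y = 1
    · rw [hy1]; group
    rw [eq_of_card_two (h.fr.cardZ n) hy hz hy1 hz1]
    exact e
  · exact absurd h2 (card_ne_four h hab hac hbc)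

/-- **`Dich4` at stage `-1`.** -/
theorem dich [Finite ι] (hFF : FFThm.Stmt.{u}) {a b c : ι} (hab : a ≠ b) (hac : a ≠ c) (hbc : b ≠ c) (i : ι) :
    Dich4 (zj (S : Subgroup G)) L Z C ((S : Subgroup G) ⊓ normalizer (Z i : Set G)) i := by
  intro Y hY hYi
  set T : Subgroup G := (S : Subgroup G) ⊓ normalizer (Z i : Set G) with hTd
  have hT : Syl T Y := h.syl_of_le i hY.le hYi
  have hBT : bau (S : Subgroup G) ≤ T := h.bau_le_T i
  by_cases hJ : jj T ≤ o2 Y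
  · left
    have h3 : jj (o2 Y) = jj T := Cfsg.Agent.ZN.ChoiceBase.jj_eq_of_jj_le hJ (o2_le_syl hT)
    have h4 : Y ≤ normalizer (jj (S : Subgroup G) : Set G) := by
      rw [← LemmaK.Main.jj_eq S hT.2.1 hBT, ← h3]
      exact (le_normalizer_o2 Y).trans (normalizer_le_jj _)
    refine h4.trans ?_
    have h7 := normalizer_le_of_cj (F := zj) zj_cj (jj (S : Subgroup G))
    have h8 : zj (jj (S : Subgroup G)) = zj (S : Subgroup G) := zj_congr (jj_eq_of_jj_le le_rfl (jj_le _))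
    rwa [h8] at h7
  by_cases hZ : Y ≤ centralizer (zc T : Set G)
  · exact Or.inr (Or.inl hZ)
  right; right
  have hc : Y ⊓ centralizer (o2 Y : Set G) ≤ o2 Y := by
    have h1 : o2 (normalizer (Z i : Set G)) ≤ o2 Y := by
      refine le_o2 (isPGroup_o2 _) ((o2_le_syl (h.syl i)).trans hY.le) ?_
      exact hYi.trans (le_normalizer_o2 _)
    rintro x ⟨hx, hxc⟩
    exact h1 (h.char_Z i ⟨hYi hx, centralizer_le (by exact_mod_cast h1) hxc⟩)
  obtain ⟨L', V', Z', q', h1, h2, h3⟩ := exists_fb hFF S hT hBT hY hc hJ hZ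
  obtain ⟨n, hn⟩ := blkAt h hab hac hbc h1
  exact ⟨n, L', h2, h3, hn⟩

end bs

end Cfsg.Agent.Omega.NO3S.EMany.FourD
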