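import Cfsg.Agent.Omega.ML.Final
import Cfsg.Agent.Omega.ML.MinIrr
import Cfsg.Agent.MinSimple.MinParabolic

/-!
# The machine "minimal `H` with `B ≰ O₂(H)`" (bb #21609 (4), #21788 (f2), (f4), #21588, #21950; text helper76, helper296)

`H` acts on the elementary abelian 2-group `M` (not necessarily faithfully), `T` is a Sylow 2-subgroup of `H`, `B ≤ T` an
exact atom: elementary abelian, `|B| = |M : C_M(B)|`, `|C| < |M : C_M(C)|` for `1 < C < B`; `B ≤ O₂(R)` for all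
`T ≤ R < H`, but `B ≰ O₂(H)` (`LB`; it is obtained from `H` minimal: `exists_lb`).  `K₀ = ⟨B^H⟩` (`Km`),
`U¹ = [M, K₀]` (`cmm`).

* `LB.gen` : `H = K₀ T`;
* `LB.ml` : (NO) on `⟨z^H⟩` in any `H`-module, `z` fixed by `T` and moved by `H`;
* `LB.inf_eq_bot`, `LB.sup_eq_top`, `LB.relIndex_eq` : for every `T`-fixed `m` moved by `H`: `B` is faithful and exact on
  `W = ⟨m^H⟩`, `M = W C_M(B)`;  `LB.cmm_le` : `U¹ ≤ W`;  `LB.cmm_perf` : `U¹ = [U¹, K₀]`;
* `LB.irr` : if a `T`-fixed `x ∈ U¹` is moved by `H` then every proper `H`-invariant subgroup of `U¹` is centralised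
  by `K₀`;
* `LB.stab_eq` : for a `T`-fixed `x`, `Stab(x U₀) = Stab(x)`, `U₀ = C_{U¹}(K₀)`.
-/

set_option autoImplicit false

namespace Cfsg.Agent.Omega.NO3S.EMany.Low

open Subgroup Cfsg Cfsg.Agent.ZN Cfsg.Agent.ClassTwoFusion.Quad Cfsg.Agent.Omega.ML.MinFrame
open Cfsg.Agent.Omega.ML.Final
open Cfsg.Agent.MinSimple.VModule (o2_isPGroup o2_le le_o2 le_normalizer_o2 o2_le_of_sylow)
open Cfsg.Agent.MinSimple.MinParabolic (IsMinPar)

universe u v w

section pure

variable {H : Type u} [Group H] {M : Type v} [Group M] [MulDistribMulAction H M]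

theorem comm_of_sq (sq : ∀ m : M, m * m = 1) (a b : M) : a * b = b * a := by
  have h1 : ∀ z : M, z⁻¹ = z := fun z => inv_eq_of_mul_eq_one_right (sq z)
  calc a * b = (a * b)⁻¹ := (h1 _).symm
    _ = b⁻¹ * a⁻¹ := mul_inv_rev _ _
    _ = b * a := by rw [h1, h1]

theorem normal_of_sq (sq : ∀ m : M, m * m = 1) (I : Subgroup M) : I.Normal :=
  ⟨fun n hn g => by rw [comm_of_sq sq g n, mul_inv_cancel_right]; exact hn⟩

/-- **the product of an odd orbit** -/
theorem exists_fix_coset [Finite H] [Finite M] (sq : ∀ m : M, m * m = 1) {T R : Subgroup H}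
    (hT : ¬ 2 ∣ T.relIndex R) {m : M} (tm : ∀ t ∈ T, t • m = m) {I : Subgroup M}
    (h : ∀ g ∈ R, (g • m) * m⁻¹ ∈ I) : ∃ m0 : M, (∀ g ∈ R, g • m0 = m0) ∧ m0 * m⁻¹ ∈ I := by
  classical
  let _ : CommGroup M := { (inferInstance : Group M) with mul_comm := comm_of_sq sq }
  have := Fintype.ofFinite M
  let A : Finset M := Finset.univ.filter fun u => ∃ g ∈ R, g • m = u
  have hA : ∀ u, u ∈ A ↔ ∃ g ∈ R, g • m = u := fun u => by simp [A]
  have hinv : ∀ g ∈ R, ∀ u ∈ A, g • u ∈ A := by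
    intro g hg u hu
    obtain ⟨k, hk, rfl⟩ := (hA u).1 hu
    exact (hA _).2 ⟨g * k, mul_mem hg hk, mul_smul g k m⟩
  have hcard : ¬ 2 ∣ A.card := by
    have h1 := MulAction.index_stabilizer R m
    have h2 : (MulAction.orbit R m).ncard = A.card := by
      have : MulAction.orbit R m = (A : Set M) := by
        ext u
        rw [Finset.mem_coe, hA]
        constructor
        · rintro ⟨g, rfl⟩
          exact ⟨g, g.2, rfl⟩
        · rintro ⟨g, hg, rfl⟩
          exact ⟨⟨g, hg⟩, rfl⟩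
      rw [this, Set.ncard_coe_finset]
    rw [← h2, ← h1]
    intro hdvd
    apply hT
    have h3 : T.subgroupOf R ≤ MulAction.stabilizer R m := fun t ht => tm _ ht
    exact hdvd.trans (Subgroup.index_dvd_of_le h3)
  refine ⟨∏ u ∈ A, u, fun g hg => ?_, ?_⟩
  · rw [Finset.smul_prod']
    have h2 : A.image (fun u => g • u) = A := by
      refine Finset.eq_of_subset_of_card_le ?_ ?_
      · intro u hu
        obtain ⟨x, hx, rfl⟩ := Finset.mem_image.1 hu
        exact hinv g hg x hx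
      · rw [Finset.card_image_of_injective _ (MulAction.injective g)]
    conv_rhs => rw [← h2]
    rw [Finset.prod_image fun a _ b _ hab => MulAction.injective g hab]
  · have h1 : ∀ s : Finset M, (∀ u ∈ s, u * m⁻¹ ∈ I) → (∏ u ∈ s, u) * (m ^ s.card)⁻¹ ∈ I := by
      intro s
      induction s using Finset.induction_on with
      | empty => intro _; simp
      | insert a s ha ih =>
        intro hs
        rw [Finset.prod_insert ha, Finset.card_insert_of_notMem ha, pow_succ]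
        have e : a * ∏ u ∈ s, u = a * (∏ u ∈ s, u) := rfl
        have e2 : a * (∏ u ∈ s, u) * (m ^ s.card * m)⁻¹ = (a * m⁻¹) * ((∏ u ∈ s, u) * (m ^ s.card)⁻¹) := by
          rw [mul_inv]
          exact (mul_mul_mul_comm a (∏ u ∈ s, u) m⁻¹ (m ^ s.card)⁻¹ ▸ by rw [mul_comm (m ^ s.card)⁻¹ m⁻¹])
        rw [e2]
        exact mul_mem (hs a (Finset.mem_insert_self _ _)) (ih fun u hu => hs u (Finset.mem_insert_of_mem hu))
    have h2 := h1 A (fun u hu => by
      obtain ⟨g, hg, rfl⟩ := (hA u).1 hu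
      exact h g hg)
    have h3 : m ^ A.card = m := by
      obtain ⟨k, hk⟩ := Nat.not_even_iff_odd.1 fun h => hcard h.two_dvd
      rw [hk, pow_succ, pow_mul, pow_two, sq, one_pow, one_mul]
    rwa [h3] at h2

/-- `O₂(F) ≤ O₂(R)` for `F` normal in `R` -/
theorem o2_le_o2 {F R : Subgroup H} (hFR : F ≤ R) (hF : R ≤ normalizer (F : Set H)) : o2 F ≤ o2 R := by
  refine le_o2 ((o2_le F).trans hFR) (o2_isPGroup F) ?_
  intro g hg
  have key : ∀ g ∈ R, (o2 F).map (MulAut.conj g).toMonoidHom ≤ o2 F := by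
    intro g hg
    have hFg : F.map (MulAut.conj g).toMonoidHom = F := mem_normalizer_iff_map_conj_eq.mp (hF hg)
    refine le_o2 ?_ ((o2_isPGroup F).map _) ?_
    · calc (o2 F).map (MulAut.conj g).toMonoidHom ≤ F.map (MulAut.conj g).toMonoidHom := Subgroup.map_mono (o2_le F)
        _ = F := hFg
    · intro f hf
      have h1 : g⁻¹ * f * g ∈ F := by
        have := (mem_normalizer_iff.1 (hF (inv_mem hg)) f).1 hf
        rwa [inv_inv] at this
      have h2 := le_normalizer_o2 F h1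
      rw [mem_normalizer_iff] at h2 ⊢
      intro y
      have e : ∀ z : H, z ∈ (o2 F).map (MulAut.conj g).toMonoidHom ↔ g⁻¹ * z * g ∈ o2 F := by
        intro z
        constructor
        · rintro ⟨w, hw, rfl⟩
          have : g⁻¹ * (g * w * g⁻¹) * g = w := by group
          change g⁻¹ * (g * w * g⁻¹) * g ∈ _
          rwa [this]
        · intro hz
          exact ⟨_, hz, by change g * (g⁻¹ * z * g) * g⁻¹ = z; group⟩
      rw [e, e, h2]
      have : g⁻¹ * f * g * (g⁻¹ * y * g) * (g⁻¹ * f * g)⁻¹ = g⁻¹ * (f * y * f⁻¹) * g := by group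
      rw [this]
  rw [mem_normalizer_iff]
  refine fun y => ⟨fun hy => key g hg ⟨y, hy, rfl⟩, fun hy => ?_⟩
  have := key g⁻¹ (inv_mem hg) ⟨_, hy, rfl⟩
  have e : g⁻¹ * (g * y * g⁻¹) * g⁻¹⁻¹ = y := by group
  change g⁻¹ * (g * y * g⁻¹) * g⁻¹⁻¹ ∈ _ at this
  rwa [e] at this

/-! ### `[M, K]` -/

/-- the elements which act trivially on `U / W` -/
def trm (U W : Subgroup M) (hU : ∀ g : H, ∀ u ∈ U, g • u ∈ U) : Subgroup H where
  carrier := {k | ∀ m ∈ U, (k • m) * m⁻¹ ∈ W}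
  one_mem' := fun m _ => by rw [one_smul, mul_inv_cancel]; exact one_mem _
  mul_mem' := fun {k l} hk hl m hm => by
    have e : (k * l) • m * m⁻¹ = (k • l • m) * (l • m)⁻¹ * ((l • m) * m⁻¹) := by
      rw [mul_smul]; group
    rw [e]
    exact mul_mem (hk _ (hU l m hm)) (hl m hm)
  inv_mem' := fun {k} hk m hm => by
    have h1 := hk (k⁻¹ • m) (hU _ m hm)
    rw [smul_inv_smul] at h1
    have h2 := inv_mem h1
    rwa [mul_inv_rev, inv_inv] at h2

theorem mem_trm {U W : Subgroup M} {hU : ∀ g : H, ∀ u ∈ U, g • u ∈ U} {k : H} :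
    k ∈ trm U W hU ↔ ∀ m ∈ U, (k • m) * m⁻¹ ∈ W := Iff.rfl

theorem trm_normal {U W : Subgroup M} (hU : ∀ g : H, ∀ u ∈ U, g • u ∈ U) (hW : ∀ g : H, ∀ u ∈ W, g • u ∈ W) :
    (trm U W hU).Normal := by
  refine ⟨fun k hk g m hm => ?_⟩
  have e : (g * k * g⁻¹) • m * m⁻¹ = g • ((k • g⁻¹ • m) * (g⁻¹ • m)⁻¹) := by
    rw [smul_mul', smul_inv', smul_inv_smul, mul_smul, mul_smul]
  rw [e]
  exact hW g _ (hk _ (hU _ m hm))

/-- `⟨B^H⟩` -/
def Km (B : Subgroup H) : Subgroup H := normalClosure (B : Set H)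

instance (B : Subgroup H) : (Km B).Normal := normalClosure_normal

theorem le_Km (B : Subgroup H) : B ≤ Km B := subset_normalClosure

theorem Km_le {B N : Subgroup H} (hN : N.Normal) (h : B ≤ N) : Km B ≤ N := normalClosure_le_normal h

/-- `[M, ⟨B^H⟩]` -/
def cmm (M : Type v) [Group M] [MulDistribMulAction H M] (B : Subgroup H) : Subgroup M :=
  closure {v | ∃ k ∈ Km B, ∃ m : M, v = (k • m) * m⁻¹}

theorem mem_cmm {B : Subgroup H} {k : H} (hk : k ∈ Km B) (m : M) : (k • m) * m⁻¹ ∈ cmm M B :=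
  subset_closure ⟨k, hk, m, rfl⟩

theorem smul_mem_cmm {B : Subgroup H} (g : H) {u : M} (hu : u ∈ cmm M B) : g • u ∈ cmm M B := by
  have h1 : cmm M B ≤ (cmm M B).comap (MulDistribMulAction.toMonoidHom M g) := by
    rw [cmm, closure_le]
    rintro _ ⟨k, hk, m, rfl⟩
    refine subset_closure ⟨g * k * g⁻¹, (inferInstance : (Km B).Normal).conj_mem k hk g, g • m, ?_⟩
    change g • ((k • m) * m⁻¹) = _
    rw [smul_mul', smul_inv', mul_smul, mul_smul, inv_smul_smul]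
  exact h1 hu

/-- `[M, ⟨B^H⟩] ≤ W` if `[M, B] ≤ W`, `W` invariant -/
theorem cmm_le_of {B : Subgroup H} {W : Subgroup M} (hW : ∀ g : H, ∀ u ∈ W, g • u ∈ W)
    (h : ∀ b ∈ B, ∀ m : M, (b • m) * m⁻¹ ∈ W) : cmm M B ≤ W := by
  have h1 : Km B ≤ trm ⊤ W (fun _ _ _ => mem_top _) :=
    Km_le (trm_normal _ hW) fun b hb m _ => h b hb m
  rw [cmm, closure_le]
  rintro _ ⟨k, hk, m, rfl⟩
  exact h1 hk m (mem_top m)

/-- `[U, ⟨B^H⟩] ≤ W` if `[U, B] ≤ W`, `U` and `W` invariant -/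
theorem Km_triv {B : Subgroup H} {U W : Subgroup M} (hU : ∀ g : H, ∀ u ∈ U, g • u ∈ U)
    (hW : ∀ g : H, ∀ u ∈ W, g • u ∈ W) (h : ∀ b ∈ B, ∀ m ∈ U, (b • m) * m⁻¹ ∈ W) {k : H} (hk : k ∈ Km B) {m : M}
    (hm : m ∈ U) : (k • m) * m⁻¹ ∈ W := by
  have h1 : Km B ≤ trm U W hU := Km_le (trm_normal hU hW) fun b hb m hm => h b hb m hm
  exact h1 hk m hm

/-- `C_M(⟨B^H⟩)` is invariant -/
theorem smul_mem_cvKm {B : Subgroup H} (g : H) {u : M} (hu : u ∈ cv M (Km B : Set H)) :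
    g • u ∈ cv M (Km B : Set H) := by
  intro k hk
  have h1 : g⁻¹ * k * g ∈ Km B := by
    have := (inferInstance : (Km B).Normal).conj_mem k hk g⁻¹
    rwa [inv_inv] at this
  have h2 := hu _ h1
  rw [mul_smul, mul_smul, inv_smul_eq_iff] at h2
  exact h2

/-- an invariant subgroup centralised by `B` is centralised by `⟨B^H⟩` -/
theorem le_cvKm {B : Subgroup H} {I : Subgroup M} (hI : ∀ g : H, ∀ u ∈ I, g • u ∈ I) (h : I ≤ cv M (B : Set H)) :
    I ≤ cv M (Km B : Set H) := by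
  have h1 : Km B ≤ fxr H I := Km_le (fxr_normal hI) fun b hb u hu => h hu b hb
  exact fun u hu k hk => h1 hk u hu

end pure

/-! ### The situation -/

/-- `B` is an exact atom, `B ≤ O₂(R)` for `T ≤ R < H`, `B ≰ O₂(H)` -/
structure LB (H : Type u) [Group H] (M : Type v) [Group M] [MulDistribMulAction H M] (T B : Subgroup H) : Prop where
  sq : ∀ m : M, m * m = 1
  two : IsPGroup 2 T
  syl : ¬ 2 ∣ T.index
  BT : B ≤ T
  el : ∀ b ∈ B, b * b = 1
  exact : (cv M (B : Set H)).index = Nat.card B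
  atom : ∀ C : Subgroup H, C ≤ B → C ≠ ⊥ → C ≠ B → Nat.card C < (cv M (C : Set H)).index
  low : ∀ R : Subgroup H, T ≤ R → R ≠ ⊤ → B ≤ o2 R
  nb : ¬ B ≤ o2 (⊤ : Subgroup H)
  KH : IsKGroup H

namespace LB

variable {H : Type u} [Group H] [Finite H] {M : Type v} [Group M] [Finite M] [MulDistribMulAction H M]
  {T B : Subgroup H}

omit [Finite H] [Finite M] in
/-- `H = ⟨B^H⟩ T` -/
theorem gen (h : LB H M T B) : Km B ⊔ T = ⊤ := by
  by_contra hne
  have h1 := h.low _ le_sup_right hne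
  apply h.nb
  have h2 : B ≤ o2 (Km B) := by
    have h3 : Km B ⊓ o2 (Km B ⊔ T) ≤ o2 (Km B) := by
      refine le_o2 inf_le_left ((o2_isPGroup _).to_le inf_le_right) ?_
      intro k hk
      have hk' : k ∈ normalizer (o2 (Km B ⊔ T) : Set H) := le_normalizer_o2 _ (le_sup_left (a := Km B) hk)
      rw [mem_normalizer_iff] at hk' ⊢
      intro y
      constructor
      · rintro ⟨hy1, hy2⟩
        exact ⟨(Km B).mul_mem ((Km B).mul_mem hk hy1) ((Km B).inv_mem hk), (hk' y).1 hy2⟩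
      · rintro ⟨hy1, hy2⟩
        refine ⟨?_, (hk' y).2 hy2⟩
        have := (Km B).mul_mem ((Km B).mul_mem ((Km B).inv_mem hk) hy1) hk
        have e : k⁻¹ * (k * y * k⁻¹) * k = y := by group
        rwa [e] at this
    exact (le_inf (le_Km B) h1).trans h3
  refine h2.trans (o2_le_o2 le_top ?_)
  rw [normalizer_eq_top_iff.2 inferInstance]

omit [Finite M] in
/-- `O₂(H) ≤ T` -/
theorem o2_top_le (h : LB H M T B) : o2 (⊤ : Subgroup H) ≤ T :=
  o2_le_of_sylow h.two (by rw [relIndex_top_right]; exact h.syl)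

omit [Finite H] [Finite M] in
theorem B1 (h : LB H M T B) : B ≠ ⊥ := fun h1 => h.nb (h1 ▸ bot_le)

section sec

variable {V : Type w} [Group V] [MulDistribMulAction H V]

omit [Finite H] [Finite M] in
theorem stab_le (h : LB H M T B) {z : V} (tz : ∀ t ∈ T, t • z = z) (hz : ¬ ∀ g : H, g • z = z) :
    B ≤ o2 (MulAction.stabilizer H z) :=
  h.low _ (fun t ht => tz t ht) fun h1 => hz fun g => by
    have : g ∈ MulAction.stabilizer H z := h1 ▸ mem_top g
    exact this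

omit [Finite H] [Finite M] in
/-- `C_B(⟨z^H⟩) ≤ O₂(H)` -/
theorem fxr_inf_le (h : LB H M T B) {z : V} (tz : ∀ t ∈ T, t • z = z) (hz : ¬ ∀ g : H, g • z = z) :
    fxr H (orb (⊤ : Subgroup H) z) ⊓ B ≤ o2 (⊤ : Subgroup H) := by
  set W := orb (⊤ : Subgroup H) z with hW
  have hWi : ∀ g : H, ∀ u ∈ W, g • u ∈ W := fun g u hu => smul_mem_orb (mem_top g) hu
  have hF : (fxr H W).Normal := fxr_normal hWi
  have hFs : fxr H W ≤ MulAction.stabilizer H z := fun g hg => hg z (mem_orb_self _ z)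
  have h1 := h.stab_le tz hz
  have h2 : fxr H W ⊓ o2 (MulAction.stabilizer H z) ≤ o2 (fxr H W) := by
    refine le_o2 inf_le_left ((o2_isPGroup _).to_le inf_le_right) ?_
    intro k hk
    have hk' := le_normalizer_o2 _ (hFs hk)
    rw [mem_normalizer_iff] at hk' ⊢
    intro y
    constructor
    · rintro ⟨hy1, hy2⟩
      exact ⟨(fxr H W).mul_mem ((fxr H W).mul_mem hk hy1) ((fxr H W).inv_mem hk), (hk' y).1 hy2⟩
    · rintro ⟨hy1, hy2⟩
      refine ⟨?_, (hk' y).2 hy2⟩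
      have := (fxr H W).mul_mem ((fxr H W).mul_mem ((fxr H W).inv_mem hk) hy1) hk
      have e : k⁻¹ * (k * y * k⁻¹) * k = y := by group
      rwa [e] at this
  refine (inf_le_inf_left _ h1).trans (h2.trans (o2_le_o2 le_top ?_))
  rw [normalizer_eq_top_iff.2 hF]

end sec

omit [Finite M] in
/-- **(NO)** for `B` on `⟨z^H⟩` -/
theorem ml (h : LB H M T B) {V : Type w} [Group V] [Finite V] [MulDistribMulAction H V] (hM : MLK.{u, w})
    (sqV : ∀ x : V, x * x = 1) {z : V} (tz : ∀ t ∈ T, t • z = z) (hz : ¬ ∀ g : H, g • z = z) {C : Subgroup H}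
    (hC : C ≤ B) :
    (fxr H (orb (⊤ : Subgroup H) z)).relIndex C ≤ (cv V (C : Set H)).relIndex (orb (⊤ : Subgroup H) z) := by
  refine hM.act h.KH (T := T) (Q := o2 (MulAction.stabilizer H z)) (A := C) (z := z)
    ⟨sqV, h.two, h.syl, tz, ?_, fun q hq => o2_le _ hq, ?_, ?_, ?_⟩
  · intro q hq
    obtain ⟨n, hn⟩ := o2_isPGroup _ ⟨q, hq⟩
    refine ⟨n, fun v => ?_⟩
    have : q ^ 2 ^ n = 1 := congrArg Subtype.val hn
    rw [this, one_smul]
  · intro g hg q hq
    exact ⟨g * q * g⁻¹, (mem_normalizer_iff.1 (le_normalizer_o2 _ hg) q).1 hq, fun _ => rfl⟩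
  · exact fun a ha => ⟨a, h.stab_le tz hz (hC ha), fun _ => rfl⟩
  · intro a ha v
    rw [← mul_smul, h.el a (hC ha), one_smul]

section vec

variable {m : M}

omit [Finite H] [Finite M] in
theorem index_split (h : LB H M T B) (W : Subgroup M) :
    (cv M (B : Set H)).relIndex W * (W ⊔ cv M (B : Set H)).index = Nat.card B := by
  have hn : (cv M (B : Set H)).Normal := normal_of_sq h.sq _
  have h1 := relIndex_mul_index (H := cv M (B : Set H)) (K := W ⊔ cv M (B : Set H)) le_sup_right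
  rw [relIndex_sup_right, h.exact] at h1
  exact h1

/-- `B` is faithful on `⟨m^H⟩` -/
theorem inf_eq_bot (h : LB H M T B) (hM : MLK.{u, v}) (tm : ∀ t ∈ T, t • m = m) (hm : ¬ ∀ g : H, g • m = m) :
    fxr H (orb (⊤ : Subgroup H) m) ⊓ B = ⊥ := by
  set W := orb (⊤ : Subgroup H) m with hW
  by_contra hne
  have h0 : fxr H W ⊓ B ≠ B := fun h1 => h.nb (h1 ▸ h.fxr_inf_le tm hm)
  have h1 := h.atom _ inf_le_right hne h0
  have h2 := h.ml hM h.sq tm hm le_rfl
  rw [← hW] at h2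
  have h3 := h.index_split W
  have h4 : W ⊔ cv M (B : Set H) ≤ cv M ((fxr H W ⊓ B : Subgroup H) : Set H) :=
    sup_le (fun w hw a ha => ha.1 w hw) (cv_anti fun a ha => ha.2)
  have h5 : (cv M ((fxr H W ⊓ B : Subgroup H) : Set H)).index ≤ (W ⊔ cv M (B : Set H)).index :=
    Nat.le_of_dvd (Nat.pos_of_ne_zero index_ne_zero_of_finite) (index_dvd_of_le h4)
  have h6 : (fxr H W).relIndex B * Nat.card ↥(fxr H W ⊓ B) = Nat.card B := by
    have h7 := relIndex_mul_relIndex ⊥ (fxr H W ⊓ B) B bot_le inf_le_right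
    rw [relIndex_bot_left, relIndex_bot_left, inf_relIndex_right, mul_comm] at h7
    exact h7
  have h7 : 0 < (fxr H W).relIndex B := Nat.pos_of_ne_zero (index_ne_zero_of_finite (H := (fxr H W).subgroupOf B))
  have h8 : (fxr H W).relIndex B * Nat.card ↥(fxr H W ⊓ B) <
      (cv M (B : Set H)).relIndex W * (W ⊔ cv M (B : Set H)).index := by
    calc (fxr H W).relIndex B * Nat.card ↥(fxr H W ⊓ B)
        < (fxr H W).relIndex B * (W ⊔ cv M (B : Set H)).index := by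
          exact Nat.mul_lt_mul_of_pos_left (lt_of_lt_of_le h1 h5) h7
      _ ≤ _ := Nat.mul_le_mul_right _ h2
  omega

theorem card_le_relIndex (h : LB H M T B) (hM : MLK.{u, v}) (tm : ∀ t ∈ T, t • m = m) (hm : ¬ ∀ g : H, g • m = m) :
    Nat.card B ≤ (cv M (B : Set H)).relIndex (orb (⊤ : Subgroup H) m) := by
  have h2 := h.ml hM h.sq tm hm le_rfl
  rwa [← inf_relIndex_right, h.inf_eq_bot hM tm hm, relIndex_bot_left] at h2

/-- `B` is exact on `⟨m^H⟩` -/
theorem relIndex_eq (h : LB H M T B) (hM : MLK.{u, v}) (tm : ∀ t ∈ T, t • m = m) (hm : ¬ ∀ g : H, g • m = m) :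
    (cv M (B : Set H)).relIndex (orb (⊤ : Subgroup H) m) = Nat.card B := by
  refine le_antisymm ?_ (h.card_le_relIndex hM tm hm)
  rw [← h.index_split (orb (⊤ : Subgroup H) m)]
  exact Nat.le_mul_of_pos_right _ (Nat.pos_of_ne_zero index_ne_zero_of_finite)

/-- `M = ⟨m^H⟩ C_M(B)` -/
theorem sup_eq_top (h : LB H M T B) (hM : MLK.{u, v}) (tm : ∀ t ∈ T, t • m = m) (hm : ¬ ∀ g : H, g • m = m) :
    orb (⊤ : Subgroup H) m ⊔ cv M (B : Set H) = ⊤ := by
  have h1 := h.index_split (orb (⊤ : Subgroup H) m)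
  rw [h.relIndex_eq hM tm hm] at h1
  have h2 : 0 < Nat.card B := Nat.card_pos
  exact index_eq_one.1 (Nat.eq_of_mul_eq_mul_left h2 (by rw [h1, mul_one]))

/-- `B ∩ O₂(H) = 1` -/
theorem B_inf_o2 (h : LB H M T B) (hM : MLK.{u, v}) (tm : ∀ t ∈ T, t • m = m) (hm : ¬ ∀ g : H, g • m = m) :
    B ⊓ o2 (⊤ : Subgroup H) = ⊥ := by
  rw [eq_bot_iff, ← h.inf_eq_bot hM tm hm]
  refine le_inf (fun b hb => ?_) inf_le_left
  rw [mem_fxr_orb]
  intro g _
  have h1 : g⁻¹ * b * g ∈ o2 (⊤ : Subgroup H) := by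
    have := (mem_normalizer_iff.1 (le_normalizer_o2 (⊤ : Subgroup H) (mem_top g⁻¹)) b).1 hb.2
    rwa [inv_inv] at this
  have h2 := tm _ (h.o2_top_le h1)
  rwa [mul_smul, mul_smul, inv_smul_eq_iff] at h2

/-- `[M, ⟨B^H⟩] ≤ ⟨m^H⟩` -/
theorem cmm_le (h : LB H M T B) (hM : MLK.{u, v}) (tm : ∀ t ∈ T, t • m = m) (hm : ¬ ∀ g : H, g • m = m) :
    cmm M B ≤ orb (⊤ : Subgroup H) m := by
  have hWi : ∀ g : H, ∀ u ∈ orb (⊤ : Subgroup H) m, g • u ∈ orb (⊤ : Subgroup H) m :=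
    fun g u hu => smul_mem_orb (mem_top g) hu
  refine cmm_le_of hWi fun b hb x => ?_
  have h1 : x ∈ orb (⊤ : Subgroup H) m ⊔ cv M (B : Set H) := by rw [h.sup_eq_top hM tm hm]; exact mem_top x
  have hn : (cv M (B : Set H)).Normal := normal_of_sq h.sq _
  obtain ⟨w, hw, c, hc, rfl⟩ := mem_sup_of_normal_right.1 h1
  have e : b • (w * c) * (w * c)⁻¹ = (b • w) * w⁻¹ := by
    rw [smul_mul', hc b hb]; group
  rw [e]
  exact mul_mem (hWi b w hw) (inv_mem hw)

omit [Finite H] [Finite M] in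
/-- `⟨m^H⟩ = ⟨m⟩ [M, ⟨B^H⟩]` -/
theorem orb_eq (h : LB H M T B) (tm : ∀ t ∈ T, t • m = m) (g : H) : (g • m) * m⁻¹ ∈ cmm M B := by
  have h1 : g ∈ Km B ⊔ T := by rw [h.gen]; exact mem_top g
  obtain ⟨k, hk, t, ht, rfl⟩ := mem_sup_of_normal_left.1 h1
  rw [mul_smul, tm t ht]
  exact mem_cmm hk m

/-- `[M, ⟨B^H⟩] ≤ W` as soon as `[[M, ⟨B^H⟩], B] ≤ W` -/
theorem cmm_perf (h : LB H M T B) (hM : MLK.{u, v}) (tm : ∀ t ∈ T, t • m = m) (hm : ¬ ∀ g : H, g • m = m)
    {W : Subgroup M} (hW : ∀ g : H, ∀ u ∈ W, g • u ∈ W) (hB : ∀ b ∈ B, ∀ u ∈ cmm M B, (b • u) * u⁻¹ ∈ W) :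
    cmm M B ≤ W := by
  have hcomm := comm_of_sq h.sq
  refine cmm_le_of hW fun b hb x => ?_
  have h1 : x ∈ orb (⊤ : Subgroup H) m ⊔ cv M (B : Set H) := by rw [h.sup_eq_top hM tm hm]; exact mem_top x
  have hn : (cv M (B : Set H)).Normal := normal_of_sq h.sq _
  obtain ⟨w, hw, c, hc, rfl⟩ := mem_sup_of_normal_right.1 h1
  have e : b • (w * c) * (w * c)⁻¹ = (b • w) * w⁻¹ := by
    rw [smul_mul', hc b hb]; group
  rw [e]
  -- `w ∈ ⟨m⟩ [M, K]`
  have h2 : orb (⊤ : Subgroup H) m ≤ zpowers m ⊔ cmm M B := by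
    refine orb_le fun g _ => ?_
    have h3 := h.orb_eq tm g
    have e2 : g • m = (g • m) * m⁻¹ * m := by group
    rw [e2]
    exact mul_mem (le_sup_right (a := zpowers m) h3) (le_sup_left (a := zpowers m) (mem_zpowers m))
  have hn2 : (cmm M B).Normal := normal_of_sq h.sq _
  obtain ⟨y, hy, u, hu, rfl⟩ := mem_sup_of_normal_right.1 (h2 hw)
  have hby : b • y = y := by
    have h3 : zpowers m ≤ cv M ({b} : Set H) := by
      rw [zpowers_le]
      exact mem_cv_singleton.2 (tm b (h.BT hb))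
    exact mem_cv_singleton.1 (h3 hy)
  have e3 : b • (y * u) * (y * u)⁻¹ = (b • u) * u⁻¹ := by
    rw [smul_mul', hby, mul_inv_rev, hcomm u⁻¹ y⁻¹, hcomm y (b • u)]; group
  rw [e3]
  exact hB b hb u hu

end vec

/-! ### Irreducibility -/

omit [Finite H] [Finite M] in
/-- a `T`-fixed vector centralised by `⟨B^H⟩` is fixed by `H` -/
theorem fix_of_cvKm (h : LB H M T B) {u : M} (tu : ∀ t ∈ T, t • u = u) (hu : u ∈ cv M (Km B : Set H)) (g : H) :
    g • u = u := by
  have h1 : g ∈ Km B ⊔ T := by rw [h.gen]; exact mem_top g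
  obtain ⟨k, hk, t, ht, rfl⟩ := mem_sup_of_normal_left.1 h1
  rw [mul_smul, tu t ht, hu k hk]

/-- `T`-fixed vectors, `T ≤ R`, fixed by `R` modulo an invariant `I` whose `T`-fixed vectors are fixed by `R` -/
theorem fix_of_mod (h : LB H M T B) {x : M} (tx : ∀ t ∈ T, t • x = x) {R : Subgroup H} (hTR : T ≤ R) {I : Subgroup M}
    (hI : ∀ u ∈ I, (∀ t ∈ T, t • u = u) → ∀ g ∈ R, g • u = u) (hx : ∀ g ∈ R, (g • x) * x⁻¹ ∈ I) :
    ∀ g ∈ R, g • x = x := by
  obtain ⟨m0, h1, h2⟩ := exists_fix_coset (T := T) (R := R) h.sq (fun h3 => h.syl (h3.trans (relIndex_dvd_index_of_le hTR)))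
    tx hx
  have h3 : ∀ t ∈ T, t • (m0 * x⁻¹) = m0 * x⁻¹ := fun t ht => by
    rw [smul_mul', smul_inv', h1 t (hTR ht), tx t ht]
  intro g hg
  have h4 := hI _ h2 h3 g hg
  rw [smul_mul', smul_inv', h1 g hg] at h4
  exact inv_injective (mul_left_cancel h4)

/-- **an invariant proper subgroup of `U¹` is centralised by `⟨B^H⟩`** -/
theorem irr (h : LB H M T B) (hM : MLK.{u, v}) {x : M} (tx : ∀ t ∈ T, t • x = x) (hx : ¬ ∀ g : H, g • x = x)
    (hxU : x ∈ cmm M B) {I : Subgroup M} (hI : ∀ g : H, ∀ u ∈ I, g • u ∈ I) (hxI : x ∉ I) :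
    I ≤ cv M (Km B : Set H) := by
  have hn : I.Normal := normal_of_sq h.sq _
  -- the `T`-fixed vectors of `I` are fixed by `H`, or `I = U¹`
  by_cases hall : ∀ u ∈ I, (∀ t ∈ T, t • u = u) → ∀ g : H, g • u = u
  · let _ := modAct (H := H) I hI
    have hsm : ∀ (g : H) (m : M), g • (QuotientGroup.mk m : M ⧸ I) = QuotientGroup.mk (g • m) := fun _ _ => rfl
    have hone : ∀ a b : M, (QuotientGroup.mk a : M ⧸ I) = QuotientGroup.mk b ↔ a * b⁻¹ ∈ I := by
      intro a b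
      rw [QuotientGroup.eq_iff_div_mem, div_eq_mul_inv]
    set z : M ⧸ I := QuotientGroup.mk x with hz
    have sqV : ∀ y : M ⧸ I, y * y = 1 := by
      intro y
      obtain ⟨m, rfl⟩ := QuotientGroup.mk_surjective y
      rw [← QuotientGroup.mk_mul, h.sq, QuotientGroup.mk_one]
    have tz : ∀ t ∈ T, t • z = z := fun t ht => by rw [hz, hsm, tx t ht]
    have hz' : ¬ ∀ g : H, g • z = z := by
      intro hc
      exact hx fun g => h.fix_of_mod tx (R := ⊤) le_top (fun u hu tu g _ => hall u hu tu g)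
        (fun g _ => (hone _ _).1 (hc g)) g (mem_top g)
    have h2 := h.ml hM sqV tz hz' le_rfl
    rw [← inf_relIndex_right] at h2
    have h3 : fxr H (orb (⊤ : Subgroup H) z) ⊓ B = ⊥ := by
      rw [eq_bot_iff, ← h.B_inf_o2 hM tx hx]
      exact le_inf inf_le_right (h.fxr_inf_le tz hz')
    rw [h3, relIndex_bot_left] at h2
    -- `C_M(B) I / I`
    have hn2 : (cv (M ⧸ I) (B : Set H)).Normal := normal_of_sq sqV _
    have h4 : (cv (M ⧸ I) (B : Set H)).relIndex (orb (⊤ : Subgroup H) z) ≤ (cv (M ⧸ I) (B : Set H)).index :=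
      Nat.le_of_dvd (Nat.pos_of_ne_zero index_ne_zero_of_finite)
        (relIndex_dvd_index_of_normal _ _)
    have h5 : (cv (M ⧸ I) (B : Set H)).index = ((cv (M ⧸ I) (B : Set H)).comap (QuotientGroup.mk' I)).index :=
      (index_comap_of_surjective _ (QuotientGroup.mk'_surjective I)).symm
    have h6 : cv M (B : Set H) ≤ (cv (M ⧸ I) (B : Set H)).comap (QuotientGroup.mk' I) := by
      intro m hm b hb
      change b • (QuotientGroup.mk m : M ⧸ I) = QuotientGroup.mk m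
      rw [hsm, hm b hb]
    have h7 : I ≤ (cv (M ⧸ I) (B : Set H)).comap (QuotientGroup.mk' I) := by
      intro m hm b hb
      change b • (QuotientGroup.mk m : M ⧸ I) = QuotientGroup.mk m
      rw [(QuotientGroup.eq_one_iff m).2 hm, smul_one]
    have h8 := relIndex_mul_index h6
    rw [h.exact, ← h5] at h8
    have h9 : (cv M (B : Set H)).relIndex ((cv (M ⧸ I) (B : Set H)).comap (QuotientGroup.mk' I)) = 1 := by
      have h10 : 0 < (cv (M ⧸ I) (B : Set H)).index := Nat.pos_of_ne_zero index_ne_zero_of_finite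
      have h11 : 0 < Nat.card B := Nat.card_pos
      have h12 : 0 < (cv M (B : Set H)).relIndex ((cv (M ⧸ I) (B : Set H)).comap (QuotientGroup.mk' I)) := by
        rw [Nat.pos_iff_ne_zero]
        intro h13
        rw [h13, zero_mul] at h8
        omega
      by_contra h13
      have h14 : 2 ≤ (cv M (B : Set H)).relIndex ((cv (M ⧸ I) (B : Set H)).comap (QuotientGroup.mk' I)) := by omega
      have h15 := Nat.mul_le_mul_right (cv (M ⧸ I) (B : Set H)).index h14
      omega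
    exact le_cvKm hI (h7.trans (relIndex_eq_one.1 h9))
  · push Not at hall
    obtain ⟨u, hu, tu, g, hg⟩ := hall
    exact absurd (orb_le (fun g _ => hI g u hu) (h.cmm_le hM tu (fun hc => hg (hc g)) hxU)) hxI

end LB

end Cfsg.Agent.Omega.NO3S.EMany.Low
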