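import Cfsg.Agent.Omega.ML.MinFrame
import Cfsg.Agent.MinSimple.MinParabolic

/-!
# NO-3S, case (E), `k ≥ 3`, `d = 1`: the two `T`-fixed vectors (bb #21609 (4), #21788 (f3), (f5)); K-free (helper3)

`X` acts on the elementary abelian 2-group `M`, `T` is a Sylow 2-subgroup of `X`, `z : I → M` are the centres, permuted
by `T` and by `N_X(T)`, `c = z i₂` is fixed by `T`, `y` = the product of the others, `e = c y`.

* `pz z S` : the product of the `z i`, `i ∈ S`;  `exists_fixed` : the odd orbit argument in a coset of `Y`;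
* `Pz X z` : the elements of `X` which permute the `z i`;  `Cyc z m l` : `l` has odd order, `z m, l z m, l² z m` is the
  line of `m`, `l` fixes the other `z j`;  `TyI T z P` : a minimal parabolic of type (i);
* `DIn T B z i₂ y` : **the input**: the trichotomy for the minimal parabolics over `T`,
  `B ≤ O₂(C_X(c)) ∩ O₂(C_X(y)) ∩ O₂(C_X(c y))`;
* `Out T H U₁ x w` : **the output**;
* **`exists_out`** : `T ≤ H`, `B ≰ O₂(H)`, `H = K₀ T`, `[M, K₀] ≤ U₁` give two `T`-fixed vectors `x, w ∈ U₁` moved by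
  `H`; some `P ≥ T` in `H` moves `x` and fixes `w`; every minimal parabolic over `T` in `H`, and `N_H(T)`, fixes some
  `T`-fixed vector of `U₁` which is moved by `H`.
-/

set_option autoImplicit false

namespace Cfsg.Agent.Omega.NO3S.EMany.LowD

open Subgroup Cfsg Cfsg.Agent.ZN Cfsg.Agent.Omega.ML.MinFrame
open Cfsg.Agent.MinSimple.MinParabolic (IsMinPar le_of_forall)

universe u v w

/-! ### Products over sets of indices -/

section prod

variable {M : Type v} [Group M] {I : Type w}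

/-- a group of exponent 2 is commutative -/
theorem mulc (sq : ∀ m : M, m * m = 1) (a b : M) : a * b = b * a := by
  have hi : ∀ m : M, m⁻¹ = m := fun m => inv_eq_of_mul_eq_one_left (sq m)
  calc a * b = (a * b)⁻¹ := (hi _).symm
    _ = b⁻¹ * a⁻¹ := mul_inv_rev a b
    _ = b * a := by rw [hi, hi]

/-- the product of the `z i`, `i ∈ S` -/
noncomputable def pz (z : I → M) (S : Finset I) : M := (S.toList.map z).prod

theorem pz_congr (sq : ∀ m : M, m * m = 1) {I' : Type*} {z : I → M} {z' : I' → M} {S : Finset I} {S' : Finset I'}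
    (h : (S.toList.map z).Perm (S'.toList.map z')) : pz z S = pz z' S' :=
  h.prod_eq' (List.pairwise_of_forall fun a b => mulc sq a b)

theorem pz_erase [DecidableEq I] (sq : ∀ m : M, m * m = 1) (z : I → M) {S : Finset I} {m : I} (hm : m ∈ S) :
    pz z S = z m * pz z (S.erase m) := by
  have h1 : (S.toList).Perm (m :: (S.erase m).toList) := by
    rw [List.perm_ext_iff_of_nodup (Finset.nodup_toList _)
      (List.nodup_cons.2 ⟨by simp, Finset.nodup_toList _⟩)]
    intro a
    simp only [Finset.mem_toList, List.mem_cons, Finset.mem_erase]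
    constructor
    · intro ha
      by_cases h : a = m
      · exact Or.inl h
      · exact Or.inr ⟨h, ha⟩
    · rintro (rfl | h)
      · exact hm
      · exact h.2
  have h2 := (h1.map z).prod_eq' (List.pairwise_of_forall fun a b => mulc sq a b)
  rw [List.map_cons, List.prod_cons] at h2
  exact h2

variable {X : Type u} [Group X] [MulDistribMulAction X M]

theorem smul_pz (g : X) (z : I → M) (S : Finset I) : g • pz z S = pz (fun i => g • z i) S := by
  have h := map_list_prod (MulDistribMulAction.toMonoidHom M g) (S.toList.map z)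
  rw [List.map_map] at h
  exact h

theorem smul_pz_of_perm (sq : ∀ m : M, m * m = 1) {z : I → M} (hz : Function.Injective z) {S : Finset I} {g : X}
    (hg : ∀ i ∈ S, ∃ j ∈ S, g • z i = z j) : g • pz z S = pz z S := by
  classical
  rw [smul_pz]
  refine pz_congr sq ?_
  have h1 : Function.Injective fun i => g • z i := fun i j hij => hz (smul_left_cancel g hij)
  rw [List.perm_ext_iff_of_nodup ((Finset.nodup_toList _).map h1) ((Finset.nodup_toList _).map hz)]
  have h2 : S.image (fun i => g • z i) = S.image z := by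
    refine Finset.eq_of_subset_of_card_le ?_ ?_
    · intro a ha
      obtain ⟨i, hi, rfl⟩ := Finset.mem_image.1 ha
      obtain ⟨j, hj, e⟩ := hg i hi
      exact Finset.mem_image.2 ⟨j, hj, e.symm⟩
    · rw [Finset.card_image_of_injective _ hz, Finset.card_image_of_injective _ h1]
  intro a
  have h3 := Finset.ext_iff.1 h2 a
  simp only [Finset.mem_image] at h3
  simpa only [List.mem_map, Finset.mem_toList] using h3

theorem smul_pz_of_fix {z : I → M} {S : Finset I} {g : X} (hg : ∀ i ∈ S, g • z i = z i) : g • pz z S = pz z S := by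
  rw [smul_pz]
  unfold pz
  congr 1
  exact List.map_congr_left fun i hi => hg i (Finset.mem_toList.1 hi)

theorem pz_mem {z : I → M} {S : Finset I} {U : Subgroup M} (h : ∀ i ∈ S, z i ∈ U) : pz z S ∈ U := by
  refine list_prod_mem ?_
  intro a ha
  obtain ⟨i, hi, rfl⟩ := List.mem_map.1 ha
  exact h i (Finset.mem_toList.1 hi)

/-- **The odd orbit argument**: a 2-group... `T` of odd index in `E` fixes `c`, and `E` fixes the coset `c Y`: then `E`
fixes an element of `c Y` -/
theorem exists_fixed [Finite M] (sq : ∀ m : M, m * m = 1) {T E : Subgroup X} (hodd : ¬ 2 ∣ T.index)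
    (hTE : T ≤ E) {c : M} (hc : ∀ t ∈ T, t • c = c) {Y : Subgroup M} (hE : ∀ e ∈ E, e • c * c ∈ Y) :
    ∃ v : M, v * c ∈ Y ∧ ∀ e ∈ E, e • v = v := by
  classical
  have := Fintype.ofFinite M
  let A : Finset M := Finset.univ.filter fun m => ∃ e ∈ E, e • c = m
  have hA : ∀ m, m ∈ A ↔ ∃ e ∈ E, e • c = m := fun m => by simp [A]
  have hinv : ∀ e ∈ E, ∀ m ∈ A, e • m ∈ A := by
    intro e he m hm
    obtain ⟨f, hf, rfl⟩ := (hA m).1 hm
    exact (hA _).2 ⟨e * f, mul_mem he hf, mul_smul e f c⟩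
  have hcard : ¬ 2 ∣ A.card := by
    have h1 := MulAction.index_stabilizer E c
    have h2 : (MulAction.orbit E c).ncard = A.card := by
      have : MulAction.orbit E c = (A : Set M) := by
        ext m
        rw [Finset.mem_coe, hA]
        constructor
        · rintro ⟨e, rfl⟩
          exact ⟨e, e.2, rfl⟩
        · rintro ⟨e, he, rfl⟩
          exact ⟨⟨e, he⟩, rfl⟩
      rw [this, Set.ncard_coe_finset]
    rw [← h2, ← h1]
    intro hdvd
    apply hodd
    have h3 : T.subgroupOf E ≤ MulAction.stabilizer E c := fun t ht => hc _ ht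
    have h4 : (MulAction.stabilizer E c).index ∣ (T.subgroupOf E).index := Subgroup.index_dvd_of_le h3
    have h5 : T.relIndex E ∣ T.index := Subgroup.relIndex_dvd_index_of_le (H := T) (K := E) hTE
    exact (hdvd.trans h4).trans h5
  refine ⟨pz id A, ?_, fun e he => ?_⟩
  · have h1 : ∀ L : List M, (∀ m ∈ L, m * c ∈ Y) → (L.map id).prod * c ^ L.length ∈ Y := by
      intro L
      induction L with
      | nil => intro _; simp
      | cons a L ih =>
        intro hs
        have h2 := mul_mem (hs a (List.mem_cons_self ..)) (ih fun m hm => hs m (List.mem_cons_of_mem _ hm))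
        rw [List.map_cons, List.prod_cons, List.length_cons, pow_succ']
        have e : id a * (List.map id L).prod * (c * c ^ L.length) = a * c * ((List.map id L).prod * c ^ L.length) := by
          have h3 := mulc sq (List.map id L).prod c
          calc id a * (List.map id L).prod * (c * c ^ L.length)
              = a * ((List.map id L).prod * c) * c ^ L.length := by simp only [id_eq, mul_assoc]
            _ = a * (c * (List.map id L).prod) * c ^ L.length := by rw [h3]
            _ = _ := by simp only [mul_assoc]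
        rwa [e]
    have h2 := h1 A.toList (fun m hm => by
      obtain ⟨e, he, rfl⟩ := (hA m).1 (Finset.mem_toList.1 hm)
      exact hE e he)
    rw [Finset.length_toList] at h2
    have h3 : c ^ A.card = c := by
      obtain ⟨n, hn⟩ := Nat.odd_iff.2 (Nat.two_dvd_ne_zero.1 hcard)
      rw [hn, pow_succ, pow_mul, pow_two, sq, one_pow, one_mul]
    rwa [h3] at h2
  · refine smul_pz_of_perm sq Function.injective_id fun m hm => ⟨e • m, hinv e he m hm, rfl⟩

end prod

/-! ### The input -/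

variable {X : Type u} [Group X] {M : Type v} [Group M] [MulDistribMulAction X M] {I : Type w}

variable (X) in
/-- the elements which permute the `z i` -/
def Pz (z : I → M) : Subgroup X where
  carrier := {g | (∀ i, ∃ j, g • z i = z j) ∧ ∀ i, ∃ j, g⁻¹ • z i = z j}
  one_mem' := ⟨fun i => ⟨i, one_smul _ _⟩, fun i => ⟨i, by rw [inv_one, one_smul]⟩⟩
  mul_mem' := by
    rintro a b ⟨ha, ha'⟩ ⟨hb, hb'⟩
    refine ⟨fun i => ?_, fun i => ?_⟩
    · obtain ⟨j, hj⟩ := hb i
      obtain ⟨k, hk⟩ := ha j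
      exact ⟨k, by rw [mul_smul, hj, hk]⟩
    · obtain ⟨j, hj⟩ := ha' i
      obtain ⟨k, hk⟩ := hb' j
      exact ⟨k, by rw [mul_inv_rev, mul_smul, hj, hk]⟩
  inv_mem' := by
    rintro a ⟨ha, ha'⟩
    exact ⟨ha', by rwa [inv_inv]⟩

/-- `l` acts as a 3-cycle on the line of `z m` and fixes the other `z j` -/
structure Cyc (z : I → M) (m : I) (l : X) : Prop where
  odd : Odd (orderOf l)
  mv : l • z m ≠ z m
  cyc : l • l • z m = z m * l • z m
  fix : ∀ j, j ≠ m → l • z j = z j

/-- a minimal parabolic of type (i) -/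
def TyI (T : Subgroup X) (z : I → M) (P : Subgroup X) : Prop :=
  ∃ m : I, ∃ L' ≤ P, P ≤ L' ⊔ T ∧ (∀ l ∈ L', ∀ j, j ≠ m → l • z j = z j) ∧ ∃ l ∈ L', Cyc z m l

/-- **the input** -/
structure DIn (T B : Subgroup X) (z : I → M) (i₂ : I) (y : M) : Prop where
  sq : ∀ m : M, m * m = 1
  two : IsPGroup 2 T
  syl : ¬ 2 ∣ T.index
  inj : Function.Injective z
  /-- `N_X(T)` permutes the centres -/
  perm : normalizer (T : Set X) ≤ Pz X z
  fix2 : ∀ t ∈ T, t • z i₂ = z i₂
  /-- `y` is the product of the other centres -/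
  yfix : ∀ g : X, (∀ j, j ≠ i₂ → g • z j = z j) → g • y = y
  efix : ∀ g ∈ Pz X z, g • (z i₂ * y) = z i₂ * y
  /-- the trichotomy -/
  tri : ∀ P : Subgroup X, IsMinPar T P →
    P ≤ Pz X z ∨ (∀ p ∈ P, ∀ m : M, (∀ t ∈ T, t • m = m) → p • m = m) ∨ TyI T z P
  BT : B ≤ T
  Bc : B ≤ o2 (MulAction.stabilizer X (z i₂))
  By : B ≤ o2 (MulAction.stabilizer X y)
  Be : B ≤ o2 (MulAction.stabilizer X (z i₂ * y))

/-- **the output** -/
structure Out (T H : Subgroup X) (U₁ : Subgroup M) (x w : M) : Prop where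
  xU : x ∈ U₁
  wU : w ∈ U₁
  xT : ∀ t ∈ T, t • x = x
  wT : ∀ t ∈ T, t • w = w
  xH : ∃ g ∈ H, g • x ≠ x
  wH : ∃ g ∈ H, g • w ≠ w
  /-- some `P ≥ T` fixes `w` and moves `x` -/
  mvf : ∃ P : Subgroup X, T ≤ P ∧ P ≤ H ∧ (∀ p ∈ P, p • w = w) ∧ ∃ p ∈ P, p • x ≠ x
  /-- (f5) -/
  all : ∀ P : Subgroup X, P ≤ H → (IsMinPar T P ∨ P ≤ normalizer (T : Set X)) →
    ∃ u ∈ U₁, (∀ t ∈ T, t • u = u) ∧ (∃ g ∈ H, g • u ≠ u) ∧ ∀ p ∈ P, p • u = u

theorem Cyc.ne {z : I → M} {m : I} {l : X} (h : Cyc z m l) : l • z m ≠ z m := h.mv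

/-- the centre of `m` is in `[M, K₀]` -/
theorem Cyc.mem (sq : ∀ m : M, m * m = 1) {z : I → M} {m : I} {l : X} (h : Cyc z m l) {U₁ : Subgroup M}
    (hl : ∀ v : M, l • v * v ∈ U₁) : z m ∈ U₁ := by
  have h1 := hl (l • z m)
  rw [h.cyc] at h1
  -- `z m * l • z m * l • z m = z m`
  rwa [mul_assoc, sq, mul_one] at h1

/-- `B ≤ O₂(C_X(v)) ∩ H`, `B ≰ O₂(H)` : `H` moves `v` -/
theorem exists_mv {B H : Subgroup X} (hBH : B ≤ H) {v : M} (hB : B ≤ o2 (MulAction.stabilizer X v))
    (hn : ¬ B ≤ o2 H) : ∃ g ∈ H, g • v ≠ v := by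
  by_contra hcon
  push Not at hcon
  apply hn
  have h1 : H ≤ MulAction.stabilizer X v := fun g hg => hcon g hg
  have h2 : o2 (MulAction.stabilizer X v) ⊓ H ≤ o2 H := by
    refine MinSimple.VModule.le_o2 inf_le_right
      ((MinSimple.VModule.o2_isPGroup (MulAction.stabilizer X v)).to_le inf_le_left) ?_
    intro g hg
    rw [mem_normalizer_iff]
    intro a
    have h3 := mem_normalizer_iff.1 (MinSimple.VModule.le_normalizer_o2 _ (h1 hg)) a
    refine ⟨fun ha => ⟨h3.1 ha.1, H.mul_mem (H.mul_mem hg ha.2) (H.inv_mem hg)⟩, fun ha => ⟨h3.2 ha.1, ?_⟩⟩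
    have h4 := H.mul_mem (H.mul_mem (H.inv_mem hg) ha.2) hg
    have e : g⁻¹ * (g * a * g⁻¹) * g = a := by group
    rwa [e] at h4
  exact (le_inf hB hBH).trans h2

/-- elements of odd order of `K₀ T` lie in `K₀` -/
theorem mem_of_odd [Finite X] {T K₀ : Subgroup X} (h2 : IsPGroup 2 T) (hT : T ≤ normalizer (K₀ : Set X)) {l : X}
    (hl : l ∈ K₀ ⊔ T) (ho : Odd (orderOf l)) : l ∈ K₀ := by
  have hN : K₀ ⊔ T ≤ normalizer (K₀ : Set X) := sup_le le_normalizer hT
  have hn : (K₀.subgroupOf (normalizer (K₀ : Set X))).Normal := normal_in_normalizer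
  let f := QuotientGroup.mk' (K₀.subgroupOf (normalizer (K₀ : Set X)))
  have h3 : ∃ n : ℕ, (f ⟨l, hN hl⟩) ^ 2 ^ n = 1 := by
    have h4 : (K₀ ⊔ T).subgroupOf (normalizer (K₀ : Set X)) =
        K₀.subgroupOf (normalizer (K₀ : Set X)) ⊔ T.subgroupOf (normalizer (K₀ : Set X)) :=
      subgroupOf_sup le_normalizer hT
    have h5 : (⟨l, hN hl⟩ : ↥(normalizer (K₀ : Set X))) ∈ (K₀ ⊔ T).subgroupOf (normalizer (K₀ : Set X)) := hl
    rw [h4] at h5
    have h6 : f ⟨l, hN hl⟩ ∈ (T.subgroupOf (normalizer (K₀ : Set X))).map f := by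
      have h7 : f ⟨l, hN hl⟩ ∈ (K₀.subgroupOf (normalizer (K₀ : Set X)) ⊔
          T.subgroupOf (normalizer (K₀ : Set X))).map f := mem_map_of_mem f h5
      rw [Subgroup.map_sup] at h7
      have h8 : (K₀.subgroupOf (normalizer (K₀ : Set X))).map f = ⊥ := by
        rw [Subgroup.map_eq_bot_iff, QuotientGroup.ker_mk']
      rwa [h8, bot_sup_eq] at h7
    obtain ⟨n, hn⟩ := (h2.comap_subtype.map f : IsPGroup 2 ((T.subgroupOf (normalizer (K₀ : Set X))).map f)) ⟨_, h6⟩
    exact ⟨n, congrArg Subtype.val hn⟩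
  obtain ⟨n, hn⟩ := h3
  have h4 : l ^ 2 ^ n ∈ K₀ := by
    rw [← map_pow] at hn
    have h5 : (⟨l, hN hl⟩ ^ 2 ^ n : ↥(normalizer (K₀ : Set X))) ∈ K₀.subgroupOf (normalizer (K₀ : Set X)) :=
      (QuotientGroup.eq_one_iff _).1 hn
    exact h5
  have h6 : (Nat.Coprime (orderOf l) (2 ^ n)) := Nat.Coprime.pow_right n (Nat.coprime_two_right.2 ho)
  obtain ⟨m, hm⟩ := exists_pow_eq_self_of_coprime h6.symm
  rw [← hm]
  exact pow_mem h4 m

/-- conjugates of 3-cycles -/
theorem Cyc.conj {z : I → M} (hz : Function.Injective z) {m : I} {l : X} (h : Cyc z m l) {g : X} (hg : g ∈ Pz X z)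
    {m' : I} (hm : g • z m = z m') : Cyc z m' (g * l * g⁻¹) where
  odd := by
    rw [← MulAut.conj_apply, MulEquiv.orderOf_eq]
    exact h.odd
  mv := by
    rw [← hm, mul_smul, mul_smul, inv_smul_smul]
    exact fun e => h.mv (smul_left_cancel g e)
  cyc := by
    have e : (g * l * g⁻¹) • g • z m = g • l • z m := by rw [mul_smul, mul_smul, inv_smul_smul]
    rw [← hm, e, mul_smul, mul_smul, inv_smul_smul, h.cyc, smul_mul']
  fix := by
    intro j hj
    obtain ⟨i, hi⟩ := hg.2 j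
    rw [mul_smul, mul_smul, hi, h.fix i, ← hi, smul_inv_smul]
    rintro rfl
    apply hj
    apply hz
    rw [← hm, ← hi, smul_inv_smul]

variable [Finite X] [Finite M] [Finite I] {T B : Subgroup X} {z : I → M} {i₂ : I} {y : M}

omit [Finite X] [Finite M] [Finite I] in
/-- `T` permutes the centres -/
theorem DIn.permT (h : DIn T B z i₂ y) {t : X} (ht : t ∈ T) : t ∈ Pz X z := h.perm (le_normalizer ht)

omit [Finite X] [Finite M] [Finite I] in
/-- `T` fixes `y` -/
theorem DIn.yT (h : DIn T B z i₂ y) {t : X} (ht : t ∈ T) : t • y = y := by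
  have h1 := h.efix t (h.permT ht)
  rw [smul_mul', h.fix2 t ht] at h1
  exact mul_left_cancel h1

/-- **the two `T`-fixed vectors** -/
theorem exists_out (h : DIn T B z i₂ y) {H K₀ : Subgroup X} {U₁ : Subgroup M} (hTH : T ≤ H) (hB : ¬ B ≤ o2 H)
    (hKn : H ≤ normalizer (K₀ : Set X)) (hgen : H ≤ K₀ ⊔ T) (hc : ∀ k ∈ K₀, ∀ m : M, k • m * m ∈ U₁) :
    ∃ x w : M, Out T H U₁ x w := by
  classical
  have := Fintype.ofFinite I
  have hBH : B ≤ H := h.BT.trans hTH
  obtain ⟨gc, hgc, hcm⟩ := exists_mv hBH h.Bc hB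
  obtain ⟨gy, hgy, hym⟩ := exists_mv hBH h.By hB
  obtain ⟨ge, hge, hem⟩ := exists_mv hBH h.Be hB
  -- the coset of a `T`-fixed vector mod `U₁`
  have hcos : ∀ v : M, (∀ t ∈ T, t • v = v) → ∃ v₀ : M, v₀ * v ∈ U₁ ∧ ∀ g ∈ H, g • v₀ = v₀ := by
    intro v hv
    refine exists_fixed h.sq h.syl hTH hv fun g hg => ?_
    -- `H = K₀ T`
    have h1 : g ∈ K₀ ⊔ T := hgen hg
    rw [← SetLike.mem_coe, Subgroup.coe_mul_of_right_le_normalizer_left _ _ (hTH.trans hKn)] at h1
    obtain ⟨k, hk, t, ht, rfl⟩ := Set.mem_mul.1 h1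
    have h2 : (k * t) • v = k • v := by rw [mul_smul, hv t ht]
    show (k * t) • v * v ∈ U₁
    rw [h2]
    exact hc k hk v
  -- odd order
  have hodd : ∀ {m : I} {l : X}, l ∈ H → Cyc z m l → z m ∈ U₁ := by
    intro m l hl hcy
    have h1 : l ∈ K₀ := mem_of_odd h.two (hTH.trans hKn) (hgen hl) hcy.odd
    exact hcy.mem h.sq fun v => hc l h1 v
  have hsqm : ∀ a b : M, a * b = b * a := mulc h.sq
  by_cases hcase : ∃ l ∈ H, Cyc z i₂ l
  · -- CASE 1
    obtain ⟨l, hl, hcy⟩ := hcase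
    obtain ⟨y₀, hy₀, hy₀H⟩ := hcos y fun t ht => h.yT ht
    have hly : l • y = y := h.yfix l hcy.fix
    have hwT : ∀ t ∈ T, t • (y₀ * y) = y₀ * y := fun t ht => by
      rw [smul_mul', hy₀H t (hTH ht), h.yT ht]
    have hcU : z i₂ ∈ U₁ := hodd hl hcy
    refine ⟨z i₂, y₀ * y, hcU, hy₀, h.fix2, hwT, ⟨gc, hgc, hcm⟩, ⟨gy, hgy, ?_⟩, ?_, ?_⟩
    · intro e
      rw [smul_mul', hy₀H gy hgy] at e
      exact hym (mul_left_cancel e)
    · refine ⟨T ⊔ zpowers l, le_sup_left, sup_le hTH (zpowers_le.2 hl), ?_, l,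
        mem_sup_right (mem_zpowers l), hcy.mv⟩
      have h1 : T ⊔ zpowers l ≤ MulAction.stabilizer X (y₀ * y) := by
        refine sup_le hwT (zpowers_le.2 ?_)
        show l • (y₀ * y) = y₀ * y
        rw [smul_mul', hy₀H l hl, hly]
      exact fun p hp => h1 hp
    · intro P hPH hP
      -- `e y₀`
      have hEP : P ≤ Pz X z → ∃ u ∈ U₁, (∀ t ∈ T, t • u = u) ∧ (∃ g ∈ H, g • u ≠ u) ∧ ∀ p ∈ P, p • u = u := by
        intro hPz
        refine ⟨z i₂ * (y₀ * y), mul_mem hcU hy₀, fun t ht => by rw [smul_mul', h.fix2 t ht, hwT t ht],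
          ⟨ge, hge, ?_⟩, fun p hp => ?_⟩
        · intro e
          have e2 : z i₂ * (y₀ * y) = y₀ * (z i₂ * y) := by
            rw [← mul_assoc, hsqm (z i₂) y₀, mul_assoc]
          rw [e2, smul_mul', hy₀H ge hge] at e
          exact hem (mul_left_cancel e)
        · have e2 : z i₂ * (y₀ * y) = y₀ * (z i₂ * y) := by
            rw [← mul_assoc, hsqm (z i₂) y₀, mul_assoc]
          rw [e2, smul_mul', hy₀H p (hPH hp), h.efix p (hPz hp)]
      rcases hP with hP | hP
      · rcases h.tri P hP with h1 | h1 | ⟨m, L', hL', hPL, hfix, l', hl', hcy'⟩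
        · exact hEP h1
        · exact ⟨z i₂, hcU, h.fix2, ⟨gc, hgc, hcm⟩, fun p hp => h1 p hp _ h.fix2⟩
        · by_cases hm : m = i₂
          · subst hm
            refine ⟨y₀ * y, hy₀, hwT, ⟨gy, hgy, ?_⟩, ?_⟩
            · intro e
              rw [smul_mul', hy₀H gy hgy] at e
              exact hym (mul_left_cancel e)
            · have h2 : P ≤ MulAction.stabilizer X (y₀ * y) := by
                refine hPL.trans (sup_le (fun a ha => ?_) hwT)
                show a • (y₀ * y) = y₀ * y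
                rw [smul_mul', hy₀H a (hPH (hL' ha)), h.yfix a (hfix a ha)]
              exact fun p hp => h2 hp
          · refine ⟨z i₂, hcU, h.fix2, ⟨gc, hgc, hcm⟩, ?_⟩
            have h2 : P ≤ MulAction.stabilizer X (z i₂) := by
              refine hPL.trans (sup_le (fun a ha => ?_) h.fix2)
              exact hfix a ha i₂ (fun e => hm e.symm)
            exact fun p hp => h2 hp
      · exact hEP (hP.trans h.perm)
  · -- CASE 2
    push Not at hcase
    -- some 3-cycle in `H`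
    have hex : ∃ m : I, ∃ l ∈ H, Cyc z m l := by
      by_contra hno
      push Not at hno
      have h1 : H ≤ MulAction.stabilizer X (z i₂ * y) := by
        refine le_of_forall hTH ?_ fun P hP hPH => ?_
        · exact fun g hg => h.efix g (h.perm hg.2)
        · rcases h.tri P hP with h1 | h1 | ⟨m, L', hL', hPL, hfix, l', hl', hcy'⟩
          · exact fun g hg => h.efix g (h1 hg)
          · refine fun g hg => h1 g hg _ fun t ht => ?_
            rw [smul_mul', h.fix2 t ht, h.yT ht]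
          · exact absurd hcy' (hno m l' (hPH (hL' hl')))
      exact hem (h1 hge)
    obtain ⟨m, l, hl, hcy⟩ := hex
    have hm2 : m ≠ i₂ := by
      rintro rfl
      exact hcase l hl hcy
    -- the orbit of `m`
    let O : Finset I := Finset.univ.filter fun i => ∃ g ∈ H ⊓ Pz X z, g • z m = z i
    have hO : ∀ i, i ∈ O ↔ ∃ g ∈ H ⊓ Pz X z, g • z m = z i := fun i => by simp [O]
    have hmO : m ∈ O := (hO m).2 ⟨1, one_mem _, one_smul _ _⟩
    have hOP : ∀ g ∈ H ⊓ Pz X z, g • pz z O = pz z O := by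
      intro g hg
      refine smul_pz_of_perm h.sq h.inj fun i hi => ?_
      obtain ⟨a, ha, e⟩ := (hO i).1 hi
      obtain ⟨j, hj⟩ := hg.2.1 i
      refine ⟨j, (hO j).2 ⟨g * a, mul_mem hg ha, ?_⟩, hj⟩
      rw [mul_smul, e, hj]
    have hOU : pz z O ∈ U₁ := by
      refine pz_mem fun i hi => ?_
      obtain ⟨a, ha, e⟩ := (hO i).1 hi
      exact hodd (mul_mem (mul_mem ha.1 hl) (inv_mem ha.1)) (hcy.conj h.inj ha.2 e)
    have hOT : ∀ t ∈ T, t • pz z O = pz z O := fun t ht => hOP t ⟨hTH ht, h.permT ht⟩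
    have hlO : l • pz z O ≠ pz z O := by
      intro e
      rw [pz_erase h.sq z hmO, smul_mul', smul_pz_of_fix (g := l) (S := O.erase m)
        (fun i hi => hcy.fix i (Finset.ne_of_mem_erase hi))] at e
      exact hcy.mv (mul_right_cancel e)
    obtain ⟨c₀, hc₀, hc₀H⟩ := hcos (z i₂) h.fix2
    have hxT : ∀ t ∈ T, t • (c₀ * z i₂) = c₀ * z i₂ := fun t ht => by
      rw [smul_mul', hc₀H t (hTH ht), h.fix2 t ht]
    have hxm : gc • (c₀ * z i₂) ≠ c₀ * z i₂ := by
      intro e
      rw [smul_mul', hc₀H gc hgc] at e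
      exact hcm (mul_left_cancel e)
    refine ⟨pz z O, c₀ * z i₂, hOU, hc₀, hOT, hxT, ⟨l, hl, hlO⟩, ⟨gc, hgc, hxm⟩, ?_, ?_⟩
    · refine ⟨T ⊔ zpowers l, le_sup_left, sup_le hTH (zpowers_le.2 hl), ?_, l,
        mem_sup_right (mem_zpowers l), hlO⟩
      have h1 : T ⊔ zpowers l ≤ MulAction.stabilizer X (c₀ * z i₂) := by
        refine sup_le hxT (zpowers_le.2 ?_)
        show l • (c₀ * z i₂) = c₀ * z i₂
        rw [smul_mul', hc₀H l hl, hcy.fix i₂ hm2.symm]
      exact fun p hp => h1 hp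
    · intro P hPH hP
      have hEP : P ≤ Pz X z → ∃ u ∈ U₁, (∀ t ∈ T, t • u = u) ∧ (∃ g ∈ H, g • u ≠ u) ∧ ∀ p ∈ P, p • u = u :=
        fun hPz => ⟨pz z O, hOU, hOT, ⟨l, hl, hlO⟩, fun p hp => hOP p ⟨hPH hp, hPz hp⟩⟩
      rcases hP with hP | hP
      · rcases h.tri P hP with h1 | h1 | ⟨m', L', hL', hPL, hfix, l', hl', hcy'⟩
        · exact hEP h1
        · exact ⟨pz z O, hOU, hOT, ⟨l, hl, hlO⟩, fun p hp => h1 p hp _ hOT⟩
        · have hm' : m' ≠ i₂ := by
            rintro rfl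
            exact hcase l' (hPH (hL' hl')) hcy'
          refine ⟨c₀ * z i₂, hc₀, hxT, ⟨gc, hgc, hxm⟩, ?_⟩
          have h2 : P ≤ MulAction.stabilizer X (c₀ * z i₂) := by
            refine hPL.trans (sup_le (fun a ha => ?_) hxT)
            show a • (c₀ * z i₂) = c₀ * z i₂
            rw [smul_mul', hc₀H a (hPH (hL' ha)), hfix a ha i₂ hm'.symm]
          exact fun p hp => h2 hp
      · exact hEP (hP.trans h.perm)

end Cfsg.Agent.Omega.NO3S.EMany.LowD
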