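import Cfsg.Agent.Omega.NO3S.EMany.Low

/-!
# The machine: the section `N = U¹ / U₀` and the group `H / C_H(N)` (bb #21609 (4), #21788 (f4))

For `h : LB H M T B` and a `T`-fixed `x ∈ U¹ = [M, ⟨B^H⟩]` moved by `H`:

* `Sec H M B N f` : `N = U¹ / C_{U¹}(⟨B^H⟩)`, `f : U¹ → N`;  `exists_sec`;
* `Sec.fix_iff`, `Sec.ne_one_iff` : a `T`-fixed `u ∈ U¹` and its image have the same stabiliser over `T`; the image is
  not 1 iff `H` moves `u`;
* `Sec.irr` : `N` is irreducible;  `Sec.exists_atom` : an atom `A ≤ B` of `N` with `LB H N T A`;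
* **`Out H M T B H' N π f A'`** : `π : H → H' = H / C_H(N)`, `f : U¹ → N`, `H'` faithful and irreducible on `N`,
  `A' ≤ π(B)`, `LB H' N π(T) A'`;  **`exists_out`**.
-/

set_option autoImplicit false

namespace Cfsg.Agent.Omega.NO3S.EMany.Low

open Subgroup Cfsg Cfsg.Agent.ZN Cfsg.Agent.ClassTwoFusion.Quad Cfsg.Agent.Omega.ML.MinFrame
open Cfsg.Agent.Omega.ML.Final
open Cfsg.Agent.MinSimple.VModule (o2_isPGroup o2_le le_o2 le_normalizer_o2 o2_le_of_sylow)

universe u v w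

/-- `N = U¹ / C_{U¹}(⟨B^H⟩)` -/
structure Sec (H : Type u) [Group H] (M : Type v) [Group M] [MulDistribMulAction H M] (B : Subgroup H) (N : Type w)
    [Group N] [MulDistribMulAction H N] (f : ↥(cmm M B) →* N) : Prop where
  surj : Function.Surjective f
  eqv : ∀ (g : H) (u : ↥(cmm M B)), f ⟨g • (u : M), smul_mem_cmm g u.2⟩ = g • f u
  ker : ∀ u : ↥(cmm M B), f u = 1 ↔ (u : M) ∈ cv M (Km B : Set H)

section

variable {H : Type u} [Group H] [Finite H] {M : Type v} [Group M] [Finite M] [MulDistribMulAction H M]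
  {T B : Subgroup H}

omit [Finite H] in
theorem LB.exists_sec (h : LB H M T B) : ∃ (N : Type v) (_ : Group N) (_ : Finite N) (_ : MulDistribMulAction H N)
    (f : ↥(cmm M B) →* N), Sec H M B N f := by
  let _ := subAct (H := H) (cmm M B) (fun g u hu => smul_mem_cmm g hu)
  let U0 : Subgroup ↥(cmm M B) := (cv M (Km B : Set H)).subgroupOf (cmm M B)
  have hn : U0.Normal := normal_of_sq (fun u => Subtype.ext (h.sq u)) _
  let _ := modAct (H := H) U0 (fun g u hu => smul_mem_cvKm g hu)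
  refine ⟨↥(cmm M B) ⧸ U0, inferInstance, inferInstance, inferInstance, QuotientGroup.mk' U0,
    ⟨QuotientGroup.mk'_surjective _, fun g u => rfl, fun u => ?_⟩⟩
  rw [QuotientGroup.mk'_apply, QuotientGroup.eq_one_iff]
  exact Iff.rfl

namespace Sec

variable {N : Type v} [Group N] [Finite N] [MulDistribMulAction H N] {f : ↥(cmm M B) →* N}

omit [Finite H] [Finite M] [Finite N] in
theorem sqN (s : Sec H M B N f) (h : LB H M T B) (n : N) : n * n = 1 := by
  obtain ⟨u, rfl⟩ := s.surj n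
  rw [← map_mul, ← map_one f]
  exact congrArg f (Subtype.ext (h.sq u))

omit [Finite H] [Finite M] [Finite N] in
theorem smul_eq_iff (s : Sec H M B N f) (g : H) (u : ↥(cmm M B)) :
    g • f u = f u ↔ (g • (u : M)) * (u : M)⁻¹ ∈ cv M (Km B : Set H) := by
  rw [← s.eqv, ← mul_inv_eq_one, ← map_inv, ← map_mul, s.ker]
  exact Iff.rfl

omit [Finite H] [Finite M] [Finite N] in
theorem tfix (s : Sec H M B N f) {u : ↥(cmm M B)} {g : H} (hg : g • (u : M) = u) : g • f u = f u := by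
  rw [s.smul_eq_iff, hg, mul_inv_cancel]
  exact one_mem _

omit [Finite N] in
/-- the stabilisers over `T` -/
theorem fix_iff (s : Sec H M B N f) (h : LB H M T B) {u : ↥(cmm M B)} (tu : ∀ t ∈ T, t • (u : M) = u) {R : Subgroup H}
    (hTR : T ≤ R) : (∀ g ∈ R, g • f u = f u) ↔ ∀ g ∈ R, g • (u : M) = u := by
  refine ⟨fun hR => ?_, fun hR g hg => s.tfix (hR g hg)⟩
  exact h.fix_of_mod tu hTR (I := cv M (Km B : Set H)) (fun w hw tw g _ => h.fix_of_cvKm tw hw g)
    fun g hg => (s.smul_eq_iff g u).1 (hR g hg)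

omit [Finite H] [Finite M] [Finite N] in
theorem ne_one_iff (s : Sec H M B N f) (h : LB H M T B) {u : ↥(cmm M B)} (tu : ∀ t ∈ T, t • (u : M) = u) :
    f u ≠ 1 ↔ ¬ ∀ g : H, g • (u : M) = u := by
  rw [Ne, s.ker]
  exact not_congr ⟨fun hu g => h.fix_of_cvKm tu hu g, fun hu k _ => hu k⟩

omit [Finite N] in
/-- `N` is irreducible -/
theorem irr (s : Sec H M B N f) (h : LB H M T B) (hM : MLK.{u, v}) {x : M} (tx : ∀ t ∈ T, t • x = x)
    (hx : ¬ ∀ g : H, g • x = x) (hxU : x ∈ cmm M B) (W : Subgroup N) (hW : ∀ g : H, ∀ w ∈ W, g • w ∈ W) :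
    W = ⊥ ∨ W = ⊤ := by
  let I : Subgroup M := (W.comap f).map (cmm M B).subtype
  have hmem : ∀ u : ↥(cmm M B), (u : M) ∈ I ↔ f u ∈ W := by
    intro u
    constructor
    · rintro ⟨w, hw, hwu⟩
      rw [← (Subtype.ext hwu : w = u)]
      exact hw
    · exact fun hu => ⟨u, hu, rfl⟩
  have hI : ∀ g : H, ∀ u ∈ I, g • u ∈ I := by
    rintro g _ ⟨u, hu, rfl⟩
    refine (hmem ⟨g • (u : M), smul_mem_cmm g u.2⟩).2 ?_
    rw [s.eqv]
    exact hW g _ hu
  by_cases hxI : x ∈ I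
  · right
    rw [eq_top_iff]
    intro n _
    obtain ⟨u, rfl⟩ := s.surj n
    exact (hmem u).1 (orb_le (fun g _ => hI g x hxI) (h.cmm_le hM tx hx u.2))
  · left
    rw [eq_bot_iff]
    intro n hn
    obtain ⟨u, rfl⟩ := s.surj n
    rw [mem_bot, s.ker]
    exact h.irr hM tx hx hxU hI hxI ((hmem u).2 hn)

omit [Finite H] [Finite N] in
/-- `|N : C_N(B)| ≤ |B|` -/
theorem index_le (s : Sec H M B N f) (h : LB H M T B) : (cv N (B : Set H)).index ≤ Nat.card B := by
  have h1 : (cv N (B : Set H)).index = ((cv N (B : Set H)).comap f).index :=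
    (index_comap_of_surjective _ s.surj).symm
  have h2 : (cv M (B : Set H)).subgroupOf (cmm M B) ≤ (cv N (B : Set H)).comap f := by
    intro u hu b hb
    exact s.tfix (hu b hb)
  have h3 : (cv M (B : Set H)).relIndex (cmm M B) ∣ (cv M (B : Set H)).index := by
    have hn : (cv M (B : Set H)).Normal := normal_of_sq h.sq _
    exact relIndex_dvd_index_of_normal _ _
  rw [h1, ← h.exact]
  refine (Nat.le_of_dvd ?_ (index_dvd_of_le h2)).trans (Nat.le_of_dvd ?_ h3)
  · exact Nat.pos_of_ne_zero (index_ne_zero_of_finite (H := (cv M (B : Set H)).subgroupOf (cmm M B)))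
  · exact Nat.pos_of_ne_zero index_ne_zero_of_finite

/-- **an atom of `N` in `B`** -/
theorem exists_atom (s : Sec H M B N f) (h : LB H M T B) (hM : MLK.{u, v}) {x : M} (tx : ∀ t ∈ T, t • x = x)
    (hx : ¬ ∀ g : H, g • x = x) (hxU : x ∈ cmm M B) : ∃ A ≤ B, LB H N T A := by
  have hsq := s.sqN h
  set z : N := f ⟨x, hxU⟩ with hz
  have tz : ∀ t ∈ T, t • z = z := fun t ht => s.tfix (tx t ht)
  have hz' : ¬ ∀ g : H, g • z = z := fun hc =>
    hx fun g => (s.fix_iff h (u := ⟨x, hxU⟩) tx (R := ⊤) le_top).1 (fun g _ => hc g) g (mem_top g)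
  have hdis : B ⊓ o2 (⊤ : Subgroup H) = ⊥ := h.B_inf_o2 hM tx hx
  -- sub-exactness
  have hsub : ∀ C ≤ B, Nat.card C ≤ (cv N (C : Set H)).index := by
    intro C hC
    have h1 := h.ml hM hsq tz hz' hC
    have h2 : fxr H (orb (⊤ : Subgroup H) z) ⊓ C = ⊥ := by
      rw [eq_bot_iff, ← hdis]
      exact le_inf (inf_le_right.trans hC) ((inf_le_inf_left _ hC).trans (h.fxr_inf_le tz hz'))
    rw [← inf_relIndex_right, h2, relIndex_bot_left] at h1
    have hn2 : (cv N (C : Set H)).Normal := normal_of_sq hsq _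
    exact h1.trans (Nat.le_of_dvd (Nat.pos_of_ne_zero index_ne_zero_of_finite) (relIndex_dvd_index_of_normal _ _))
  obtain ⟨A, ⟨hAB, hA1, hAi⟩, hmin⟩ : ∃ A : Subgroup H, (A ≤ B ∧ A ≠ ⊥ ∧ (cv N (A : Set H)).index ≤ Nat.card A) ∧
      ∀ C : Subgroup H, (C ≤ B ∧ C ≠ ⊥ ∧ (cv N (C : Set H)).index ≤ Nat.card C) → C ≤ A → C = A := by
    have hfin : {A : Subgroup H | A ≤ B ∧ A ≠ ⊥ ∧ (cv N (A : Set H)).index ≤ Nat.card A}.Finite :=
      Set.toFinite _
    obtain ⟨A, hA⟩ := hfin.exists_minimal ⟨B, le_rfl, h.B1, s.index_le h⟩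
    exact ⟨A, hA.1, fun C hC hCA => le_antisymm hCA (hA.2 hC hCA)⟩
  refine ⟨A, hAB, hsq, h.two, h.syl, hAB.trans h.BT, fun a ha => h.el a (hAB ha), le_antisymm hAi (hsub A hAB), ?_,
    fun R hTR hR => hAB.trans (h.low R hTR hR), ?_, h.KH⟩
  · intro C hCA hC1 hCne
    by_contra hc
    exact hCne (hmin C ⟨hCA.trans hAB, hC1, not_lt.1 hc⟩ hCA)
  · intro hc
    apply hA1
    rw [eq_bot_iff, ← hdis]
    exact le_inf hAB hc

end Sec

/-! ### The quotient -/

/-- **The output of the machine** -/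
structure Out (H : Type u) [Group H] (M : Type v) [Group M] [MulDistribMulAction H M] (T B : Subgroup H)
    (H' : Type u) [Group H'] (N : Type v) [Group N] [MulDistribMulAction H' N] (π : H →* H')
    (f : ↥(cmm M B) →* N) (A' : Subgroup H') : Prop where
  πs : Function.Surjective π
  fs : Function.Surjective f
  eqv : ∀ (g : H) (u : ↥(cmm M B)), f ⟨g • (u : M), smul_mem_cmm g u.2⟩ = π g • f u
  ker : ∀ u : ↥(cmm M B), f u = 1 ↔ (u : M) ∈ cv M (Km B : Set H)
  faith : ∀ h : H', (∀ n : N, h • n = n) → h = 1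
  irr : ∀ W : Subgroup N, (∀ h : H', ∀ w ∈ W, h • w ∈ W) → W = ⊥ ∨ W = ⊤
  lb : LB H' N (T.map π) A'
  AB : A' ≤ B.map π

omit [Finite M] in
/-- passage to the faithful quotient, `N` irreducible -/
theorem LB.quo {A : Subgroup H} (h : LB H M T A) (hM : MLK.{u, v}) {z : M} (tz : ∀ t ∈ T, t • z = z)
    (hz : ¬ ∀ g : H, g • z = z) [Finite M] (hirr : ∀ W : Subgroup M, (∀ h : H, ∀ w ∈ W, h • w ∈ W) → W = ⊥ ∨ W = ⊤) :
    ∃ (H' : Type u) (_ : Group H') (_ : Finite H') (_ : MulDistribMulAction H' M) (π : H →* H'),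
      Function.Surjective π ∧ (∀ (g : H) (m : M), π g • m = g • m) ∧ (∀ h : H', (∀ n : M, h • n = n) → h = 1) ∧
      LB H' M (T.map π) (A.map π) := by
  have hN : (fxr H (⊤ : Subgroup M)).Normal := fxr_normal fun _ _ _ => mem_top _
  have htriv : ∀ x ∈ fxr H (⊤ : Subgroup M), ∀ m : M, x • m = m := fun x hx m => hx m (mem_top m)
  set K := fxr H (⊤ : Subgroup M) with hKdef
  let _ := quoAct K htriv
  let π : H →* H ⧸ K := QuotientGroup.mk' K
  have hπ : Function.Surjective π := QuotientGroup.mk'_surjective K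
  have he : ∀ (g : H) (v : M), π g • v = g • v := fun _ _ => rfl
  have hfaith : ∀ h : H ⧸ K, (∀ n : M, h • n = n) → h = 1 := by
    intro g' hg
    obtain ⟨g, rfl⟩ := hπ g'
    exact (QuotientGroup.eq_one_iff g).2 fun v _ => hg v
  refine ⟨H ⧸ K, inferInstance, inferInstance, inferInstance, π, hπ, he, hfaith, ?_⟩
  -- `A ∩ K = 1`
  have hker : ∀ a ∈ A, π a = 1 → a = 1 := by
    intro a ha ha1
    have h1 : a ∈ K := (QuotientGroup.eq_one_iff a).1 ha1
    have h2 : a ∈ fxr H (orb (⊤ : Subgroup H) z) ⊓ A := ⟨fun m _ => h1 m (mem_top m), ha⟩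
    rw [h.inf_eq_bot hM tz hz] at h2
    exact mem_bot.1 h2
  have hinj : ∀ C ≤ A, Nat.card (C.map π) = Nat.card C := by
    intro C hC
    have h1 : Function.Injective (π.subgroupMap C) := by
      rw [injective_iff_map_eq_one]
      intro c hc
      exact Subtype.ext (hker c (hC c.2) (congrArg Subtype.val hc))
    exact (Nat.card_congr (Equiv.ofBijective _ ⟨h1, π.subgroupMap_surjective C⟩)).symm
  have hcv : ∀ C : Subgroup H, cv M ((C.map π : Subgroup (H ⧸ K)) : Set (H ⧸ K)) = cv M (C : Set H) := by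
    intro C
    ext m
    constructor
    · exact fun hm c hc => hm _ ⟨c, hc, rfl⟩
    · rintro hm _ ⟨c, hc, rfl⟩
      exact hm c hc
  have hA1 : A.map π ≠ ⊥ := by
    intro h1
    have h2 := hinj A le_rfl
    rw [h1, card_bot] at h2
    exact h.B1 (Subgroup.eq_bot_of_card_eq _ h2.symm)
  refine ⟨h.sq, h.two.map _, fun h2 => h.syl (h2.trans (index_map_dvd T hπ)), map_mono h.BT, ?_, ?_, ?_, ?_, ?_,
    sec_KG.quo H h.KH K⟩
  · rintro _ ⟨a, ha, rfl⟩
    rw [← map_mul, h.el a ha, map_one]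
  · rw [hcv, hinj A le_rfl, h.exact]
  · intro C' hC' hC1 hCA
    let C := C'.comap π ⊓ A
    have h1 : C.map π = C' := by
      apply le_antisymm
      · rintro _ ⟨c, hc, rfl⟩
        exact hc.1
      · intro c' hc'
        obtain ⟨a, ha, rfl⟩ := hC' hc'
        exact ⟨a, ⟨hc', ha⟩, rfl⟩
    rw [← h1, hinj C inf_le_right, hcv]
    refine h.atom C inf_le_right ?_ ?_
    · intro h2
      rw [h2, Subgroup.map_bot] at h1
      exact hC1 h1.symm
    · intro h2
      rw [h2] at h1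
      exact hCA h1.symm
  · intro R' hTR hR
    have h1 : T ≤ R'.comap π := map_le_iff_le_comap.1 hTR
    have h2 : R'.comap π ≠ ⊤ := by
      intro h3
      apply hR
      rw [← map_comap_eq_self_of_surjective hπ R', h3, ← MonoidHom.range_eq_map, MonoidHom.range_eq_top.2 hπ]
    have h3 := h.low _ h1 h2
    have h4 : (o2 (R'.comap π)).map π ≤ o2 R' := by
      refine le_o2 ?_ ((o2_isPGroup _).map _) ?_
      · rw [map_le_iff_le_comap]
        exact o2_le _
      · intro r' hr'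
        obtain ⟨r, rfl⟩ := hπ r'
        have h5 := le_normalizer_o2 (R'.comap π) (show r ∈ R'.comap π from hr')
        have h6 : π r ∈ (normalizer (o2 (R'.comap π) : Set H)).map π := ⟨r, h5, rfl⟩
        exact le_normalizer_map π h6
    exact (map_mono h3).trans h4
  · intro hc
    -- `O₂(H')` acts trivially
    apply hA1
    have h1 : o2 (⊤ : Subgroup (H ⧸ K)) = ⊥ := by
      have hW : ∀ g : H ⧸ K, ∀ w ∈ cv M ((o2 (⊤ : Subgroup (H ⧸ K)) : Subgroup (H ⧸ K)) : Set (H ⧸ K)),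
          g • w ∈ cv M ((o2 (⊤ : Subgroup (H ⧸ K)) : Subgroup (H ⧸ K)) : Set (H ⧸ K)) := by
        intro g w hw k hk
        have h3 : g⁻¹ * k * g ∈ o2 (⊤ : Subgroup (H ⧸ K)) := by
          have := (mem_normalizer_iff.1 (le_normalizer_o2 (⊤ : Subgroup (H ⧸ K)) (mem_top g⁻¹)) k).1 hk
          rwa [inv_inv] at this
        have h4 := hw _ h3
        rwa [mul_smul, mul_smul, inv_smul_eq_iff] at h4
      have hirr' := hirr (cv M ((o2 (⊤ : Subgroup (H ⧸ K)) : Subgroup (H ⧸ K)) : Set (H ⧸ K)))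
        (fun g w hw => by rw [← he]; exact hW (π g) w hw)
      have hne : cv M ((o2 (⊤ : Subgroup (H ⧸ K)) : Subgroup (H ⧸ K)) : Set (H ⧸ K)) ≠ ⊥ := by
        intro h3
        have h4 : z ∈ cv M ((o2 (⊤ : Subgroup (H ⧸ K)) : Subgroup (H ⧸ K)) : Set (H ⧸ K)) := by
          intro k hk
          have h5 : o2 (⊤ : Subgroup (H ⧸ K)) ≤ T.map π :=
            o2_le_of_sylow (h.two.map _) (by
              rw [relIndex_top_right]
              exact fun h2 => h.syl (h2.trans (index_map_dvd T hπ)))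
          obtain ⟨t, ht, rfl⟩ := h5 hk
          rw [he, tz t ht]
        rw [h3, mem_bot] at h4
        exact hz fun g => by rw [h4, smul_one]
      have htop := hirr'.resolve_left hne
      rw [eq_bot_iff]
      intro k hk
      rw [mem_bot]
      exact hfaith k fun n => (htop ▸ mem_top n : n ∈ cv M ((o2 (⊤ : Subgroup (H ⧸ K)) : Subgroup (H ⧸ K)) :
        Set (H ⧸ K))) k hk
    rw [h1] at hc
    exact le_bot_iff.1 hc

/-- **The machine** -/
theorem LB.exists_out (h : LB H M T B) (hM : MLK.{u, v}) {x : M} (tx : ∀ t ∈ T, t • x = x)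
    (hx : ¬ ∀ g : H, g • x = x) (hxU : x ∈ cmm M B) :
    ∃ (H' : Type u) (_ : Group H') (_ : Finite H') (N : Type v) (_ : Group N) (_ : Finite N)
      (_ : MulDistribMulAction H' N) (π : H →* H') (f : ↥(cmm M B) →* N) (A' : Subgroup H'),
      Out H M T B H' N π f A' := by
  obtain ⟨N, _, _, _, f, s⟩ := h.exists_sec
  obtain ⟨A, hAB, hA⟩ := s.exists_atom h hM tx hx hxU
  have tz : ∀ t ∈ T, t • f ⟨x, hxU⟩ = f ⟨x, hxU⟩ := fun t ht => s.tfix (tx t ht)
  have hz' : ¬ ∀ g : H, g • f ⟨x, hxU⟩ = f ⟨x, hxU⟩ := fun hc =>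
    hx fun g => (s.fix_iff h (u := ⟨x, hxU⟩) tx (R := ⊤) le_top).1 (fun g _ => hc g) g (mem_top g)
  have hirr := s.irr h hM tx hx hxU
  obtain ⟨H', _, _, _, π, hπ, he, hfaith, hlb⟩ := hA.quo hM tz hz' hirr
  refine ⟨H', inferInstance, inferInstance, N, inferInstance, inferInstance, inferInstance, π, f, A.map π,
    hπ, s.surj, fun g u => by rw [s.eqv, he], s.ker, hfaith, ?_, hlb, map_mono hAB⟩
  intro W hW
  exact hirr W fun g w hw => by rw [← he]; exact hW (π g) w hw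

end

end Cfsg.Agent.Omega.NO3S.EMany.Low
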