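import Cfsg.Agent.Omega.TV.Big
import Cfsg.Agent.Omega.TV.Form
import Cfsg.Agent.Omega.TV.One
import Cfsg.Agent.Omega.NO3b.UMethod

/-!
# NO-3S, case (E), `k ≥ 3`, `q = 2`, the transvection case of (ALPHA), I: classes of centres

Setting of THEOREM TV (`Sys ρ Om`), `Clo`: the classes of points together with `0` are subspaces.

* `pres` : the normal subgroup of the elements fixing every class;
* `IsPr`, `exists_pr`, `IsPr.uniq` : the component of a vector in a class;
* `claimW` : if `c`, `w` are fixed by a Sylow 2-subgroup and the component of `c` in the class of `r` is `p ≠ 0`, the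
  component of `w` is `0` or `p`.
-/

set_option autoImplicit false

namespace Cfsg.Agent.Omega.NO3S.EMany.Tv

open Module Subgroup Cfsg.Agent.Omega.TV Cfsg.Agent.Omega.TV.Sys

variable {H : Type*} [Group H] {V : Type*} [AddCommGroup V] [Module (ZMod 2) V]
  {ρ : H →* (V ≃ₗ[ZMod 2] V)} {Om : Set V} [Finite V]

/-- the stabiliser of a vector -/
def stV (ρ : H →* (V ≃ₗ[ZMod 2] V)) (c : V) : Subgroup H where
  carrier := {g | ρ g c = c}
  one_mem' := rone ρ c
  mul_mem' := by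
    intro a b (ha : ρ a c = c) (hb : ρ b c = c)
    show ρ (a * b) c = c
    rw [rmul, hb, ha]
  inv_mem' := by
    intro a (ha : ρ a c = c)
    show ρ a⁻¹ c = c
    have := rinv ρ a c
    rwa [ha] at this

omit [Finite V] in
theorem mem_stV {c : V} {g : H} : g ∈ stV ρ c ↔ ρ g c = c := Iff.rfl

/-- the elements which fix every class of points -/
def pres (h : Sys ρ Om) : Subgroup H where
  carrier := {g | ∀ y ∈ Om, Near ρ Om y (ρ g y)}
  one_mem' := fun y hy => by
    rw [rone]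
    exact h.near_refl hy
  mul_mem' := by
    intro a b ha hb y hy
    rw [rmul]
    exact h.near_trans hy (h.inv b y hy) (h.inv a _ (h.inv b y hy)) (hb y hy) (ha _ (h.inv b y hy))
  inv_mem' := by
    intro a ha y hy
    have h1 := ha _ (h.inv a⁻¹ y hy)
    rw [rinv'] at h1
    exact h.near_symm (h.inv a⁻¹ y hy) hy h1

theorem mem_pres {h : Sys ρ Om} {g : H} : g ∈ pres h ↔ ∀ y ∈ Om, Near ρ Om y (ρ g y) := Iff.rfl

theorem pres_normal (h : Sys ρ Om) : (pres h).Normal := by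
  refine ⟨fun g hg x y hy => ?_⟩
  have h1 := Near.conj h (hg _ (h.inv x⁻¹ y hy)) x
  rwa [rinv', ← rmul, ← rmul] at h1

/-- induced transvections fix all classes -/
theorem tv_pres (h : Sys ρ Om) {u : V} (hu : u ∈ Om) {κ : Dual (ZMod 2) V} (hκ : Fn ρ u κ) {g : H}
    (hg : ∀ x, ρ g x = x + κ x • u) : g ∈ pres h := by
  intro y hy
  rw [hg]
  rcases z2 (κ y) with e | e
  · rw [e, zero_smul, add_zero]
    exact h.near_refl hy
  · rw [e, one_smul]
    exact ⟨u, hu, h.symm hu hy ⟨κ, hκ, e⟩, κ, hκ, by rw [map_add, e, hκ.1, add_zero]⟩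

/-- `p` is the component of `v` in the class of `r` -/
structure IsPr (h : Sys ρ Om) (hc : Clo ρ Om) {r : V} (hr : r ∈ Om) (v p : V) : Prop where
  mem : p ∈ h.cls hc hr
  eq : ∀ u ∈ Om, Near ρ Om r u → ∀ κ, Fn ρ u κ → κ v = κ p

variable (h : Sys ρ Om) (hc : Clo ρ Om) {r : V} (hr : r ∈ Om)

include h in
theorem near_of_fn {u y : V} (hu : u ∈ Om) (hy : y ∈ Om) {κ : Dual (ZMod 2) V} (hκ : Fn ρ u κ) (e : κ y = 1) :
    Near ρ Om u y := h.near_of_adj hu hy ⟨κ, hκ, e⟩

theorem exists_pr (v : V) : ∃ p, IsPr h hc hr v p := by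
  have hv : v ∈ Submodule.span (ZMod 2) Om := by rw [h.span]; trivial
  induction hv using Submodule.span_induction with
  | mem x hx =>
    by_cases hn : Near ρ Om r x
    · exact ⟨x, Or.inr ⟨hx, hn⟩, fun _ _ _ _ _ => rfl⟩
    · refine ⟨0, Or.inl rfl, fun u hu hru κ hκ => ?_⟩
      rw [map_zero]
      exact z2_ne_one fun e => hn (h.near_trans hr hu hx hru (near_of_fn h hu hx hκ e))
  | zero => exact ⟨0, Or.inl rfl, fun _ _ _ _ _ => rfl⟩
  | add x y _ _ hx hy =>
    obtain ⟨p, hp⟩ := hx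
    obtain ⟨q, hq⟩ := hy
    exact ⟨p + q, add_mem hp.mem hq.mem, fun u hu hru κ hκ => by
      rw [map_add, map_add, hp.eq u hu hru κ hκ, hq.eq u hu hru κ hκ]⟩
  | smul a x _ hx =>
    obtain ⟨p, hp⟩ := hx
    exact ⟨a • p, Submodule.smul_mem _ _ hp.mem, fun u hu hru κ hκ => by
      rw [map_smul, map_smul, hp.eq u hu hru κ hκ]⟩

theorem eq_zero_of_cls {q : V} (hq : q ∈ h.cls hc hr)
    (h0 : ∀ u ∈ Om, Near ρ Om r u → ∀ κ, Fn ρ u κ → κ q = 0) : q = 0 := by
  rcases (h.mem_cls hc hr).1 hq with h1 | ⟨h1, h2⟩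
  · exact h1
  · exfalso
    obtain ⟨s, hs, ha⟩ := h.exists_adj h1
    obtain ⟨κ, hκ, e⟩ := h.symm h1 hs ha
    have h3 := h0 s hs (h.near_trans hr h1 hs h2 (h.near_of_adj h1 hs ha)) κ hκ
    rw [e] at h3
    exact one_ne_zero h3

variable {h hc hr}

theorem IsPr.uniq {v p p' : V} (hp : IsPr h hc hr v p) (hp' : IsPr h hc hr v p') : p = p' := by
  refine v_eq_of_add (eq_zero_of_cls h hc hr (add_mem hp.mem hp'.mem) fun u hu hru κ hκ => ?_)
  rw [map_add, ← hp.eq u hu hru κ hκ, ← hp'.eq u hu hru κ hκ]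
  exact z2_add_self _

theorem cls_pres {q : V} (hq : q ∈ h.cls hc hr) {g : H} (hg : g ∈ pres h) : ρ g q ∈ h.cls hc hr := by
  rcases (h.mem_cls hc hr).1 hq with rfl | ⟨h1, h2⟩
  · rw [map_zero]
    exact zero_mem _
  · exact Or.inr ⟨h.inv g q h1, h.near_trans hr h1 (h.inv g q h1) h2 (hg q h1)⟩

theorem IsPr.act {v p : V} (hp : IsPr h hc hr v p) {g : H} (hg : g ∈ pres h) : IsPr h hc hr (ρ g v) (ρ g p) := by
  refine ⟨cls_pres hp.mem hg, fun u hu hru κ hκ => ?_⟩
  have h1 := hκ.conj g⁻¹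
  rw [inv_inv] at h1
  have hg' : g⁻¹ ∈ pres h := inv_mem hg
  exact hp.eq (ρ g⁻¹ u) (h.inv g⁻¹ u hu) (h.near_trans hr hu (h.inv _ u hu) hru (hg' u hu)) _ h1

variable (h hc r)

/-- the elements fixing `c`, every class and every point outside the class of `r` -/
def jj (c : V) : Subgroup H where
  carrier := {g | ρ g c = c ∧ g ∈ pres h ∧ ∀ y ∈ Om, ¬ Near ρ Om r y → ρ g y = y}
  one_mem' := ⟨rone ρ c, one_mem _, fun y _ _ => rone ρ y⟩
  mul_mem' := by
    rintro a b ⟨a1, a2, a3⟩ ⟨b1, b2, b3⟩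
    refine ⟨by rw [rmul, b1, a1], mul_mem a2 b2, fun y hy hn => ?_⟩
    rw [rmul, b3 y hy hn, a3 y hy hn]
  inv_mem' := by
    rintro a ⟨a1, a2, a3⟩
    refine ⟨?_, inv_mem a2, fun y hy hn => ?_⟩
    · have := rinv ρ a c
      rwa [a1] at this
    · have := rinv ρ a y
      rwa [a3 y hy hn] at this

variable {h hc r}

theorem mem_jj {c : V} {g : H} :
    g ∈ jj h r c ↔ ρ g c = c ∧ g ∈ pres h ∧ ∀ y ∈ Om, ¬ Near ρ Om r y → ρ g y = y := Iff.rfl

theorem tv_mem_jj (hr : r ∈ Om) {c u : V} (hu : u ∈ Om) (hru : Near ρ Om r u) {κ : Dual (ZMod 2) V} (hκ : Fn ρ u κ) (h0 : κ c = 0)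
    {g : H} (hg : ∀ x, ρ g x = x + κ x • u) : g ∈ jj h r c := by
  refine ⟨by rw [hg, h0, zero_smul, add_zero], tv_pres h hu hκ hg, fun y hy hn => ?_⟩
  have h1 : κ y = 0 := z2_ne_one fun e => hn (h.near_trans hr hu hy hru (near_of_fn h hu hy hκ e))
  rw [hg, h1, zero_smul, add_zero]

/-- **LEMMA K** -/
theorem exists_jj {c x p q : V} (hp : IsPr h hc hr c p) (hp0 : p ≠ 0) (hq : IsPr h hc hr x q) (hq0 : q ≠ 0)
    (hqp : q ≠ p) : ∃ g ∈ jj h r c, ρ g x = x + p := by
  obtain ⟨hpO, hrp⟩ := ((h.mem_cls hc hr).1 hp.mem).resolve_left hp0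
  obtain ⟨hqO, hrq⟩ := ((h.mem_cls hc hr).1 hq.mem).resolve_left hq0
  have hpq : Near ρ Om p q := h.near_trans hpO hr hqO (h.near_symm hr hpO hrp) hrq
  rcases h.small_or_big with hs | hb
  · obtain ⟨f, hf⟩ := h.exists_form hs
    -- the transvection with centre `u`
    have tv : ∀ u ∈ Om, ∃ g : H, ∀ x, ρ g x = x + f u x • u := fun u hu => (hf.fn u hu).2
    rcases z2 (f p q) with e | e
    · -- `u`
      have hex : ∃ u ∈ Om, Near ρ Om r u ∧ f u p = 0 ∧ f u q = 1 := by
        obtain ⟨hm, hn⟩ := hc q hqO p hpO (h.near_symm hpO hqO hpq) hqp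
        obtain ⟨s, hs1, ha⟩ := h.exists_adj hm
        have hrm := h.near_trans hr hqO hm hrq hn
        have hrs := h.near_trans hr hm hs1 hrm (h.near_of_adj hm hs1 ha)
        have h1 := (hf.adj_iff hs1).1 (h.symm hm hs1 ha)
        rw [map_add] at h1
        rcases z2 (f s q) with a | a
        · rw [a, zero_add] at h1
          obtain ⟨s', hs', ha'⟩ := h.exists_adj hqO
          have h2 := (hf.adj_iff hs').1 (h.symm hqO hs' ha')
          have hrs' := h.near_trans hr hqO hs' hrq (h.near_of_adj hqO hs' ha')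
          rcases z2 (f s' p) with b | b
          · exact ⟨s', hs', hrs', b, h2⟩
          · have hne : s ≠ s' := by
              rintro rfl
              rw [h2] at a
              exact one_ne_zero a
            obtain ⟨hm2, hn2⟩ := hc s hs1 s' hs' (h.near_trans hs1 hr hs' (h.near_symm hr hs1 hrs) hrs') hne
            refine ⟨s + s', hm2, h.near_trans hr hs1 hm2 hrs hn2, ?_, ?_⟩
            · rw [map_add, LinearMap.add_apply, h1, b]
              exact z2_add_self 1
            · rw [map_add, LinearMap.add_apply, a, h2, zero_add]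
        · rw [a] at h1
          refine ⟨s, hs1, hrs, ?_, a⟩
          have h2 := congrArg (fun t => 1 + t) h1
          simp only [← add_assoc] at h2
          rw [z2_add_self, zero_add] at h2
          exact h2
      obtain ⟨u, hu, hru, u1, u2⟩ := hex
      have hne : u ≠ p := by
        rintro rfl
        rw [u2] at e
        exact one_ne_zero e
      obtain ⟨hm, hn⟩ := hc u hu p hpO (h.near_trans hu hr hpO (h.near_symm hr hu hru) hrp) hne
      obtain ⟨g₁, hg₁⟩ := tv u hu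
      obtain ⟨g₂, hg₂⟩ := tv (u + p) hm
      have hfx : ∀ y ∈ Om, Near ρ Om r y → f y x = f y q := fun y hy hry => hq.eq y hy hry _ (hf.fn y hy)
      have hfc : ∀ y ∈ Om, Near ρ Om r y → f y c = f y p := fun y hy hry => hp.eq y hy hry _ (hf.fn y hy)
      have e1 : f u x = 1 := by rw [hfx u hu hru, u2]
      have e2 : f p x = 0 := by rw [hfx p hpO hrp, e]
      have m1 : g₁ ∈ jj h r c := tv_mem_jj hr hu hru (hf.fn u hu) (by rw [hfc u hu hru, u1]) hg₁
      have hrm := h.near_trans hr hu hm hru hn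
      have m2 : g₂ ∈ jj h r c := tv_mem_jj hr hm hrm (hf.fn _ hm)
        (by rw [hfc _ hm hrm, map_add, LinearMap.add_apply, u1, hf.alt, add_zero]) hg₂
      refine ⟨g₂ * g₁, mul_mem m2 m1, ?_⟩
      have e3 : f (u + p) (x + u) = 1 := by
        simp only [map_add, LinearMap.add_apply, e1, e2, hf.alt, hf.comm p u, u1, add_zero]
      rw [rmul, hg₁, e1, one_smul, hg₂, e3, one_smul]
      have e4 : x + u + (u + p) = x + p + (u + u) := by abel
      rw [e4, v_add_self, add_zero]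
    · obtain ⟨g, hg⟩ := tv p hpO
      refine ⟨g, tv_mem_jj hr hpO hrp (hf.fn p hpO) ?_ hg, ?_⟩
      · rw [hp.eq p hpO hrp _ (hf.fn p hpO), hf.alt]
      · rw [hg, hq.eq p hpO hrp _ (hf.fn p hpO), e, one_smul]
  · obtain ⟨κ, hκ, e⟩ := h.adj_of_near hb hpO hqO (Ne.symm hqp) hpq
    obtain ⟨-, g, hg⟩ := id hκ
    refine ⟨g, tv_mem_jj hr hpO hrp hκ ?_ hg, ?_⟩
    · rw [hp.eq p hpO hrp κ hκ, hκ.1]
    · rw [hg, hq.eq p hpO hrp κ hκ, e, one_smul]

/-- **CLAIM W** -/
theorem claimW [Finite H] {T : Subgroup H} (hodd : ¬ 2 ∣ T.index) {c w : V}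
    (hTc : ∀ t ∈ T, ρ t c = c) (hTw : ∀ t ∈ T, ρ t w = w) {p q : V} (hp : IsPr h hc hr c p) (hp0 : p ≠ 0)
    (hq : IsPr h hc hr w q) : q = 0 ∨ q = p := by
  classical
  by_contra hcon
  push Not at hcon
  obtain ⟨hq0, hqp⟩ := hcon
  -- the subgroups
  set M : Subgroup H := stV ρ c with hMdef
  have hTM : T ≤ M := hTc
  have hM : ¬ 2 ∣ T.relIndex M := fun hd => hodd (hd.trans (Subgroup.relIndex_dvd_index_of_le hTM))
  have hn := pres_normal h
  set J' : Subgroup H := M ⊓ pres h with hJ'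
  have hJM : M ≤ normalizer (J' : Set H) := by
    intro m (hm : m ∈ M)
    rw [mem_normalizer_iff]
    intro x
    constructor
    · rintro ⟨h1, h2⟩
      exact ⟨M.mul_mem (M.mul_mem hm h1) (M.inv_mem hm), hn.conj_mem x h2 m⟩
    · rintro ⟨h1, h2⟩
      have h3 := M.mul_mem (M.mul_mem (M.inv_mem hm) h1) hm
      have h4 := hn.conj_mem _ h2 m⁻¹
      have e1 : m⁻¹ * (m * x * m⁻¹) * m = x := by group
      have e2 : m⁻¹ * (m * x * m⁻¹) * m⁻¹⁻¹ = x := by group
      rw [e1] at h3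
      rw [e2] at h4
      exact ⟨h3, h4⟩
  have h1 := NO3b.UMethod.not_dvd_inf hTM hM (inf_le_left : J' ≤ M) hJM
  set J : Subgroup H := jj h r c with hJ
  have hJJ : J ≤ J' := fun g hg => ⟨hg.1, hg.2.1⟩
  have hJn : J' ≤ normalizer (J : Set H) := by
    have key : ∀ g ∈ J', ∀ x ∈ J, g * x * g⁻¹ ∈ J := by
      rintro g ⟨g1, g2⟩ x ⟨x1, x2, x3⟩
      refine ⟨?_, hn.conj_mem x x2 g, fun y hy hny => ?_⟩
      · have g3 : ρ g⁻¹ c = c := M.inv_mem g1
        rw [rmul, rmul, g3, x1]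
        exact g1
      · have g3 : g⁻¹ ∈ pres h := inv_mem g2
        have h4 : ¬ Near ρ Om r (ρ g⁻¹ y) := fun h5 =>
          hny (h.near_trans hr (h.inv _ y hy) hy h5 (h.near_symm hy (h.inv _ y hy) (g3 y hy)))
        rw [rmul, rmul, x3 _ (h.inv _ y hy) h4, rinv']
    intro g (hg : g ∈ J')
    rw [mem_normalizer_iff]
    intro x
    refine ⟨fun hx => key g hg x hx, fun hx => ?_⟩
    have h4 := key g⁻¹ (inv_mem hg) _ hx
    have e2 : g⁻¹ * (g * x * g⁻¹) * g⁻¹⁻¹ = x := by group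
    rwa [e2] at h4
  have h2 := NO3b.UMethod.not_dvd_inf (inf_le_left : J' ⊓ T ≤ J') h1 hJJ hJn
  -- the orbit of `w` under `J`
  have := Fintype.ofFinite V
  let A : Finset V := Finset.univ.filter fun u => ∃ g ∈ J, ρ g w = u
  have hA : ∀ u, u ∈ A ↔ ∃ g ∈ J, ρ g w = u := fun u => by simp [A]
  have hcard : ¬ 2 ∣ A.card := by
    let _act : MulAction J V :=
      { smul := fun e u => ρ (e : H) u
        one_smul := fun u => by
          show ρ ((1 : J) : H) u = u
          rw [Subgroup.coe_one, rone]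
        mul_smul := fun e f u => by
          show ρ ((e * f : J) : H) u = ρ (e : H) (ρ (f : H) u)
          rw [Subgroup.coe_mul, rmul] }
    have h3 := MulAction.index_stabilizer J w
    have h4 : (MulAction.orbit J w).ncard = A.card := by
      have : MulAction.orbit J w = (A : Set V) := by
        ext u
        rw [Finset.mem_coe, hA]
        constructor
        · rintro ⟨e, rfl⟩
          exact ⟨e, e.2, rfl⟩
        · rintro ⟨e, he, rfl⟩
          exact ⟨⟨e, he⟩, rfl⟩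
      rw [this, Set.ncard_coe_finset]
    rw [← h4, ← h3]
    intro hdvd
    apply h2
    have h5 : (J ⊓ (J' ⊓ T)).subgroupOf J ≤ MulAction.stabilizer J w := fun t ht => hTw _ ht.2.2
    exact hdvd.trans (Subgroup.index_dvd_of_le h5)
  apply hcard
  -- `x ↦ x + p`
  have hmem : ∀ x ∈ A, x + p ∈ A := by
    intro x hx
    obtain ⟨g, hg, rfl⟩ := (hA x).1 hx
    have hgp : ρ g p = p := by
      have h5 := hp.act (g := g) hg.2.1
      rw [hg.1] at h5
      exact h5.uniq hp
    have h6 := hq.act (g := g) hg.2.1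
    obtain ⟨g', hg', e⟩ := exists_jj hp hp0 h6
      (fun e0 => hq0 ((ρ g).map_eq_zero_iff.1 e0))
      (fun e0 => hqp ((ρ g).injective (e0.trans hgp.symm)))
    exact (hA _).2 ⟨g' * g, mul_mem hg' hg, by rw [rmul, e]⟩
  have h7 : (A.card : ZMod 2) = 0 := by
    have h8 : ∑ x ∈ A, (1 : ZMod 2) = 0 := by
      refine Finset.sum_involution (fun x _ => x + p) (fun _ _ => z2_add_self 1) (fun x _ _ e0 => ?_)
        (fun x hx => hmem x hx) (fun x _ => add_add_self x p)
      exact hp0 (by simpa using e0)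
    rwa [Finset.sum_const, nsmul_eq_mul, mul_one] at h8
  exact (ZMod.natCast_eq_zero_iff _ _).1 h7

end Cfsg.Agent.Omega.NO3S.EMany.Tv
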