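import Cfsg.Agent.Omega.NO3S.EMany.TvA

/-!
# NO-3S, case (E), `k ≥ 3`, `q = 2`, the transvection case of (ALPHA), II: closed classes

* `VL` : the setting on `V = N / Y` (bb #19631): `t` a transvection in `Q = O₂(C_X(c))` with centre `r`, the line
  `{c, c', c + c'}`, `z j`, `v j`, the best offenders `A j` and the elements `l j` of the blocks `L_j`;
* `VL.no_clo` : the classes of points together with `0` are not subspaces.
-/

set_option autoImplicit false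

namespace Cfsg.Agent.Omega.NO3S.EMany.Tv

open Module Subgroup Cfsg.Agent.Omega.TV Cfsg.Agent.Omega.TV.Sys

variable {H : Type*} [Group H] {V : Type*} [AddCommGroup V] [Module (ZMod 2) V]
  {ρ : H →* (V ≃ₗ[ZMod 2] V)} {Om : Set V}

/-- a hyperplane over a proper subgroup of an elementary abelian group -/
theorem exists_hyper [Finite H] {A A' : Subgroup H} (hA : A' ≤ A) (hc : ∀ a ∈ A, ∀ b ∈ A, a * b = b * a)
    (h2 : ∀ a ∈ A, a * a = 1) {a : H} (ha : a ∈ A) (ha' : a ∉ A') :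
    ∃ B : Subgroup H, A' ≤ B ∧ B ≤ A ∧ a ∉ B ∧ ∀ x ∈ A, x ∈ B ∨ a * x ∈ B := by
  obtain ⟨B, hB⟩ := (Set.toFinite {B : Subgroup H | A' ≤ B ∧ B ≤ A ∧ a ∉ B}).exists_maximal ⟨A', le_rfl, hA, ha'⟩
  obtain ⟨⟨h1, h3, h4⟩, hmax⟩ := hB
  refine ⟨B, h1, h3, h4, fun x hx => ?_⟩
  by_contra hcon
  push Not at hcon
  obtain ⟨hx1, hx2⟩ := hcon
  let C : Subgroup H :=
    { carrier := {y | y ∈ B ∨ (y ∈ A ∧ x * y ∈ B)}
      one_mem' := Or.inl (one_mem _)
      mul_mem' := by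
        rintro y y' (hy | ⟨hy, hy2⟩) (hy' | ⟨hy', hy2'⟩)
        · exact Or.inl (B.mul_mem hy hy')
        · refine Or.inr ⟨A.mul_mem (h3 hy) hy', ?_⟩
          rw [← mul_assoc, hc x hx y (h3 hy), mul_assoc]
          exact B.mul_mem hy hy2'
        · refine Or.inr ⟨A.mul_mem hy (h3 hy'), ?_⟩
          rw [← mul_assoc]
          exact B.mul_mem hy2 hy'
        · refine Or.inl ?_
          have e : y * y' = (x * y) * (x * y') := by
            rw [hc x hx y hy, mul_assoc, ← mul_assoc x x, h2 x hx, one_mul]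
          rw [e]
          exact B.mul_mem hy2 hy2'
      inv_mem' := by
        rintro y (hy | ⟨hy, hy2⟩)
        · exact Or.inl (B.inv_mem hy)
        · refine Or.inr ⟨A.inv_mem hy, ?_⟩
          have e : y⁻¹ = y := inv_eq_of_mul_eq_one_left (h2 y hy)
          rw [e]
          exact hy2 }
  have hBC : B ≤ C := fun y hy => Or.inl hy
  have hxC : x ∈ C := Or.inr ⟨hx, by rw [h2 x hx]; exact one_mem _⟩
  have hCA : C ≤ A := by
    rintro y (hy | ⟨hy, -⟩)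
    · exact h3 hy
    · exact hy
  have h5 : a ∈ C := by
    by_contra h5
    exact hx1 (hmax ⟨h1.trans hBC, hCA, h5⟩ hBC hxC)
  rcases h5 with h5 | ⟨-, h5⟩
  · exact h4 h5
  · apply hx2
    rw [hc a ha x hx]
    exact h5

/-- an element of a 2-group has no 3-cycle -/
theorem no_three {S : Subgroup H} (hS : IsPGroup 2 S) {g : H} (hg : g ∈ S) {x : V} (h3 : ρ g (ρ g (ρ g x)) = x) :
    ρ g x = x := by
  obtain ⟨n, hn⟩ := hS ⟨g, hg⟩
  have hn' : g ^ 2 ^ n = 1 := by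
    have := congrArg Subtype.val hn
    simpa using this
  have hK : g ^ 3 ∈ stV ρ x := by
    rw [mem_stV, pow_succ, pow_two, rmul, rmul, h3]
  have key : ∀ n : ℕ, ∃ k, 2 ^ n = 3 * k + 1 ∨ 2 ^ n = 3 * k + 2 := by
    intro n
    induction n with
    | zero => exact ⟨0, Or.inl rfl⟩
    | succ n ih =>
      obtain ⟨k, hk | hk⟩ := ih
      · exact ⟨2 * k, Or.inr (by rw [pow_succ]; omega)⟩
      · exact ⟨2 * k + 1, Or.inl (by rw [pow_succ]; omega)⟩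
  obtain ⟨k, hk⟩ := key n
  have h1 : g ^ (3 * k) ∈ stV ρ x := by
    rw [pow_mul]
    exact pow_mem hK k
  have h2 : g ^ 2 ^ n ∈ stV ρ x := by
    rw [hn']
    exact one_mem _
  have h4 : g ∈ stV ρ x := by
    rcases hk with hk | hk
    · rw [hk, pow_succ] at h2
      exact (Subgroup.mul_mem_cancel_left _ h1).1 h2
    · rw [hk, pow_add] at h2
      have h5 := (Subgroup.mul_mem_cancel_left _ h1).1 h2
      have h6 : g ^ 2 * g ∈ stV ρ x := by
        rw [← pow_succ]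
        exact hK
      exact (Subgroup.mul_mem_cancel_left _ h5).1 h6
  exact h4

section pr

variable [Finite V] {h : Sys ρ Om} {hc : Clo ρ Om} {r : V} {hr : r ∈ Om}

theorem IsPr.conj {v p : V} (hp : IsPr h hc hr v p) (m : H) : IsPr h hc (h.inv m r hr) (ρ m v) (ρ m p) := by
  refine ⟨?_, fun u hu hru κ hκ => ?_⟩
  · rcases (h.mem_cls hc hr).1 hp.mem with rfl | ⟨h1, h2⟩
    · rw [map_zero]
      exact zero_mem _
    · exact Or.inr ⟨h.inv m p h1, Near.conj h h2 m⟩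
  · have h1 := hκ.conj m⁻¹
    rw [inv_inv] at h1
    have h2 := Near.conj h hru m⁻¹
    rw [rinv] at h2
    exact hp.eq (ρ m⁻¹ u) (h.inv m⁻¹ u hu) h2 _ h1

theorem IsPr.near {s v p : V} (hs : s ∈ Om) (hn : Near ρ Om r s) (hp : IsPr h hc hr v p) : IsPr h hc hs v p := by
  refine ⟨?_, fun u hu hsu κ hκ => hp.eq u hu (h.near_trans hr hs hu hn hsu) κ hκ⟩
  rcases (h.mem_cls hc hr).1 hp.mem with h1 | ⟨h1, h2⟩
  · exact Or.inl h1
  · exact Or.inr ⟨h1, h.near_trans hs hr h1 (h.near_symm hr hs hn) h2⟩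

theorem IsPr.add {v v' p p' : V} (hp : IsPr h hc hr v p) (hp' : IsPr h hc hr v' p') :
    IsPr h hc hr (v + v') (p + p') :=
  ⟨add_mem hp.mem hp'.mem, fun u hu hru κ hκ => by
    rw [map_add, map_add, hp.eq u hu hru κ hκ, hp'.eq u hu hru κ hκ]⟩

variable (h hc) in
theorem eq_of_pr (hrad : Sys.rad ρ Om = ⊥) {v v' : V}
    (hp : ∀ s (hs : s ∈ Om), ∃ p, IsPr h hc hs v p ∧ IsPr h hc hs v' p) : v = v' := by
  refine v_eq_of_add ?_
  have h1 : v + v' ∈ Sys.rad ρ Om := by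
    intro s hs κ hκ
    obtain ⟨p, hp1, hp2⟩ := hp s hs
    rw [map_add, hp1.eq s hs (h.near_refl hs) κ hκ, hp2.eq s hs (h.near_refl hs) κ hκ]
    exact z2_add_self _
  rw [hrad] at h1
  exact h1

end pr

/-- **The setting** (bb #19631) on `V = N / Y`. -/
structure VL (ρ : H →* (V ≃ₗ[ZMod 2] V)) (Om : Set V) (T Q B : Subgroup H) (c c' : V) (t : H) (r : V)
    (φ : Dual (ZMod 2) V) {J : Type*} (z v : J → V) (A : J → Subgroup H) (l : J → H) : Prop where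
  inj : Function.Injective ρ
  sys : Sys ρ Om
  rad0 : Sys.rad ρ Om = ⊥
  two : IsPGroup 2 T
  odd : ¬ 2 ∣ T.index
  c0 : c ≠ 0
  fixc : ∀ t ∈ T, ρ t c = c
  fixc' : ∀ t ∈ T, ρ t c' = c' ∨ ρ t c' = c + c'
  QT : Q ≤ T
  nQ : ∀ x, ρ x c = c → ∀ q ∈ Q, x * q * x⁻¹ ∈ Q
  oc : ∃ g, ρ g c = c'
  oc' : ∃ g, ρ g c = c + c'
  /-- `X = R C_X(c)` for every normal subgroup `R` which moves `c` -/
  RM : ∀ R : Subgroup H, R.Normal → (∃ r ∈ R, ρ r c ≠ c) → ∀ x, ∃ r ∈ R, ∃ m, ρ m c = c ∧ x = r * m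
  tQ : t ∈ Q
  rO : r ∈ Om
  f0 : φ ≠ 0
  fr : φ r = 0
  tr : ∀ x, ρ t x = x + φ x • r
  BT : B ≤ T
  zB : ∀ j, ∀ b ∈ B, ρ b (z j) = z j
  vB : ∀ j, ∀ b ∈ B, ρ b (v j) = v j ∨ ρ b (v j) = v j + z j
  AB : ∀ j, A j ≤ B
  Asq : ∀ j, ∀ a ∈ A j, a * a = 1
  Acomm : ∀ j, ∀ a ∈ A j, ∀ b ∈ A j, a * b = b * a
  Ac' : ∀ j, ∀ a ∈ A j, ρ a c' = c'
  Av : ∀ j, ∃ a ∈ A j, ρ a (v j) ≠ v j
  lc : ∀ j, ρ (l j) c = c
  lc' : ∀ j, ρ (l j) c' = c'
  lz : ∀ j, ρ (l j) (z j) = v j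
  lz' : ∀ j i, i ≠ j → ρ (l j) (z i) = z i
  /-- `|C(B) : C(A)| ≤ 2` for hyperplanes `B` -/
  off : ∀ j, ∀ a ∈ A j, ∀ B' ≤ A j, a ∉ B' → (∀ x ∈ A j, x ∈ B' ∨ a * x ∈ B') → ∀ S S' : Finset V,
    (∀ s ∈ S, s ∈ Om) → (∀ s ∈ S', s ∈ Om) → (∀ b ∈ B', ∀ s ∈ S, ρ b s ∈ S) → (∀ b ∈ B', ∀ s ∈ S', ρ b s ∈ S') →
    ρ a (∑ s ∈ S, s) = ∑ s ∈ S, s ∨ ρ a (∑ s ∈ S', s) = ∑ s ∈ S', s ∨
      ρ a (∑ s ∈ S, s + ∑ s ∈ S', s) = ∑ s ∈ S, s + ∑ s ∈ S', s
  /-- `C(B) = C(A)` for hyperplanes `B` moving `v` -/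
  min : ∀ j, ∀ a ∈ A j, ∀ B' ≤ A j, a ∉ B' → (∀ x ∈ A j, x ∈ B' ∨ a * x ∈ B') → (∃ b ∈ B', ρ b (v j) ≠ v j) →
    ∀ S : Finset V, (∀ s ∈ S, s ∈ Om) → (∀ b ∈ B', ∀ s ∈ S, ρ b s ∈ S) → ρ a (∑ s ∈ S, s) = ∑ s ∈ S, s
  /-- conjugates of `t` which centralise `Z_J` and `B` lie in `B` -/
  dz : ∀ x, ρ (x * t * x⁻¹) c = c → (∀ j, ρ (x * t * x⁻¹) (z j) = z j) →
    (∀ b ∈ B, b * (x * t * x⁻¹) = x * t * x⁻¹ * b) →
    ρ (x * t * x⁻¹) c' = c' ∨ ρ (x * t * x⁻¹) c' = c + c'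

namespace VL

variable [Finite V] {T Q B : Subgroup H} {c c' : V} {t : H} {r : V} {φ : Dual (ZMod 2) V} {J : Type*} {z v : J → V}
  {A : J → Subgroup H} {l : J → H} (h : VL ρ Om T Q B c c' t r φ z v A l)

include h

/-- `pres` moves `c` -/
theorem pres_moves : ∃ g ∈ pres h.sys, ρ g c ≠ c := by
  by_contra hcon
  push Not at hcon
  apply h.c0
  have h1 : c ∈ Sys.rad ρ Om := by
    intro s hs κ hκ
    obtain ⟨g, hg⟩ := hκ.2
    have h2 := hcon g (tv_pres h.sys hs hκ hg)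
    rw [hg] at h2
    have h3 : κ c • s = 0 := by simpa using h2
    rcases smul_eq_zero.1 h3 with h4 | h4
    · exact h4
    · exact absurd h4 (h.sys.ne_zero hs)
  rw [h.rad0] at h1
  exact h1

omit [Finite V] in
/-- a neighbour `u` of `r` does not have all its functionals killing `c` -/
theorem adj_c {u : V} (hu : u ∈ Om) {κ : Dual (ZMod 2) V} (hκ : Fn ρ u κ) (e : κ r = 1) (e' : φ u = 1) :
    κ c = 1 := by
  refine z2_ne_zero fun h0 => ?_
  obtain ⟨hu0, g, hg⟩ := hκ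
  have hgc : ρ g c = c := by rw [hg, h0, zero_smul, add_zero]
  have h1 := h.nQ g hgc t h.tQ
  have hgi : ∀ x, ρ g⁻¹ x = x + κ x • u := by
    intro x
    apply (ρ g).injective
    rw [rinv', map_add, map_smul, hg, hg u, hu0, zero_smul, add_zero, add_add_self]
  have h3 : ∀ x, ρ (g * t * g⁻¹) x = x + (φ x + κ x) • (r + u) := by
    intro x
    have e1 : φ (x + κ x • u) = φ x + κ x := by rw [map_add, map_smul, e', smul_eq_mul, mul_one]
    rw [rmul, rmul, h.tr, map_add, map_smul, rinv', hgi x, e1, hg r, e, one_smul]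
  have h4 : t * (g * t * g⁻¹) ∈ Q := Q.mul_mem h.tQ h1
  have hQ : IsPGroup 2 Q := h.two.to_le h.QT
  have a1 : ρ (t * (g * t * g⁻¹)) r = r + u := by
    rw [rmul, h3, h.fr, e, zero_add, one_smul, self_add_add, h.tr, e', one_smul, add_comm]
  have a2 : ρ (t * (g * t * g⁻¹)) (r + u) = u := by
    have e2 : φ (r + u) + κ (r + u) = 0 := by
      rw [map_add, map_add, h.fr, e, e', hu0]
      decide
    rw [rmul, h3, e2, zero_smul, add_zero, h.tr, map_add, h.fr, e', zero_add, one_smul, add_comm r u, add_add_self]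
  have a3 : ρ (t * (g * t * g⁻¹)) u = r := by
    rw [rmul, h3, e', hu0, add_zero, one_smul, add_comm r u, self_add_add, h.tr, h.fr, zero_smul, add_zero]
  have h5 := no_three (ρ := ρ) hQ h4 (x := r) (by rw [a1, a2, a3])
  rw [a1] at h5
  exact h.sys.ne_zero hu (by simpa using h5)

/-- the stabiliser of a class -/
def stc (h : Sys ρ Om) {s : V} (hs : s ∈ Om) : Subgroup H where
  carrier := {g | Near ρ Om s (ρ g s)}
  one_mem' := by
    show Near ρ Om s (ρ 1 s)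
    rw [rone]
    exact h.near_refl hs
  mul_mem' := by
    intro a b (ha : Near ρ Om s (ρ a s)) (hb : Near ρ Om s (ρ b s))
    show Near ρ Om s (ρ (a * b) s)
    rw [rmul]
    exact h.near_trans hs (h.inv a s hs) (h.inv a _ (h.inv b s hs)) ha (Near.conj h hb a)
  inv_mem' := by
    intro a (ha : Near ρ Om s (ρ a s))
    show Near ρ Om s (ρ a⁻¹ s)
    have h1 := Near.conj h ha a⁻¹
    rw [rinv] at h1
    exact h.near_symm (h.inv _ s hs) hs h1

omit h in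
theorem mem_stc {h : Sys ρ Om} {s : V} {hs : s ∈ Om} {g : H} : g ∈ stc h hs ↔ Near ρ Om s (ρ g s) := Iff.rfl

/-- the sum over an orbit meeting every class at most once -/
theorem sum_orb {s : V} (hs : s ∈ Om) {j : J} {a : H} (ha : a ∈ A j) {B' : Subgroup H} (hBA : B' ≤ A j)
    (haB : a ∉ B') (hB : A j ⊓ stc h.sys hs ≤ B') {p : V} (hp : p ∈ Om) (hsp : Near ρ Om s p)
    (hfix : ∀ b ∈ A j, b ∈ stc h.sys hs → ρ b p = p) {S : Finset V} (hS : ∀ x, x ∈ S ↔ ∃ b ∈ B', ρ b p = x)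
    {u : V} (hu : u ∈ Om) (hsu : Near ρ Om s u) {κ : Dual (ZMod 2) V} (hκ : Fn ρ u κ) :
    κ (∑ x ∈ S, x) = κ p ∧ κ (ρ a (∑ x ∈ S, x)) = 0 := by
  classical
  have hy := h.sys
  have key : ∀ g, κ (ρ g p) = 1 → g ∈ stc h.sys hs := by
    intro g e
    have h1 : Near ρ Om u (ρ g p) := near_of_fn h.sys hu (hy.inv g p hp) hκ e
    have h2 : Near ρ Om s (ρ g p) := hy.near_trans hs hu (hy.inv g p hp) hsu h1
    have h3 : Near ρ Om (ρ g s) (ρ g p) := Near.conj hy hsp g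
    exact hy.near_trans hs (hy.inv g p hp) (hy.inv g s hs) h2 (hy.near_symm (hy.inv g s hs) (hy.inv g p hp) h3)
  constructor
  · rw [map_sum]
    refine (Finset.sum_eq_single p ?_ ?_)
    · intro x hx hne
      obtain ⟨b, hb, rfl⟩ := (hS x).1 hx
      exact z2_ne_one fun e => hne (hfix b (hBA hb) (key b e))
    · intro hn
      exact absurd ((hS p).2 ⟨1, one_mem _, rone ρ p⟩) hn
  · rw [map_sum, map_sum]
    refine Finset.sum_eq_zero fun x hx => ?_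
    obtain ⟨b, hb, rfl⟩ := (hS x).1 hx
    refine z2_ne_one fun e => haB ?_
    rw [← rmul] at e
    have h1 : a * b ∈ B' := hB ⟨(A j).mul_mem ha (hBA hb), key _ e⟩
    exact (Subgroup.mul_mem_cancel_right _ hb).1 h1

section clo

variable (hc : Clo ρ Om)

include hc

/-- the component of `c` in the class of `r` -/
theorem pr_r : ∃ p, IsPr h.sys hc h.rO c p ∧ p ≠ 0 := by
  obtain ⟨p, hp⟩ := exists_pr h.sys hc h.rO c
  refine ⟨p, hp, ?_⟩
  rintro rfl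
  obtain ⟨u, hu, hu1⟩ := h.sys.exists_one h.f0
  have hφ : Fn ρ r φ := ⟨h.fr, t, h.tr⟩
  obtain ⟨κ, hκ, e⟩ := h.sys.symm h.rO hu ⟨φ, hφ, hu1⟩
  have h1 := h.adj_c hu hκ e hu1
  rw [hp.eq u hu (h.sys.near_of_adj h.rO hu ⟨φ, hφ, hu1⟩) κ hκ, map_zero] at h1
  exact zero_ne_one h1

/-- all components of `c` are different from `0` -/
theorem pr_c {s : V} (hs : s ∈ Om) : ∃ p, IsPr h.sys hc hs c p ∧ p ≠ 0 := by
  obtain ⟨g, hg⟩ := h.sys.trans r h.rO s hs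
  obtain ⟨q, hq, m, hm, rfl⟩ := h.RM (pres h.sys) (pres_normal h.sys) h.pres_moves g
  obtain ⟨p, hp, hp0⟩ := h.pr_r hc
  have h1 := hp.conj m
  rw [hm] at h1
  rw [rmul] at hg
  have h2 : Near ρ Om (ρ m r) s := by
    rw [← hg]
    exact hq _ (h.sys.inv m r h.rO)
  exact ⟨ρ m p, h1.near hs h2, fun e => hp0 ((ρ m).map_eq_zero_iff.1 e)⟩

/-- the same for all images of `c` -/
theorem pr_of {x : V} (hx : ∃ g, ρ g c = x) {s : V} (hs : s ∈ Om) : ∃ p, IsPr h.sys hc hs x p ∧ p ≠ 0 := by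
  obtain ⟨g, rfl⟩ := hx
  obtain ⟨q, hq, m, hm, rfl⟩ := h.RM (pres h.sys) (pres_normal h.sys) h.pres_moves g
  obtain ⟨p, hp, hp0⟩ := h.pr_c hc hs
  refine ⟨ρ q p, ?_, fun e => hp0 ((ρ q).map_eq_zero_iff.1 e)⟩
  rw [rmul, hm]
  exact hp.act hq

/-- **OFFENDERS DO NOT MOVE CLASSES** -/
theorem A_pres [Finite H] {j : J} {a : H} (ha : a ∈ A j) : a ∈ pres h.sys := by
  classical
  have := Fintype.ofFinite V
  intro s hs
  by_contra hn
  have hAT : A j ≤ T := (h.AB j).trans h.BT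
  obtain ⟨B', h1, h2, h3, h4⟩ := exists_hyper (A := A j) (A' := A j ⊓ stc h.sys hs) inf_le_left (h.Acomm j) (h.Asq j) ha
    (fun h5 => hn h5.2)
  -- fixed points of the class stabiliser
  have hfix : ∀ {x p : V}, (∀ b ∈ A j, ρ b x = x) → IsPr h.sys hc hs x p → ∀ b ∈ A j, b ∈ stc h.sys hs → ρ b p = p := by
    intro x p hx hp b hb hbs
    have h5 := hp.conj b
    rw [hx b hb] at h5
    exact (h5.near hs (h.sys.near_symm hs (h.sys.inv b s hs) hbs)).uniq hp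
  have hsub : ∀ {x p : V}, IsPr h.sys hc hs x p → p ≠ 0 → p ∈ Om ∧ Near ρ Om s p := fun hp hp0 =>
    ((h.sys.mem_cls hc hs).1 hp.mem).resolve_left hp0
  obtain ⟨p, hp, hp0⟩ := h.pr_c hc hs
  obtain ⟨p', hp', hp0'⟩ := h.pr_of hc h.oc hs
  obtain ⟨p'', hp'', hp0''⟩ := h.pr_of hc h.oc' hs
  obtain rfl : p'' = p + p' := hp''.uniq (hp.add hp')
  obtain ⟨m1, m2⟩ := hsub hp hp0
  obtain ⟨m1', m2'⟩ := hsub hp' hp0'
  let S : Finset V := Finset.univ.filter fun x => ∃ b ∈ B', ρ b p = x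
  let S' : Finset V := Finset.univ.filter fun x => ∃ b ∈ B', ρ b p' = x
  have hS : ∀ x, x ∈ S ↔ ∃ b ∈ B', ρ b p = x := fun x => by simp [S]
  have hS' : ∀ x, x ∈ S' ↔ ∃ b ∈ B', ρ b p' = x := fun x => by simp [S']
  have k1 := fun {u : V} (hu : u ∈ Om) (hsu : Near ρ Om s u) {κ : Dual (ZMod 2) V} (hκ : Fn ρ u κ) =>
    h.sum_orb hs ha h2 h3 h1 m1 m2 (hfix (fun b hb => h.fixc b (hAT hb)) hp) hS hu hsu hκ
  have k2 := fun {u : V} (hu : u ∈ Om) (hsu : Near ρ Om s u) {κ : Dual (ZMod 2) V} (hκ : Fn ρ u κ) =>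
    h.sum_orb hs ha h2 h3 h1 m1' m2' (hfix (h.Ac' j) hp') hS' hu hsu hκ
  rcases h.off j a ha B' h2 h3 h4 S S' (fun x hx => by
      obtain ⟨b, -, rfl⟩ := (hS x).1 hx
      exact h.sys.inv b p m1) (fun x hx => by
      obtain ⟨b, -, rfl⟩ := (hS' x).1 hx
      exact h.sys.inv b p' m1') (fun b hb x hx => by
      obtain ⟨b', hb', rfl⟩ := (hS x).1 hx
      exact (hS _).2 ⟨b * b', mul_mem hb hb', rmul ρ b b' p⟩) (fun b hb x hx => by
      obtain ⟨b', hb', rfl⟩ := (hS' x).1 hx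
      exact (hS' _).2 ⟨b * b', mul_mem hb hb', rmul ρ b b' p'⟩) with h5 | h5 | h5
  · refine hp0 (eq_zero_of_cls h.sys hc hs hp.mem fun u hu hsu κ hκ => ?_)
    obtain ⟨e1, e2⟩ := k1 hu hsu hκ
    rw [← e1, ← h5, e2]
  · refine hp0' (eq_zero_of_cls h.sys hc hs hp'.mem fun u hu hsu κ hκ => ?_)
    obtain ⟨e1, e2⟩ := k2 hu hsu hκ
    rw [← e1, ← h5, e2]
  · refine hp0'' (eq_zero_of_cls h.sys hc hs hp''.mem fun u hu hsu κ hκ => ?_)
    obtain ⟨e1, e2⟩ := k1 hu hsu hκ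
    obtain ⟨e1', e2'⟩ := k2 hu hsu hκ
    rw [map_add, ← e1, ← e1', ← map_add, ← h5, map_add (ρ a), map_add, e2, e2', add_zero]

/-- **The classes are not closed.** -/
theorem no_clo [Finite H] {w : V} (hw : ∀ t ∈ T, ρ t w = w) {j : J} (hl : ρ (l j) w = w + z j + v j) : False := by
  obtain ⟨a, ha, hav⟩ := h.Av j
  have haT : a ∈ T := h.BT (h.AB j ha)
  set g := (l j)⁻¹ * a * (l j) with hg
  have hgp : g ∈ pres h.sys := by
    have h1 := (pres_normal h.sys).conj_mem a (h.A_pres hc ha) (l j)⁻¹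
    rwa [inv_inv] at h1
  have hgc : ρ g c = c := by
    have h1 : ρ (l j)⁻¹ c = c := (stV ρ c).inv_mem (h.lc j)
    rw [hg, rmul, rmul, h.lc, h.fixc a haT, h1]
  have hgw : ρ g w = w := by
    refine eq_of_pr h.sys hc h.rad0 fun s hs => ?_
    obtain ⟨q, hq⟩ := exists_pr h.sys hc hs w
    obtain ⟨p, hp, hp0⟩ := h.pr_c hc hs
    have h1 := hp.act hgp
    rw [hgc] at h1
    have h2 : ρ g p = p := h1.uniq hp
    have h3 := hq.act hgp
    refine ⟨q, ?_, hq⟩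
    rcases claimW h.odd h.fixc hw hp hp0 hq with e | e
    · rw [e, map_zero] at h3
      rw [e]
      exact h3
    · rw [e, h2] at h3
      rw [e]
      exact h3
  apply hav
  rw [hg, rmul, rmul] at hgw
  have h1 : ρ a (ρ (l j) w) = ρ (l j) w := by
    have h2 := congrArg (ρ (l j)) hgw
    rwa [rinv'] at h2
  rw [hl, map_add, map_add, hw a haT, h.zB j a (h.AB j ha)] at h1
  exact add_left_cancel h1

end clo

end VL

end Cfsg.Agent.Omega.NO3S.EMany.Tv
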