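import Cfsg.Agent.Omega.NO3S.EMany.TvB
import Cfsg.Agent.Omega.TTn.Norm

/-!
# NO-3S, case (E), `k ≥ 3`, `q = 2`, the transvection case of (ALPHA), III: the symmetric group

* `Du` : one class, one transvection for every centre, the hyperbolic line `{c, c', c + c'}`; the points `e ≠ c`
  orthogonal to `c` and not to `c'` (`EE`) are pairwise not orthogonal;
* `VL.duad` : if the classes are not closed, we are in this case and `r = c`;
* `Du.indep`, `Du.span` : `EE` is linearly independent and spans with `c`, `c'`.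
-/

set_option autoImplicit false

namespace Cfsg.Agent.Omega.NO3S.EMany.Tv

open Module Subgroup Cfsg.Agent.Omega.TV Cfsg.Agent.Omega.TV.Sys

variable {H : Type*} [Group H] {V : Type*} [AddCommGroup V] [Module (ZMod 2) V]
  {ρ : H →* (V ≃ₗ[ZMod 2] V)} {Om : Set V} {f : V →ₗ[ZMod 2] V →ₗ[ZMod 2] ZMod 2}

/-- the points `{0, u}` -/
def EE (Om : Set V) (f : V →ₗ[ZMod 2] V →ₗ[ZMod 2] ZMod 2) (c c' : V) : Set V :=
  {e | e ∈ Om ∧ e ≠ c ∧ f c e = 0 ∧ f c' e = 1}

/-- the case of the symmetric group -/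
structure Du (ρ : H →* (V ≃ₗ[ZMod 2] V)) (Om : Set V) (f : V →ₗ[ZMod 2] V →ₗ[ZMod 2] ZMod 2) (c c' : V) :
    Prop where
  sys : Sys ρ Om
  frm : Frm ρ Om f
  mc : c ∈ Om
  mc' : c' ∈ Om
  e : f c c' = 1
  near : ∀ y ∈ Om, Near ρ Om c y
  pair : ∀ a ∈ EE Om f c c', ∀ b ∈ EE Om f c c', a ≠ b → f a b = 1

theorem tv_sq (hinj : Function.Injective ρ) {e : V} (hal : f e e = 0) {g : H} (hg : ∀ x, ρ g x = x + f e x • e) :
    g * g = 1 := by
  apply hinj
  ext x
  rw [rmul, rone, hg, hg, map_add, map_smul, hal, smul_zero, add_zero, add_add_self]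

theorem tv_comm (hinj : Function.Injective ρ) {e e' : V} (h1 : f e e' = 0) (h2 : f e' e = 0) {g g' : H}
    (hg : ∀ x, ρ g x = x + f e x • e) (hg' : ∀ x, ρ g' x = x + f e' x • e') : g * g' = g' * g := by
  apply hinj
  ext x
  rw [rmul, rmul, hg, hg', hg', hg, map_add, map_add, map_smul, map_smul, h1, h2, smul_zero, smul_zero, add_zero,
    add_zero]
  abel

theorem sup_two [Finite H] {S : Subgroup H} (hS : IsPGroup 2 S) {g : H} (hg : g * g = 1) (hc : ∀ s ∈ S, g * s = s * g) :
    IsPGroup 2 (S ⊔ zpowers g : Subgroup H) := by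
  have h1 : IsPGroup 2 (zpowers g) := by
    intro x
    obtain ⟨k, hk⟩ := mem_zpowers_iff.1 x.2
    refine ⟨1, Subtype.ext ?_⟩
    simp only [pow_one, Subgroup.coe_pow, Subgroup.coe_one]
    rw [← hk, ← zpow_natCast, ← zpow_mul, mul_comm, zpow_mul]
    simp [pow_two, hg]
  refine IsPGroup.to_sup_of_normal_right' hS h1 ?_
  intro s hs
  rw [mem_normalizer_iff]
  have h2 : ∀ x ∈ zpowers g, s * x * s⁻¹ = x := by
    intro x hx
    obtain ⟨k, rfl⟩ := mem_zpowers_iff.1 hx
    have h3 : Commute s g := (hc s hs).symm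
    rw [(h3.zpow_right k).eq, mul_inv_cancel_right]
  intro x
  constructor
  · intro hx
    rw [h2 x hx]
    exact hx
  · intro hx
    have h4 : s⁻¹ * (s * x * s⁻¹) * s = x := by group
    have h3 : Commute s g := (hc s hs).symm
    obtain ⟨k, hk⟩ := mem_zpowers_iff.1 hx
    rw [← h4, ← hk, mul_assoc, ((h3.zpow_right k).symm).eq, ← mul_assoc, inv_mul_cancel, one_mul]
    exact zpow_mem (mem_zpowers g) k

namespace VL

variable [Finite V] [Finite H] {T Q B : Subgroup H} {c c' : V} {t : H} {r : V} {φ : Dual (ZMod 2) V} {J : Type*}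
  {z v : J → V} {A : J → Subgroup H} {l : J → H} (h : VL ρ Om T Q B c c' t r φ z v A l)

include h

omit [Finite H] in
theorem exists_pres {x : V} (hx : ∃ g, ρ g c = x) : ∃ q ∈ pres h.sys, ρ q c = x := by
  obtain ⟨g, rfl⟩ := hx
  obtain ⟨q, hq, m, hm, rfl⟩ := h.RM (pres h.sys) (pres_normal h.sys) h.pres_moves g
  exact ⟨q, hq, by rw [rmul, hm]⟩

omit [Finite V] in
/-- orthogonal points of `EE` are impossible -/
theorem pair (hf : Frm ρ Om f) (hcm : c ∈ Om) (hcm' : c' ∈ Om) (he : f c c' = 1) {a b : V}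
    (ha : a ∈ EE Om f c c') (hb : b ∈ EE Om f c c') (hne : a ≠ b) : f a b = 1 := by
  refine z2_ne_zero fun h0 => ?_
  obtain ⟨a1, a2, a3, a4⟩ := ha
  obtain ⟨b1, b2, b3, b4⟩ := hb
  have he' : f c' c = 1 := by rw [hf.comm, he]
  have a3' : f a c = 0 := by rw [hf.comm, a3]
  have za : Frm.Z Om f c c' (c + a) := ⟨add_ne_zero_of_ne (Ne.symm a2), by rw [map_add, hf.alt, a3, add_zero],
    by rw [map_add, he', a4, z2_add_self], by rw [self_add_add]; exact a1⟩
  have zb : Frm.Z Om f c c' (c + b) := ⟨add_ne_zero_of_ne (Ne.symm b2), by rw [map_add, hf.alt, b3, add_zero],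
    by rw [map_add, he', b4, z2_add_self], by rw [self_add_add]; exact b1⟩
  have zd := za.add h.sys hf hcm hcm' he zb (by
    simp only [map_add, LinearMap.add_apply, hf.alt, b3, a3', h0, add_zero]) (fun e0 => hne (add_left_cancel e0))
  have hd : c + (a + b) ∈ Om := by
    have h1 := zd.mem
    have e0 : c + (c + a + (c + b)) = c + (a + b) := by
      calc c + (c + a + (c + b)) = c + (a + b) + (c + c) := by abel
        _ = c + (a + b) := by rw [v_add_self, add_zero]
    rwa [e0] at h1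
  set d := c + (a + b) with hdd
  have hcd : f c d = 0 := by rw [hdd, map_add, map_add, hf.alt, a3, b3, add_zero, add_zero]
  have hdc : d ≠ c := by
    intro e0
    have : a + b = 0 := by
      have h1 : c + (a + b) = c + 0 := by rw [add_zero, ← hdd, e0]
      exact add_left_cancel h1
    exact hne (v_eq_of_add this)
  have had : f a d = 0 := by rw [hdd, map_add, map_add, a3', hf.alt, h0, add_zero, add_zero]
  have hbd : f b d = 0 := by rw [hdd, map_add, map_add, hf.comm b c, b3, hf.comm b a, h0, hf.alt, add_zero, add_zero]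
  obtain ⟨-, ga, hga⟩ := hf.fn a a1
  obtain ⟨-, gb, hgb⟩ := hf.fn b b1
  obtain ⟨-, gd, hgd⟩ := hf.fn d hd
  have c1 : gb * ga = ga * gb := tv_comm h.inj (by rw [hf.comm, h0]) h0 hgb hga
  have c2 : gd * ga = ga * gd := tv_comm h.inj (by rw [hf.comm, had]) had hgd hga
  have c3 : gd * gb = gb * gd := tv_comm h.inj (by rw [hf.comm, hbd]) hbd hgd hgb
  have q1 : IsPGroup 2 ((⊥ : Subgroup H) ⊔ zpowers ga : Subgroup H) :=
    sup_two IsPGroup.of_bot (tv_sq h.inj (hf.alt a) hga) (fun s hs => by rw [mem_bot.1 hs, one_mul, mul_one])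
  have hz : ∀ {g g' : H}, g * g' = g' * g → ∀ s ∈ zpowers g', g * s = s * g := by
    intro g g' hgg s hs
    obtain ⟨k, rfl⟩ := mem_zpowers_iff.1 hs
    exact ((show Commute g g' from hgg).zpow_right k).eq
  have hcomm : ∀ {g : H} {S S' : Subgroup H}, (∀ s ∈ S, g * s = s * g) → (∀ s ∈ S', g * s = s * g) →
      ∀ s ∈ S ⊔ S', g * s = s * g := by
    intro g S S' h1 h2 s hs
    have h3 : S ⊔ S' ≤ centralizer ({g} : Set H) := by
      refine sup_le (fun x hx => ?_) fun x hx => ?_
      · rw [mem_centralizer_singleton_iff]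
        exact (h1 x hx).symm
      · rw [mem_centralizer_singleton_iff]
        exact (h2 x hx).symm
    exact ((mem_centralizer_singleton_iff.1 (h3 hs))).symm
  have k1 : ∀ s ∈ (⊥ : Subgroup H) ⊔ zpowers ga, gb * s = s * gb :=
    hcomm (fun s hs => by rw [mem_bot.1 hs, one_mul, mul_one]) (hz c1)
  have q2 := sup_two q1 (tv_sq h.inj (hf.alt b) hgb) k1
  have k2 : ∀ s ∈ (⊥ : Subgroup H) ⊔ zpowers ga ⊔ zpowers gb, gd * s = s * gd :=
    hcomm (hcomm (fun s hs => by rw [mem_bot.1 hs, one_mul, mul_one]) (hz c2)) (hz c3)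
  have q3 := sup_two q2 (tv_sq h.inj (hf.alt d) hgd) k2
  set K : Subgroup H := (⊥ : Subgroup H) ⊔ zpowers ga ⊔ zpowers gb ⊔ zpowers gd with hK
  have ma : ga ∈ K := mem_sup_left (mem_sup_left (mem_sup_right (mem_zpowers ga)))
  have mb : gb ∈ K := mem_sup_left (mem_sup_right (mem_zpowers gb))
  have md : gd ∈ K := mem_sup_right (mem_zpowers gd)
  have hKM : K ≤ stV ρ c := by
    refine sup_le (sup_le (sup_le bot_le ?_) ?_) ?_
    · rw [zpowers_le, mem_stV, hga, a3', zero_smul, add_zero]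
    · rw [zpowers_le, mem_stV, hgb, hf.comm, b3, zero_smul, add_zero]
    · rw [zpowers_le, mem_stV, hgd, hf.comm, hcd, zero_smul, add_zero]
  have hTM : T ≤ stV ρ c := h.fixc
  have hM : ¬ 2 ∣ T.relIndex (stV ρ c) := fun hdv => h.odd (hdv.trans (Subgroup.relIndex_dvd_index_of_le hTM))
  obtain ⟨m, hm, hmT⟩ := TTn.exists_conj_le_of_odd_relIndex h.two hM q3 hKM
  have hm' : ρ m⁻¹ c = c := (stV ρ c).inv_mem hm
  set x := ρ m⁻¹ c' with hx
  have key : ∀ {e : V} {g : H}, g ∈ K → e ≠ 0 → e ≠ c → (∀ y, ρ g y = y + f e y • e) → f e x = 0 := by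
    intro e g hg he0 hec hge
    refine z2_ne_one fun h1 => ?_
    have h2 := h.fixc' _ (hmT g hg)
    have h3 : ρ g x = x ∨ ρ g x = c + x := by
      rcases h2 with h2 | h2
      · left
        have h4 := congrArg (ρ m⁻¹) h2
        rwa [rmul, rmul, rinv] at h4
      · right
        have h4 := congrArg (ρ m⁻¹) h2
        rwa [rmul, rmul, rinv, map_add, hm'] at h4
    rw [hge, h1, one_smul] at h3
    rcases h3 with h3 | h3
    · exact he0 (by simpa using h3)
    · apply hec
      rw [add_comm] at h3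
      exact add_right_cancel h3
  have r1 := key ma (h.sys.ne_zero a1) a2 hga
  have r2 := key mb (h.sys.ne_zero b1) b2 hgb
  have r3 := key md (h.sys.ne_zero hd) hdc hgd
  have r4 : f c x = 1 := by
    have h1 := hf.inv m⁻¹ c c'
    rw [hm', he] at h1
    exact h1
  rw [hdd, map_add, map_add, LinearMap.add_apply, LinearMap.add_apply, r4, r1, r2] at r3
  exact one_ne_zero r3

/-- **If the classes are not closed, we are in the case of the symmetric group and `r = c`.** -/
theorem duad (hno : ¬ Clo ρ Om) : ∃ f, Du ρ Om f c c' ∧ r = c ∧ φ = f c := by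
  have hy := h.sys
  obtain ⟨f, hf⟩ : ∃ f, Frm ρ Om f := by
    rcases hy.small_or_big with hs | hb
    · exact hy.exists_form hs
    · exact absurd (hy.clo_of fun b hb' d hd hn hbd =>
        add_comm d b ▸ hy.add_mem hd (hy.adj_of_near hb hb' hd hbd hn)) hno
  have hr := h.rO
  have hφ : φ = f r := hf.uniq r hr φ h.f0 ⟨h.fr, t, h.tr⟩
  have adjc : ∀ u ∈ Om, f u r = 1 → f u c = 1 := fun u hu e =>
    h.adj_c hu (hf.fn u hu) e (by rw [hφ, hf.comm, e])
  have eqc : ∀ u ∈ Om, Near ρ Om r u → f u c = f u r := by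
    intro u hu hn
    rcases z2 (f u r) with a | a
    · rw [a]
      refine z2_ne_one fun a' => ?_
      obtain ⟨v, hv, v1, v2⟩ := hn
      have v1' : f v r = 1 := by rw [hf.comm]; exact (hf.adj_iff hr).1 v1
      have v2' : f v u = 1 := (hf.adj_iff hv).1 v2
      have hm := hf.add_mem hy hv hu v2'
      have h1 := adjc _ hm (by rw [map_add, LinearMap.add_apply, v1', a, add_zero])
      rw [map_add, LinearMap.add_apply, adjc v hv v1', a', z2_add_self] at h1
      exact zero_ne_one h1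
    · rw [adjc u hu a, a]
  obtain ⟨p, hp, hpc⟩ := h.exists_pres h.oc
  obtain ⟨p', hp', hpc'⟩ := h.exists_pres h.oc'
  have key : ∀ q ∈ pres hy, ∀ u ∈ Om, Near ρ Om r u → f u (ρ q c) = f u (ρ q r) := by
    intro q hq u hu hn
    have hu' := hy.inv q⁻¹ u hu
    have h1 := eqc (ρ q⁻¹ u) hu' (hy.near_trans hr hu hu' hn ((pres hy).inv_mem hq u hu))
    have h2 := hf.inv q (ρ q⁻¹ u) c
    have h3 := hf.inv q (ρ q⁻¹ u) r
    rw [rinv'] at h2 h3
    rw [h2, h3, h1]
  have hr' : ρ p r ∈ Om := hy.inv p r hr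
  have hr'' : ρ p' r ∈ Om := hy.inv p' r hr
  have hsum : r + ρ p r + ρ p' r = 0 := by
    have h1 : r + ρ p r + ρ p' r ∈ Sys.rad ρ Om := by
      intro s hs κ hκ
      by_cases h0 : κ = 0
      · rw [h0, LinearMap.zero_apply]
      · rw [hf.uniq s hs κ h0 hκ, map_add, map_add]
        by_cases hn : Near ρ Om r s
        · rw [← eqc s hs hn, ← key p hp s hs hn, ← key p' hp' s hs hn, hpc, hpc', ← map_add, ← map_add, v_add_self,
            map_zero]
        · have e1 : f s r = 0 := z2_ne_one fun e => hn (hy.near_symm hs hr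
            (hy.near_of_adj hs hr ((hf.adj_iff hs).2 e)))
          have e2 : ∀ q ∈ pres hy, f s (ρ q r) = 0 := fun q hq => z2_ne_one fun e => hn
            (hy.near_trans hr (hy.inv q r hr) hs (hq r hr) (hy.near_symm hs (hy.inv q r hr)
              (hy.near_of_adj hs (hy.inv q r hr) ((hf.adj_iff hs).2 e))))
          rw [e1, e2 p hp, e2 p' hp', add_zero, add_zero]
    rw [h.rad0] at h1
    exact h1
  have hr3 : r + ρ p r = ρ p' r := v_eq_of_add hsum
  have hfr : f r (ρ p r) = 1 := by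
    refine z2_ne_zero fun h0 => hno (hy.clo_of (hf.add_mem_of_near' hy hr hr' ?_ h0))
    rw [hr3]
    exact hr''
  have hφc' : φ c' = 1 := by
    rw [hφ, ← hpc, key p hp r hr (hy.near_refl hr), hfr]
  have hrc : r = c := by
    have h1 := h.fixc' t (h.QT h.tQ)
    rw [h.tr, hφc', one_smul] at h1
    rcases h1 with h1 | h1
    · exact absurd (by simpa using h1) (hy.ne_zero hr)
    · rw [add_comm c c'] at h1
      exact add_left_cancel h1
  subst hrc
  have hc' : c' ∈ Om := by rw [← hpc]; exact hr'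
  have he : f r c' = 1 := by rw [← hpc, hfr]
  refine ⟨f, ⟨hy, hf, hr, hc', he, fun y hy' => ?_, fun a ha b hb hne => h.pair hf hr hc' he ha hb hne⟩, rfl, hφ⟩
  obtain ⟨g, hg⟩ := hy.trans r hr y hy'
  obtain ⟨q, hq, rfl⟩ := h.exists_pres ⟨g, hg⟩
  exact hq r hr

end VL

namespace Du

variable {c c' : V} (h : Du ρ Om f c c')

include h

/-- the sums over different sets of points of `EE` are different -/
theorem sum_subset {S S' : Finset V} (hS : ∀ x ∈ S, x ∈ EE Om f c c') (hS' : ∀ x ∈ S', x ∈ EE Om f c c')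
    (he : ∑ x ∈ S, x = ∑ x ∈ S', x) : S ⊆ S' := by
  classical
  intro y hy
  by_contra hn
  have hyE := hS y hy
  have h1 : ∀ S : Finset V, (∀ x ∈ S, x ∈ EE Om f c c') → f c' (∑ x ∈ S, x) = (S.card : ZMod 2) := by
    intro S hS
    rw [map_sum, Finset.sum_congr rfl (fun x hx => (hS x hx).2.2.2)]
    simp
  have h2 : ∀ S : Finset V, (∀ x ∈ S, x ∈ EE Om f c c') → y ∉ S → f y (∑ x ∈ S, x) = (S.card : ZMod 2) := by
    intro S hS hyn
    rw [map_sum, Finset.sum_congr rfl (fun x hx => h.pair y hyE x (hS x hx) (fun e => hyn (e ▸ hx)))]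
    simp
  have h3 : f y (∑ x ∈ S, x) = ((S.erase y).card : ZMod 2) := by
    rw [← Finset.add_sum_erase S (fun x => x) hy, map_add, h.frm.alt, zero_add]
    exact h2 _ (fun x hx => hS x (Finset.mem_of_mem_erase hx)) (Finset.notMem_erase y S)
  have h4 := h2 S' hS' hn
  have h5 := h1 S hS
  have h6 := h1 S' hS'
  rw [he] at h3 h5
  have h7 : (S.card : ZMod 2) = ((S.erase y).card : ZMod 2) + 1 := by
    rw [← Finset.card_erase_add_one hy, Nat.cast_add, Nat.cast_one]
  rw [← h3, h4, ← h6, h5] at h7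
  exact one_ne_zero (left_eq_add.1 h7)

/-- `EE` is linearly independent -/
theorem indep {S S' : Finset V} (hS : ∀ x ∈ S, x ∈ EE Om f c c') (hS' : ∀ x ∈ S', x ∈ EE Om f c c')
    (he : ∑ x ∈ S, x = ∑ x ∈ S', x) : S = S' :=
  Finset.Subset.antisymm (h.sum_subset hS hS' he) (h.sum_subset hS' hS he.symm)

theorem indep_two {a b a' b' : V} (ha : a ∈ EE Om f c c') (hb : b ∈ EE Om f c c') (ha' : a' ∈ EE Om f c c')
    (hb' : b' ∈ EE Om f c c') (hab : a ≠ b) (hab' : a' ≠ b') (he : a + b = a' + b') :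
    (a = a' ∧ b = b') ∨ (a = b' ∧ b = a') := by
  classical
  have h1 : ({a, b} : Finset V) = {a', b'} := by
    refine h.indep (S := {a, b}) (S' := {a', b'}) ?_ ?_ ?_
    · intro x hx
      rcases Finset.mem_insert.1 hx with rfl | hx
      · exact ha
      · rw [Finset.mem_singleton.1 hx]; exact hb
    · intro x hx
      rcases Finset.mem_insert.1 hx with rfl | hx
      · exact ha'
      · rw [Finset.mem_singleton.1 hx]; exact hb'
    · rw [Finset.sum_pair hab, Finset.sum_pair hab', he]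
  have h2 : a ∈ ({a', b'} : Finset V) := h1 ▸ Finset.mem_insert_self a _
  have h3 : b ∈ ({a', b'} : Finset V) := h1 ▸ Finset.mem_insert_of_mem (Finset.mem_singleton_self b)
  rw [Finset.mem_insert, Finset.mem_singleton] at h2 h3
  rcases h2 with h2 | h2 <;> rcases h3 with h3 | h3
  · exact absurd (h2.trans h3.symm) hab
  · exact Or.inl ⟨h2, h3⟩
  · exact Or.inr ⟨h2, h3⟩
  · exact absurd (h2.trans h3.symm) hab

/-- elements fixing `c` and the line act on `EE` -/
theorem act {g : H} (h1 : ρ g c = c) (h2 : ρ g c' = c' ∨ ρ g c' = c + c') {x : V} (hx : x ∈ EE Om f c c') :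
    ρ g x ∈ EE Om f c c' := by
  obtain ⟨x1, x2, x3, x4⟩ := hx
  have h3 : f c (ρ g x) = 0 := by
    have := h.frm.inv g c x
    rwa [h1, x3] at this
  refine ⟨h.sys.inv g x x1, fun e => x2 ((ρ g).injective (e.trans h1.symm)), h3, ?_⟩
  have h4 := h.frm.inv g c' x
  rw [x4] at h4
  rcases h2 with h2 | h2
  · rwa [h2] at h4
  · rwa [h2, map_add, LinearMap.add_apply, h3, zero_add] at h4

/-- a point not orthogonal to `c` is a sum -/
theorem ex_of_one {y : V} (hy : y ∈ Om) (h1 : f c y = 1) :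
    ∃ d : V, (d = c' ∨ d = c + c') ∧ f c d = 1 ∧ (y = d ∨ y = c + d ∨ y + d ∈ EE Om f c c') := by
  have he' : f c' c = 1 := by rw [h.frm.comm, h.e]
  have h1' : f y c = 1 := by rw [h.frm.comm, h1]
  rcases z2 (f c' y) with a | a
  · refine ⟨c + c', Or.inr rfl, by rw [map_add, h.frm.alt, h.e, zero_add], ?_⟩
    by_cases e0 : y = c'
    · right; left
      rw [e0, self_add_add]
    right; right
    have h2 : f y (c + c') = 1 := by rw [map_add, h1', h.frm.comm, a, add_zero]
    refine ⟨h.frm.add_mem h.sys hy (h.frm.add_mem h.sys h.mc h.mc' h.e) h2, ?_, ?_, ?_⟩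
    · intro e1
      apply e0
      refine v_eq_of_add (v := y) ?_
      have : y + (c + c') + c = c + c := by rw [e1]
      calc y + c' = y + (c + c') + c := by
            rw [add_assoc y, add_comm c c', add_add_self]
        _ = 0 := by rw [this, v_add_self]
    · rw [map_add, map_add, h1, h.frm.alt, h.e, zero_add, z2_add_self]
    · rw [map_add, map_add, a, he', h.frm.alt, zero_add, add_zero]
  · refine ⟨c', Or.inl rfl, h.e, ?_⟩
    by_cases e0 : y = c + c'
    · exact Or.inr (Or.inl e0)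
    right; right
    refine ⟨h.frm.add_mem h.sys hy h.mc' (by rw [h.frm.comm, a]), ?_, ?_, ?_⟩
    · intro e1
      apply e0
      rw [← e1, add_add_self]
    · rw [map_add, h1, h.e, z2_add_self]
    · rw [map_add, a, h.frm.alt, add_zero]

/-- `c`, `c'` and `EE` generate -/
theorem span {W : Submodule (ZMod 2) V} (hc : c ∈ W) (hc' : c' ∈ W) (hE : ∀ x ∈ EE Om f c c', x ∈ W) : W = ⊤ := by
  rw [eq_top_iff, ← h.sys.span, Submodule.span_le]
  intro y hy
  show y ∈ W
  have he' : f c' c = 1 := by rw [h.frm.comm, h.e]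
  have hd : ∀ d : V, (d = c' ∨ d = c + c') → d ∈ W := by
    rintro d (rfl | rfl)
    · exact hc'
    · exact add_mem hc hc'
  have one : ∀ y ∈ Om, f c y = 1 → y ∈ W := by
    intro y hy h1
    obtain ⟨d, hd1, -, h2 | h2 | h2⟩ := h.ex_of_one hy h1
    · rw [h2]; exact hd d hd1
    · rw [h2]; exact add_mem hc (hd d hd1)
    · have h3 := add_mem (hE _ h2) (hd d hd1)
      rwa [add_add_self] at h3
  have two : ∀ y ∈ Om, f c y = 0 → f c' y = 1 → y ∈ W := by
    intro y hy h1 h2
    by_cases e0 : y = c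
    · rw [e0]; exact hc
    · exact hE y ⟨hy, e0, h1, h2⟩
  rcases z2 (f c y) with a | a
  · rcases z2 (f c' y) with b | b
    · obtain ⟨v, hv, v1, v2⟩ := h.near y hy
      have v1' := (h.frm.adj_iff h.mc).1 v1
      have v2' := (h.frm.adj_iff hv).1 v2
      obtain ⟨d, hd1, hd2, h2⟩ := h.ex_of_one hv v1'
      have hdy : f d y = 0 := by
        rcases hd1 with rfl | rfl
        · exact b
        · rw [map_add, LinearMap.add_apply, a, b, add_zero]
      rcases h2 with h2 | h2 | h2
      · rw [h2, hdy] at v2'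
        exact absurd v2' zero_ne_one
      · rw [h2, map_add, LinearMap.add_apply, a, hdy, add_zero] at v2'
        exact absurd v2' zero_ne_one
      · have h3 : f (v + d) y = 1 := by rw [map_add, LinearMap.add_apply, v2', hdy, add_zero]
        obtain ⟨m1, m2, m3, m4⟩ := h2
        have h4 := h.frm.add_mem h.sys m1 hy h3
        have h5 := two _ h4 (by rw [map_add, m3, a, add_zero]) (by rw [map_add, m4, b, add_zero])
        have h6 := add_mem (hE _ ⟨m1, m2, m3, m4⟩) h5
        rwa [self_add_add] at h6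
    · exact two y hy a b
  · exact one y hy a

end Du

end Cfsg.Agent.Omega.NO3S.EMany.Tv
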