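import Cfsg.Agent.Omega.NO3S.EMany.TvC

/-!
# NO-3S, case (E), `k ≥ 3`, `q = 2`, the transvection case of (ALPHA), IV: the end on `V = N / Y`

* `VL.transp` : in the case of the symmetric group `A j` contains a transposition `(x x')` and `z j = {x, x'}`;
* `VL.third` : `v j = {x, u}`, `B` fixes `u`;
* **`VL.false`** : the setting `VL` together with a second vector `w` fixed by `T` is contradictory.
-/

set_option autoImplicit false

namespace Cfsg.Agent.Omega.NO3S.EMany.Tv

open Module Subgroup Cfsg.Agent.Omega.TV Cfsg.Agent.Omega.TV.Sys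

variable {H : Type*} [Group H] {V : Type*} [AddCommGroup V] [Module (ZMod 2) V]
  {ρ : H →* (V ≃ₗ[ZMod 2] V)} {Om : Set V} {f : V →ₗ[ZMod 2] V →ₗ[ZMod 2] ZMod 2}

namespace VL

variable [Finite V] [Finite H] {T Q B : Subgroup H} {c c' : V} {t : H} {r : V} {φ : Dual (ZMod 2) V} {J : Type*}
  {z v : J → V} {A : J → Subgroup H} {l : J → H} (h : VL ρ Om T Q B c c' t r φ z v A l) (hD : Du ρ Om f c c')

include h hD

omit [Finite V] [Finite H] hD in
theorem A_le_T (j : J) : A j ≤ T := (h.AB j).trans h.BT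

theorem A_zero {j : J} {b : H} (hb : b ∈ A j) (hbv : ρ b (v j) = v j) {x : V} (hx : x ∈ EE Om f c c') :
    ρ b x = x := by
  classical
  have := Fintype.ofFinite V
  by_contra hn
  obtain ⟨B', h1, h2, h3, h4⟩ := exists_hyper (A := A j) (A' := A j ⊓ stV ρ x) inf_le_left (h.Acomm j) (h.Asq j) hb
    (fun h5 => hn h5.2)
  by_cases hm : ∃ b' ∈ B', ρ b' (v j) ≠ v j
  · let S : Finset V := Finset.univ.filter fun y => ∃ b' ∈ B', ρ b' x = y
    have hS : ∀ y, y ∈ S ↔ ∃ b' ∈ B', ρ b' x = y := fun y => by simp [S]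
    have hA : ∀ a ∈ A j, ∀ y ∈ EE Om f c c', ρ a y ∈ EE Om f c c' := fun a ha y hy =>
      hD.act (h.fixc a (h.A_le_T j ha)) (Or.inl (h.Ac' j a ha)) hy
    have hSE : ∀ y ∈ S, y ∈ EE Om f c c' := by
      intro y hy
      obtain ⟨b', hb', rfl⟩ := (hS y).1 hy
      exact hA b' (h2 hb') x hx
    have h5 := h.min j b hb B' h2 h3 h4 hm S (fun y hy => (hSE y hy).1) (fun b' hb' y hy => by
      obtain ⟨b'', hb'', rfl⟩ := (hS y).1 hy
      exact (hS _).2 ⟨b' * b'', mul_mem hb' hb'', rmul ρ b' b'' x⟩)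
    have h6 : S = S.image (fun y => ρ b y) := by
      refine hD.indep hSE ?_ ?_
      · intro y hy
        obtain ⟨y', hy', rfl⟩ := Finset.mem_image.1 hy
        exact hA b hb y' (hSE y' hy')
      · rw [Finset.sum_image (f := fun y => y) (g := fun y => ρ b y) fun a _ b' _ hab => (ρ b).injective hab,
          ← h5, map_sum]
    have h7 : ρ b x ∈ S := by
      rw [h6]
      exact Finset.mem_image.2 ⟨x, (hS x).2 ⟨1, one_mem _, rone ρ x⟩, rfl⟩
    obtain ⟨b', hb', e⟩ := (hS _).1 h7
    apply h3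
    have h8 : b'⁻¹ * b ∈ A j ⊓ stV ρ x := by
      refine ⟨(A j).mul_mem ((A j).inv_mem (h2 hb')) hb, ?_⟩
      show ρ (b'⁻¹ * b) x = x
      rw [rmul, ← e, rinv]
    have h9 := B'.mul_mem hb' (h1 h8)
    rwa [mul_inv_cancel_left] at h9
  · push Not at hm
    obtain ⟨a, ha, hav⟩ := h.Av j
    rcases h4 a ha with h5 | h5
    · exact hav (hm a h5)
    · have h6 := hm _ h5
      rw [rmul] at h6
      exact hav ((ρ b).injective (h6.trans hbv.symm))

theorem A_one {j : J} {b : H} (hb : b ∈ A j) (hbv : ρ b (v j) = v j) : b = 1 := by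
  apply h.inj
  have h1 : LinearMap.eqLocus ((ρ b : V ≃ₗ[ZMod 2] V) : V →ₗ[ZMod 2] V) LinearMap.id = ⊤ := by
    refine hD.span ?_ ?_ ?_
    · exact h.fixc b (h.A_le_T j hb)
    · exact h.Ac' j b hb
    · exact fun x hx => h.A_zero hD hb hbv hx
  ext x
  rw [rone]
  have h2 : x ∈ LinearMap.eqLocus ((ρ b : V ≃ₗ[ZMod 2] V) : V →ₗ[ZMod 2] V) LinearMap.id := by rw [h1]; trivial
  exact h2

/-- `A j` contains a transposition -/
theorem transp (j : J) : ∃ a ∈ A j, ∃ x ∈ EE Om f c c', ∃ x' ∈ EE Om f c c', x ≠ x' ∧ ρ a x = x' ∧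
    (∀ e ∈ EE Om f c c', e ≠ x → e ≠ x' → ρ a e = e) ∧ z j = x + x' ∧ f (z j) (v j) = 1 := by
  classical
  obtain ⟨a, ha, hav⟩ := h.Av j
  have hac := h.fixc a (h.A_le_T j ha)
  have hac' := h.Ac' j a ha
  have hva : ρ a (v j) = v j + z j := (h.vB j a (h.AB j ha)).resolve_left hav
  obtain ⟨x, hx, hax⟩ : ∃ x ∈ EE Om f c c', ρ a x ≠ x := by
    by_contra hcon
    push Not at hcon
    apply hav
    have h1 : LinearMap.eqLocus ((ρ a : V ≃ₗ[ZMod 2] V) : V →ₗ[ZMod 2] V) LinearMap.id = ⊤ :=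
      hD.span hac hac' fun x hx => hcon x hx
    have h2 : v j ∈ LinearMap.eqLocus ((ρ a : V ≃ₗ[ZMod 2] V) : V →ₗ[ZMod 2] V) LinearMap.id := by rw [h1]; trivial
    exact h2
  have hx' : ρ a x ∈ EE Om f c c' := hD.act hac (Or.inl hac') hx
  have haa : ∀ y, ρ a (ρ a y) = y := fun y => by rw [← rmul, h.Asq j a ha, rone]
  have hmv : ∀ e ∈ EE Om f c c', e ≠ x → e ≠ ρ a x → ρ a e = e := by
    intro e he hex hex'
    by_contra hae
    have h1 : a ∉ (⊥ : Subgroup H) := fun h1 => by
      rw [mem_bot.1 h1, rone] at hav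
      exact hav rfl
    have h2 : ∀ y ∈ A j, y ∈ (⊥ : Subgroup H) ∨ a * y ∈ (⊥ : Subgroup H) := by
      intro y hy
      by_cases hyv : ρ y (v j) = v j
      · exact Or.inl (mem_bot.2 (h.A_one hD hy hyv))
      · right
        have h3 : ρ y (v j) = v j + z j := (h.vB j y (h.AB j hy)).resolve_left hyv
        refine mem_bot.2 (h.A_one hD (mul_mem ha hy) ?_)
        rw [rmul, h3, map_add, hva, h.zB j a (h.AB j ha), add_add_self]
    rcases h.off j a ha ⊥ bot_le h1 h2 {x} {e} (fun s hs => by rw [Finset.mem_singleton.1 hs]; exact hx.1)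
      (fun s hs => by rw [Finset.mem_singleton.1 hs]; exact he.1)
      (fun b hb s hs => by rw [mem_bot.1 hb, rone]; exact hs) (fun b hb s hs => by rw [mem_bot.1 hb, rone]; exact hs)
      with h5 | h5 | h5
    · rw [Finset.sum_singleton] at h5
      exact hax h5
    · rw [Finset.sum_singleton] at h5
      exact hae h5
    · rw [Finset.sum_singleton, Finset.sum_singleton, map_add] at h5
      rcases hD.indep_two hx' (hD.act hac (Or.inl hac') he) hx he (fun e1 => hex ((ρ a).injective e1).symm)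
        (Ne.symm hex) h5 with ⟨h6, -⟩ | ⟨h6, -⟩
      · exact hax h6
      · exact hex' h6.symm
  have hne : x ≠ ρ a x := Ne.symm hax
  set x' := ρ a x with hx'def
  have hsym : f x' x = 1 := hD.pair x' hx' x hx (Ne.symm hne)
  have hsym' : f x x' = 1 := hD.pair x hx x' hx' hne
  have htv : ∀ y, ρ a y = y + f (x + x') y • (x + x') := by
    have h1 : LinearMap.eqLocus ((ρ a : V ≃ₗ[ZMod 2] V) : V →ₗ[ZMod 2] V)
        (LinearMap.id + (f (x + x')).smulRight (x + x')) = ⊤ := by
      refine hD.span ?_ ?_ ?_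
      · show ρ a c = c + f (x + x') c • (x + x')
        rw [hac, hD.frm.comm, map_add, hx.2.2.1, hx'.2.2.1, add_zero, zero_smul, add_zero]
      · show ρ a c' = c' + f (x + x') c' • (x + x')
        rw [hac', hD.frm.comm, map_add, hx.2.2.2, hx'.2.2.2, z2_add_self, zero_smul, add_zero]
      · intro e he
        show ρ a e = e + f (x + x') e • (x + x')
        by_cases e1 : e = x
        · rw [e1, map_add, LinearMap.add_apply, hD.frm.alt, hsym, zero_add, one_smul, self_add_add]
        by_cases e2 : e = x'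
        · rw [e2, map_add, LinearMap.add_apply, hD.frm.alt, hsym', add_zero, one_smul, hx'def, haa, ← hx'def,
            add_comm x x', self_add_add]
        · rw [hmv e he e1 e2, map_add, LinearMap.add_apply, hD.pair x hx e he (Ne.symm e1),
            hD.pair x' hx' e he (Ne.symm e2), z2_add_self, zero_smul, add_zero]
    intro y
    have h2 : y ∈ LinearMap.eqLocus ((ρ a : V ≃ₗ[ZMod 2] V) : V →ₗ[ZMod 2] V)
        (LinearMap.id + (f (x + x')).smulRight (x + x')) := by rw [h1]; trivial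
    exact h2
  have h6 := htv (v j)
  rw [hva] at h6
  have h7 := add_left_cancel h6
  have h8 : f (x + x') (v j) = 1 := by
    refine z2_ne_zero fun h0 => hav ?_
    rw [h0, zero_smul] at h7
    rw [hva, h7, add_zero]
  rw [h8, one_smul] at h7
  exact ⟨a, ha, x, hx, x', hx', hne, rfl, hmv, h7, by rw [h7]; exact h8⟩

/-- the third point -/
theorem third (j : J) : ∃ a ∈ A j, ∃ x ∈ EE Om f c c', ∃ x' ∈ EE Om f c c', ∃ u ∈ EE Om f c c', x ≠ x' ∧ ρ a x = x' ∧
    (∀ e ∈ EE Om f c c', e ≠ x → e ≠ x' → ρ a e = e) ∧ z j = x + x' ∧ u ≠ x ∧ u ≠ x' ∧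
    (u = ρ (l j) x ∨ u = ρ (l j) x') ∧ ∀ b ∈ B, ρ b u = u := by
  obtain ⟨a, ha, x, hx, x', hx', hne, hax, hmv, hz, hzv⟩ := h.transp hD j
  have hy : ρ (l j) x ∈ EE Om f c c' := hD.act (h.lc j) (Or.inl (h.lc' j)) hx
  have hy' : ρ (l j) x' ∈ EE Om f c c' := hD.act (h.lc j) (Or.inl (h.lc' j)) hx'
  have hyy : ρ (l j) x ≠ ρ (l j) x' := fun e => hne ((ρ (l j)).injective e)
  have hv : v j = ρ (l j) x + ρ (l j) x' := by rw [← h.lz j, hz, map_add]
  have hB : ∀ b ∈ B, ∀ e ∈ EE Om f c c', ρ b e ∈ EE Om f c c' := fun b hb e he =>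
    hD.act (h.fixc b (h.BT hb)) (h.fixc' b (h.BT hb)) he
  -- the point
  have key : ∃ u ∈ EE Om f c c', u ≠ x ∧ u ≠ x' ∧ (u = ρ (l j) x ∨ u = ρ (l j) x') ∧ ∃ p, (p = x ∨ p = x') ∧
      v j = p + u := by
    rw [hz, hv] at hzv
    set y := ρ (l j) x with hydef
    set y' := ρ (l j) x' with hy'def
    have out : ∀ s ∈ EE Om f c c', s ≠ x → s ≠ x' → f (x + x') s = 0 := by
      intro s hs h1 h2
      rw [map_add, LinearMap.add_apply, hD.pair x hx s hs (Ne.symm h1), hD.pair x' hx' s hs (Ne.symm h2), z2_add_self]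
    by_cases P : y = x ∨ y = x'
    · by_cases P' : y' = x ∨ y' = x'
      · exfalso
        have e1 : y + y' = x + x' := by
          rcases P with P | P <;> rcases P' with P' | P'
          · exact absurd (P.trans P'.symm) hyy
          · rw [P, P']
          · rw [P, P', add_comm]
          · exact absurd (P.trans P'.symm) hyy
        rw [e1, hD.frm.alt] at hzv
        exact zero_ne_one hzv
      · push Not at P'
        exact ⟨y', hy', P'.1, P'.2, Or.inr rfl, y, P, hv⟩
    · push Not at P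
      by_cases P' : y' = x ∨ y' = x'
      · exact ⟨y, hy, P.1, P.2, Or.inl rfl, y', P', by rw [hv, add_comm]⟩
      · push Not at P'
        exfalso
        rw [map_add, out y hy P.1 P.2, out y' hy' P'.1 P'.2, add_zero] at hzv
        exact zero_ne_one hzv
  obtain ⟨u, hu, hux, hux', hul, p, hp, hvp⟩ := key
  refine ⟨a, ha, x, hx, x', hx', u, hu, hne, hax, hmv, hz, hux, hux', hul, fun b hb => ?_⟩
  by_contra hbu
  have hpE : p ∈ EE Om f c c' := by rcases hp with rfl | rfl <;> assumption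
  have hpu : p ≠ u := by
    rcases hp with rfl | rfl
    · exact Ne.symm hux
    · exact Ne.symm hux'
  -- the images of `x`, `x'`
  have h1 := h.zB j b hb
  rw [hz, map_add] at h1
  have h2 : ∀ s, (s = x ∨ s = x') → ∃ s', (s' = x ∨ s' = x') ∧ ρ b s' = s := by
    intro s hs
    rcases hD.indep_two (hB b hb x hx) (hB b hb x' hx') hx hx' (fun e => hne ((ρ b).injective e)) hne h1 with
      ⟨e1, e2⟩ | ⟨e1, e2⟩
    · rcases hs with rfl | rfl
      · exact ⟨_, Or.inl rfl, e1⟩
      · exact ⟨_, Or.inr rfl, e2⟩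
    · rcases hs with rfl | rfl
      · exact ⟨_, Or.inr rfl, e2⟩
      · exact ⟨_, Or.inl rfl, e1⟩
  -- `ρ b v = p' + u`
  obtain ⟨p', hp', e⟩ : ∃ p', (p' = x ∨ p' = x') ∧ ρ b p + ρ b u = p' + u := by
    rcases h.vB j b hb with h3 | h3
    · exact ⟨p, hp, by rw [← map_add, ← hvp, h3]⟩
    · rcases hp with rfl | rfl
      · refine ⟨x', Or.inr rfl, ?_⟩
        rw [← map_add, ← hvp, h3, hvp, hz]
        calc p + u + (p + x') = x' + u + (p + p) := by abel
          _ = x' + u := by rw [v_add_self, add_zero]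
      · refine ⟨x, Or.inl rfl, ?_⟩
        rw [← map_add, ← hvp, h3, hvp, hz]
        calc p + u + (x + p) = x + u + (p + p) := by abel
          _ = x + u := by rw [v_add_self, add_zero]
  have hp'E : p' ∈ EE Om f c c' := by rcases hp' with rfl | rfl <;> assumption
  have hp'u : p' ≠ u := by
    rcases hp' with rfl | rfl
    · exact Ne.symm hux
    · exact Ne.symm hux'
  rcases hD.indep_two (hB b hb p hpE) (hB b hb u hu) hp'E hu (fun e => hpu ((ρ b).injective e)) hp'u e with
    ⟨-, e1⟩ | ⟨-, e1⟩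
  · exact hbu e1
  · obtain ⟨s', hs', e2⟩ := h2 p' hp'
    have e3 : u = s' := (ρ b).injective (e1.trans e2.symm)
    rcases hs' with e4 | e4
    · exact hux (e3.trans e4)
    · exact hux' (e3.trans e4)

/-- the case of the symmetric group does not occur -/
theorem no_du [Nonempty J] (hrc : r = c) (hφ : φ = f c) : False := by
  obtain ⟨j⟩ := ‹Nonempty J›
  obtain ⟨a, ha, x, hx, x', hx', u, hu, hne, hax, hmv, hz, hux, hux', hul, hBu⟩ := h.third hD j
  have hau : ρ a u = u := hmv u hu hux hux'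
  -- `u` is not in the other duads
  have hfz : ∀ i, f u (z i) = 0 := by
    intro i
    by_cases hij : i = j
    · rw [hij, hz, map_add, hD.pair u hu x hx hux, hD.pair u hu x' hx' hux', z2_add_self]
    · obtain ⟨-, -, y, hy, y', hy', hyy, -, -, hzi, -⟩ := h.transp hD i
      -- the key
      have key : ∀ s ∈ EE Om f c c', u ≠ s → z i = u + s → False := by
        intro s hs hus e
        have h1 := h.zB i a (h.AB j ha)
        rw [e, map_add, hau] at h1
        have h2 : ρ a s = s := add_left_cancel h1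
        have hsx : s ≠ x := by
          rintro rfl
          rw [hax] at h2
          exact hne h2.symm
        have hsx' : s ≠ x' := by
          rintro rfl
          rw [← hax] at h2
          have h4 : ρ a (ρ a x) = x := by rw [← rmul, h.Asq j a ha, rone]
          exact hne ((h4.symm.trans h2).trans hax)
        have h3 := h.lz' j i hij
        have hlu : ρ (l j) u ∈ EE Om f c c' := hD.act (h.lc j) (Or.inl (h.lc' j)) hu
        have hls : ρ (l j) s ∈ EE Om f c c' := hD.act (h.lc j) (Or.inl (h.lc' j)) hs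
        rw [e, map_add] at h3
        rcases hD.indep_two hlu hls hu hs (fun e1 => hus ((ρ (l j)).injective e1)) hus h3 with ⟨e1, -⟩ | ⟨-, e1⟩
        · rcases hul with h4 | h4
          · exact hux ((ρ (l j)).injective (e1.trans h4))
          · exact hux' ((ρ (l j)).injective (e1.trans h4))
        · rcases hul with h4 | h4
          · exact hsx ((ρ (l j)).injective (e1.trans h4))
          · exact hsx' ((ρ (l j)).injective (e1.trans h4))
      by_cases e1 : u = y
      · exact (key y' hy' (fun e2 => hyy (e1.symm.trans e2)) (by rw [hzi, e1])).elim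
      by_cases e2 : u = y'
      · exact (key y hy e1 (by rw [hzi, e2, add_comm])).elim
      rw [hzi, map_add, hD.pair u hu y hy e1, hD.pair u hu y' hy' e2, z2_add_self]
  -- the transvection with centre `u`
  obtain ⟨g, hg⟩ := h.sys.trans r h.rO u hu.1
  have htv : ∀ y, ρ (g * t * g⁻¹) y = y + f u y • u := by
    intro y
    rw [rmul, rmul, h.tr, map_add, map_smul, rinv', hg, hφ]
    have h1 := hD.frm.inv g c (ρ g⁻¹ y)
    rw [rinv', ← hrc, hg] at h1
    rw [h1, hrc]
  have h1 := h.dz g (by rw [htv, hD.frm.comm, hu.2.2.1, zero_smul, add_zero])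
    (fun i => by rw [htv, hfz i, zero_smul, add_zero]) (fun b hb => by
      apply h.inj
      ext y
      have h2 := hD.frm.inv b u y
      rw [hBu b hb] at h2
      rw [rmul ρ b, rmul ρ _ b, htv, htv, map_add, map_smul, hBu b hb, h2])
  rw [htv, hD.frm.comm, hu.2.2.2, one_smul] at h1
  rcases h1 with h1 | h1
  · exact h.sys.ne_zero hu.1 (by simpa using h1)
  · rw [add_comm c c'] at h1
    exact hu.2.1 (add_left_cancel h1)

omit hD in
/-- **The transvection case of (ALPHA) on `V = N / Y`.** -/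
theorem false {w : V} (hw : ∀ t ∈ T, ρ t w = w) {j : J} (hl : ρ (l j) w = w + z j + v j) : False := by
  by_cases hc : Clo ρ Om
  · exact h.no_clo hc hw hl
  · obtain ⟨f, hD, h1, h2⟩ := h.duad hc
    have : Nonempty J := ⟨j⟩
    exact h.no_du hD h1 h2

end VL

end Cfsg.Agent.Omega.NO3S.EMany.Tv
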