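import Cfsg.Agent.Omega.NO3S.EMany.Base
import Cfsg.Agent.Omega.NO3S.EMany.TvD

/-!
# NO-3S, case (E), `k ≥ 3`, `q = 2`, the transvection case of (ALPHA), V: the quotient `V = U / Y`

* `qr`, `rr` : the representations on a quotient and on a submodule;
* `TB` : a transvection `t` on `U` in a normal subgroup `K` with `Y = C_U(K)`, `U / Y` irreducible;
* `TB.sysV`, `TB.sysW` : the centres form a system on `U / Y` and on `W = ⟨r^X⟩`;
* **`TB.injOn`** : different centres are different modulo `Y`.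
-/

set_option autoImplicit false

namespace Cfsg.Agent.Omega.NO3S.EMany.Tv

open Module Subgroup Cfsg.Agent.Omega.TV Cfsg.Agent.Omega.TV.Sys Cfsg.Agent.Omega.NO3S.EMany

variable {X : Type*} [Group X] {U : Type*} [AddCommGroup U] [Module (ZMod 2) U] {ρ : X →* (U ≃ₗ[ZMod 2] U)}

theorem map_eq {Y : Submodule (ZMod 2) U} (hY : Inv ρ Y) (g : X) :
    Y.map ((ρ g : U ≃ₗ[ZMod 2] U) : U →ₗ[ZMod 2] U) = Y := by
  refine le_antisymm ?_ ?_
  · rintro _ ⟨y, hy, rfl⟩
    exact hY g y hy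
  · intro y hy
    exact ⟨ρ g⁻¹ y, hY _ y hy, rinv' ρ g y⟩

/-- the representation on the quotient -/
def qr (ρ : X →* (U ≃ₗ[ZMod 2] U)) (Y : Submodule (ZMod 2) U) (hY : Inv ρ Y) :
    X →* ((U ⧸ Y) ≃ₗ[ZMod 2] (U ⧸ Y)) where
  toFun g := Submodule.Quotient.equiv Y Y (ρ g) (map_eq hY g)
  map_one' := by
    apply LinearEquiv.ext
    intro x
    obtain ⟨n, rfl⟩ := Submodule.Quotient.mk_surjective _ x
    show (Submodule.Quotient.mk (ρ 1 n) : U ⧸ Y) = Submodule.Quotient.mk n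
    rw [rone]
  map_mul' := by
    intro g g'
    apply LinearEquiv.ext
    intro x
    obtain ⟨n, rfl⟩ := Submodule.Quotient.mk_surjective _ x
    show (Submodule.Quotient.mk (ρ (g * g') n) : U ⧸ Y) = Submodule.Quotient.mk (ρ g (ρ g' n))
    rw [rmul]

theorem qr_mk {Y : Submodule (ZMod 2) U} (hY : Inv ρ Y) (g : X) (u : U) :
    qr ρ Y hY g (Y.mkQ u) = Y.mkQ (ρ g u) := rfl

/-- the representation on a submodule -/
def rr (ρ : X →* (U ≃ₗ[ZMod 2] U)) (W : Submodule (ZMod 2) U) (hW : Inv ρ W) : X →* (W ≃ₗ[ZMod 2] W) where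
  toFun g :=
    { toFun := fun w => ⟨ρ g w, hW g w w.2⟩
      map_add' := fun a b => Subtype.ext (map_add (ρ g) (a : U) b)
      map_smul' := fun a b => Subtype.ext (map_smul (ρ g) a (b : U))
      invFun := fun w => ⟨ρ g⁻¹ w, hW g⁻¹ w w.2⟩
      left_inv := fun w => Subtype.ext (rinv ρ g (w : U))
      right_inv := fun w => Subtype.ext (rinv' ρ g (w : U)) }
  map_one' := by
    ext w
    exact rone ρ (w : U)
  map_mul' := by
    intro g g'
    ext w
    exact rmul ρ g g' (w : U)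

theorem rr_coe {W : Submodule (ZMod 2) U} (hW : Inv ρ W) (g : X) (w : W) : ((rr ρ W hW g w : W) : U) = ρ g w := rfl

/-- a transvection `t` in the normal subgroup `K` -/
structure TB (ρ : X →* (U ≃ₗ[ZMod 2] U)) (K : Subgroup X) (Y : Submodule (ZMod 2) U) (c : U) (t : X) (r : U)
    (φ : Dual (ZMod 2) U) : Prop where
  inj : Function.Injective ρ
  o2K : ∀ R : Subgroup X, R.Normal → R ≤ K → (∀ x ∈ R, x * x = 1) → R = ⊥
  nK : K.Normal
  iY : Inv ρ Y
  YK : ∀ k ∈ K, ∀ y ∈ Y, ρ k y = y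
  sub : ∀ W : Submodule (ZMod 2) U, Inv ρ W → c ∉ W → W ≤ Y
  cY : c ∉ Y
  top : orb ρ c ⊔ Y = ⊤
  tK : t ∈ K
  t1 : t ≠ 1
  fr : φ r = 0
  tr : ∀ u, ρ t u = u + φ u • r

namespace TB

variable {K : Subgroup X} {Y : Submodule (ZMod 2) U} {c : U} {t : X} {r : U} {φ : Dual (ZMod 2) U}
  (h : TB ρ K Y c t r φ)

include h

/-- elements of `K` which are trivial on `U / Y` -/
theorem eq_one_of_quo {k : X} (hk : k ∈ K) (hq : ∀ u, ρ k u + u ∈ Y) : k = 1 := by
  let R : Subgroup X :=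
    { carrier := {x | x ∈ K ∧ ∀ u, ρ x u + u ∈ Y}
      one_mem' := ⟨one_mem _, fun u => by rw [rone, v_add_self]; exact zero_mem _⟩
      mul_mem' := by
        rintro x y ⟨hx, hx'⟩ ⟨hy, hy'⟩
        refine ⟨mul_mem hx hy, fun u => ?_⟩
        have h1 := add_mem (hx' (ρ y u)) (hy' u)
        rw [add_assoc, self_add_add, ← rmul] at h1
        exact h1
      inv_mem' := by
        rintro x ⟨hx, hx'⟩
        refine ⟨inv_mem hx, fun u => ?_⟩
        have h1 := hx' (ρ x⁻¹ u)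
        rwa [rinv', add_comm] at h1 }
  have hR : R = ⊥ := by
    refine h.o2K R ⟨?_⟩ (fun x hx => hx.1) ?_
    · rintro x ⟨hx, hx'⟩ g
      refine ⟨h.nK.conj_mem x hx g, fun u => ?_⟩
      have h1 := h.iY g _ (hx' (ρ g⁻¹ u))
      rw [map_add, rinv', ← rmul, ← rmul] at h1
      exact h1
    · rintro x ⟨hx, hx'⟩
      apply h.inj
      ext u
      have h1 := h.YK x hx _ (hx' u)
      rw [map_add] at h1
      have h2 : ρ x (ρ x u) = u := by
        have h3 := add_right_cancel (h1.trans (add_comm _ _))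
        exact h3
      rw [rmul, rone, h2]
  have h1 : k ∈ R := ⟨hk, hq⟩
  rw [hR] at h1
  exact mem_bot.1 h1

theorem r0 : r ≠ 0 := by
  rintro rfl
  apply h.t1
  apply h.inj
  ext u
  rw [rone, h.tr, smul_zero, add_zero]

theorem f0 : φ ≠ 0 := by
  rintro rfl
  apply h.t1
  apply h.inj
  ext u
  rw [rone, h.tr, LinearMap.zero_apply, zero_smul, add_zero]

theorem rY : r ∉ Y := by
  intro hr
  refine h.t1 (h.eq_one_of_quo h.tK fun u => ?_)
  rw [h.tr, add_comm u, add_add_self]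
  exact Y.smul_mem _ hr

theorem fY {y : U} (hy : y ∈ Y) : φ y = 0 := by
  have h1 := h.YK t h.tK y hy
  rw [h.tr] at h1
  have h2 : φ y • r = 0 := by simpa using h1
  exact (smul_eq_zero.1 h2).resolve_right h.r0

theorem tconj (g : X) (u : U) : ρ (g * t * g⁻¹) u = u + φ (ρ g⁻¹ u) • ρ g r := by
  rw [rmul, rmul, h.tr, map_add, map_smul, rinv']

theorem rxY (g : X) : ρ g r ∉ Y := by
  intro h1
  apply h.rY
  have h2 := h.iY g⁻¹ _ h1
  rwa [rinv] at h2

theorem supY : orb ρ r ⊔ Y = ⊤ := by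
  by_cases hc : c ∈ orb ρ r ⊔ Y
  · rw [eq_top_iff, ← h.top]
    exact sup_le (orb_le ((inv_orb ρ r).sup h.iY) hc) le_sup_right
  · exact absurd (h.sub _ ((inv_orb ρ r).sup h.iY) hc (Submodule.mem_sup_left (self_mem_orb ρ r))) h.rY

/-- invariant submodules of `U / Y` -/
theorem irr {W : Submodule (ZMod 2) (U ⧸ Y)} (hW : ∀ g, ∀ w ∈ W, qr ρ Y h.iY g w ∈ W) : W = ⊥ ∨ W = ⊤ := by
  have hinv : Inv ρ (W.comap Y.mkQ) := fun g u hu => by
    show Y.mkQ (ρ g u) ∈ W
    rw [← qr_mk h.iY]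
    exact hW g _ hu
  have hYW : Y ≤ W.comap Y.mkQ := fun y hy => by
    show Y.mkQ y ∈ W
    rw [Submodule.mkQ_apply, (Submodule.Quotient.mk_eq_zero Y).2 hy]
    exact zero_mem _
  by_cases hc : c ∈ W.comap Y.mkQ
  · right
    rw [eq_top_iff]
    intro w _
    obtain ⟨u, rfl⟩ := Submodule.mkQ_surjective Y w
    have h1 : u ∈ orb ρ c ⊔ Y := by rw [h.top]; trivial
    exact (sup_le (orb_le hinv hc) hYW) h1
  · left
    rw [eq_bot_iff]
    intro w hw
    obtain ⟨u, rfl⟩ := Submodule.mkQ_surjective Y w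
    exact (Submodule.mem_bot _).2 ((Submodule.Quotient.mk_eq_zero Y).2 (h.sub _ hinv hc hw))

omit [Group X] h in
theorem mk_eq {u u' : U} : Y.mkQ u = Y.mkQ u' ↔ u + u' ∈ Y := by
  rw [Submodule.mkQ_apply, Submodule.mkQ_apply, Submodule.Quotient.eq]
  have e : u - u' = u + u' := by rw [sub_eq_add_neg, ZModModule.neg_eq_self]
  rw [e]

/-- the functional on the quotient -/
def fq : Dual (ZMod 2) (U ⧸ Y) := Y.liftQ φ fun _ hy => h.fY hy

theorem fq_mk (u : U) : h.fq (Y.mkQ u) = φ u := rfl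

/-- the system on `U / Y` -/
theorem sysV : Sys (qr ρ Y h.iY) (Y.mkQ '' {x | ∃ g, ρ g r = x}) where
  zero := by
    rintro ⟨_, ⟨g, rfl⟩, e⟩
    exact h.rxY g ((Submodule.Quotient.mk_eq_zero Y).1 e)
  inv := by
    rintro g _ ⟨_, ⟨g', rfl⟩, rfl⟩
    exact ⟨ρ (g * g') r, ⟨g * g', rfl⟩, by rw [rmul, qr_mk h.iY]⟩
  trans := by
    rintro _ ⟨_, ⟨g, rfl⟩, rfl⟩ _ ⟨_, ⟨g', rfl⟩, rfl⟩
    refine ⟨g' * g⁻¹, ?_⟩
    rw [qr_mk h.iY, rmul, rinv]
  span := by
    rw [← Submodule.map_span, eq_top_iff]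
    rintro w -
    obtain ⟨u, rfl⟩ := Submodule.mkQ_surjective Y w
    have h1 : u ∈ orb ρ r ⊔ Y := by rw [h.supY]; trivial
    obtain ⟨a, ha, y, hy, rfl⟩ := Submodule.mem_sup.1 h1
    refine ⟨a, ha, ?_⟩
    rw [mk_eq, self_add_add]
    exact hy
  ex := by
    refine ⟨Y.mkQ r, ⟨r, ⟨1, rone ρ r⟩, rfl⟩, h.fq, ?_, h.fr, t, ?_⟩
    · intro e
      apply h.f0
      ext u
      rw [← h.fq_mk u, e]
      rfl
    · intro w
      obtain ⟨u, rfl⟩ := Submodule.mkQ_surjective Y w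
      rw [qr_mk h.iY, h.tr, map_add, map_smul]
      rfl
  chain := by
    intro W hW g hg hg' v
    rcases h.irr hW with e | e
    · have h1 := hg' v
      rw [e, Submodule.mem_bot] at h1
      exact v_eq_of_add h1
    · exact hg v (by rw [e]; trivial)

theorem rad0V : Sys.rad (qr ρ Y h.iY) (Y.mkQ '' {x | ∃ g, ρ g r = x}) = ⊥ := by
  rcases h.irr (fun g w hw => h.sysV.rad_inv g hw) with e | e
  · exact e
  · exfalso
    obtain ⟨r', hr', φ', h1, h2⟩ := h.sysV.ex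
    apply h1
    refine LinearMap.ext fun w => ?_
    have h3 : w ∈ Sys.rad (qr ρ Y h.iY) (Y.mkQ '' {x | ∃ g, ρ g r = x}) := by rw [e]; trivial
    exact h3 r' hr' φ' h2

/-- elements commuting with all conjugates of `t` fix the centres -/
theorem fix_of_comm {g x : X} (hg : g * (x * t * x⁻¹) = x * t * x⁻¹ * g) : ρ g (ρ x r) = ρ x r := by
  obtain ⟨u, hu⟩ : ∃ u, φ u ≠ 0 := by
    by_contra hcon
    push Not at hcon
    exact h.f0 (LinearMap.ext hcon)
  have hu1 := z2_ne_zero hu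
  have h1 := congrArg (fun s => ρ s (ρ x u)) hg
  simp only [rmul ρ g, rmul ρ (x * t * x⁻¹) g] at h1
  rw [h.tconj, h.tconj, rinv, hu1, one_smul, map_add] at h1
  have h2 := add_left_cancel h1
  rcases z2 (φ (ρ x⁻¹ (ρ g (ρ x u)))) with e | e
  · rw [e, zero_smul] at h2
    exact absurd ((ρ x).map_eq_zero_iff.1 ((ρ g).map_eq_zero_iff.1 h2)) h.r0
  · rwa [e, one_smul] at h2

/-- the system on `W = ⟨r^X⟩` -/
theorem sysW : Sys (rr ρ (orb ρ r) (inv_orb ρ r)) {x | ∃ g, ρ g r = (x : U)} where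
  zero := by
    rintro ⟨g, e⟩
    exact h.r0 ((ρ g).map_eq_zero_iff.1 e)
  inv := by
    rintro g _ ⟨g', e⟩
    exact ⟨g * g', by rw [rmul, e, rr_coe]⟩
  trans := by
    rintro _ ⟨g, e⟩ _ ⟨g', e'⟩
    refine ⟨g' * g⁻¹, Subtype.ext ?_⟩
    rw [rr_coe, ← e, ← e', rmul, rinv]
  span := by
    rw [eq_top_iff]
    rintro ⟨w, hw⟩ -
    have h1 : (Submodule.span (ZMod 2) {x : orb ρ r | ∃ g, ρ g r = (x : U)}).map (orb ρ r).subtype = orb ρ r := by
      rw [Submodule.map_span]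
      refine congrArg _ ?_
      ext x
      constructor
      · rintro ⟨y, ⟨g, hg⟩, rfl⟩
        exact ⟨g, hg⟩
      · rintro ⟨g, rfl⟩
        exact ⟨⟨ρ g r, mem_orb ρ r g⟩, ⟨g, rfl⟩, rfl⟩
    have hw0 := hw
    rw [← h1] at hw
    obtain ⟨x, hx, e⟩ := hw
    have e' : x = ⟨w, hw0⟩ := Subtype.ext e
    exact e' ▸ hx
  ex := by
    refine ⟨⟨r, self_mem_orb ρ r⟩, ⟨1, rone ρ r⟩, φ ∘ₗ (orb ρ r).subtype, ?_, h.fr, t, ?_⟩
    · intro e
      apply h.f0
      ext u
      have h1 : u ∈ orb ρ r ⊔ Y := by rw [h.supY]; trivial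
      obtain ⟨a, ha, y, hy, rfl⟩ := Submodule.mem_sup.1 h1
      rw [map_add, h.fY hy, add_zero]
      exact LinearMap.congr_fun e ⟨a, ha⟩
    · intro w
      exact Subtype.ext (h.tr w)
  chain := by
    intro W hW g hg hg' v
    -- the elements acting trivially on the chain
    let F : Subgroup X :=
      { carrier := {g | (∀ u ∈ W, rr ρ _ (inv_orb ρ r) g u = u) ∧ ∀ v, rr ρ _ (inv_orb ρ r) g v + v ∈ W}
        one_mem' := ⟨fun u _ => rone _ u, fun v => by rw [rone, v_add_self]; exact W.zero_mem⟩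
        mul_mem' := by
          rintro a b ⟨ha, ha'⟩ ⟨hb, hb'⟩
          refine ⟨fun u hu => by rw [rmul, hb u hu, ha u hu], fun v => ?_⟩
          have h1 := add_mem (ha' (rr ρ _ (inv_orb ρ r) b v)) (hb' v)
          rw [add_assoc, self_add_add, ← rmul] at h1
          exact h1
        inv_mem' := by
          rintro a ⟨ha, ha'⟩
          refine ⟨fun u hu => ?_, fun v => ?_⟩
          · have h1 := rinv (rr ρ _ (inv_orb ρ r)) a u
            rwa [ha u hu] at h1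
          · have h1 := ha' (rr ρ _ (inv_orb ρ r) a⁻¹ v)
            rwa [rinv', add_comm] at h1 }
    have hF : F.Normal := by
      constructor
      rintro a ⟨ha, ha'⟩ b
      refine ⟨fun u hu => ?_, fun v => ?_⟩
      · rw [rmul, rmul, ha _ (hW _ u hu), rinv']
      · have h1 := hW b _ (ha' (rr ρ _ (inv_orb ρ r) b⁻¹ v))
        rw [map_add, rinv', ← rmul, ← rmul] at h1
        exact h1
    have hKF : F ⊓ K = ⊥ := by
      have hK := h.nK
      refine h.o2K _ inferInstance inf_le_right ?_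
      rintro x ⟨⟨hx1, hx2⟩, hx3⟩
      apply h.inj
      ext u
      have h1 : u ∈ orb ρ r ⊔ Y := by rw [h.supY]; trivial
      obtain ⟨a, ha, y, hy, rfl⟩ := Submodule.mem_sup.1 h1
      have h2 := hx1 _ (hx2 ⟨a, ha⟩)
      rw [map_add] at h2
      have h3 := congrArg Subtype.val (add_right_cancel (h2.trans (add_comm _ _)))
      rw [rr_coe, rr_coe] at h3
      rw [rmul, rone, map_add, map_add, h.YK x hx3 y hy, h.YK x hx3 y hy, h3]
    have hgF : g ∈ F := ⟨hg, hg'⟩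
    have key : ∀ x, g * (x * t * x⁻¹) = x * t * x⁻¹ * g := by
      intro x
      set s := x * t * x⁻¹ with hs
      have hsK : s ∈ K := h.nK.conj_mem t h.tK x
      have h1 : g * s * g⁻¹ * s⁻¹ ∈ F ⊓ K := by
        constructor
        · have e : g * s * g⁻¹ * s⁻¹ = g * (s * g⁻¹ * s⁻¹) := by group
          rw [e]
          exact F.mul_mem hgF (hF.conj_mem _ (F.inv_mem hgF) s)
        · exact K.mul_mem (h.nK.conj_mem s hsK g) (K.inv_mem hsK)
      rw [hKF, mem_bot, mul_inv_eq_one, mul_inv_eq_iff_eq_mul] at h1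
      exact h1
    have h2 : orb ρ r ≤ cu ρ {g} := by
      refine Submodule.span_le.2 ?_
      rintro _ ⟨x, rfl⟩ a ha
      rw [Set.mem_singleton_iff.1 ha]
      exact h.fix_of_comm (key x)
    exact Subtype.ext (h2 v.2 g rfl)

/-- **Different centres are different modulo `Y`.** -/
theorem injOn [Finite U] {g g' : X} (he : ρ g r + ρ g' r ∈ Y) : ρ g r = ρ g' r := by
  have hs := h.sysW
  set W := orb ρ r with hWdef
  let x : W := ⟨ρ g r, mem_orb ρ r g⟩
  let x' : W := ⟨ρ g' r, mem_orb ρ r g'⟩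
  have hx : x ∈ {x : W | ∃ g, ρ g r = (x : U)} := ⟨g, rfl⟩
  have hx' : x' ∈ {x : W | ∃ g, ρ g r = (x : U)} := ⟨g', rfl⟩
  have hrad : ∀ s ∈ {x : W | ∃ g, ρ g r = (x : U)}, ∀ κ, Fn (rr ρ W (inv_orb ρ r)) s κ → κ (x + x') = 0 := by
    rintro s ⟨a, ha⟩ κ ⟨-, g0, hg0⟩
    refine z2_ne_one fun e => h.rxY a ?_
    have h1 := congrArg Subtype.val (hg0 (x + x'))
    rw [e, one_smul, rr_coe] at h1
    have h2 := h.iY g0 _ he
    change ρ g0 (ρ g r + ρ g' r) = (ρ g r + ρ g' r) + (s : U) at h1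
    rw [h1] at h2
    have h3 := add_mem he h2
    rw [self_add_add, ← ha] at h3
    exact h3
  suffices h0 : x + x' = 0 by
    have h1 := congrArg Subtype.val h0
    exact v_eq_of_add h1
  rcases hs.small_or_big with hsm | hb
  · obtain ⟨f, hf⟩ := hs.exists_form hsm
    have hff : f x = f x' := by
      have h1 : f (x + x') = 0 := hs.eq_zero_of fun s hs' => by
        rw [hf.comm]
        exact hrad s hs' _ (hf.fn s hs')
      rw [map_add] at h1
      exact v_eq_of_add h1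
    -- the functionals of the conjugates of `t`
    have key : ∀ (a : X), ∀ w : W, φ (ρ a⁻¹ w) = f ⟨ρ a r, mem_orb ρ r a⟩ w := by
      intro a w
      set κ : Dual (ZMod 2) W := (φ ∘ₗ ((ρ a⁻¹ : U ≃ₗ[ZMod 2] U) : U →ₗ[ZMod 2] U)) ∘ₗ W.subtype with hκ
      have h1 : Fn (rr ρ W (inv_orb ρ r)) ⟨ρ a r, mem_orb ρ r a⟩ κ := by
        refine ⟨?_, a * t * a⁻¹, fun w => Subtype.ext ?_⟩
        · show φ (ρ a⁻¹ (ρ a r)) = 0
          rw [rinv, h.fr]
        · exact h.tconj a w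
      have h2 : κ ≠ 0 := by
        obtain ⟨s, ⟨b, hb⟩, hs1⟩ : ∃ s ∈ {x : W | ∃ g, ρ g r = (x : U)}, (φ ∘ₗ W.subtype) s = 1 := by
          refine hs.exists_one fun e => h.f0 ?_
          ext u
          have h3 : u ∈ orb ρ r ⊔ Y := by rw [h.supY]; trivial
          obtain ⟨a, ha, y, hy, rfl⟩ := Submodule.mem_sup.1 h3
          rw [map_add, h.fY hy, add_zero]
          exact LinearMap.congr_fun e ⟨a, ha⟩
        intro e
        have h3 := LinearMap.congr_fun e ⟨ρ a s, inv_orb ρ r a s s.2⟩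
        have h4 : φ (ρ a⁻¹ (ρ a s)) = 0 := h3
        rw [rinv] at h4
        have h5 : φ s = 1 := hs1
        rw [h4] at h5
        exact zero_ne_one h5
      have h3 := hf.uniq _ ⟨a, rfl⟩ κ h2 h1
      exact LinearMap.congr_fun h3 w
    have hk : g * t * g⁻¹ * (g' * t * g'⁻¹) = 1 := by
      refine h.eq_one_of_quo (mul_mem (h.nK.conj_mem t h.tK g) (h.nK.conj_mem t h.tK g')) fun u => ?_
      have h3 : u ∈ orb ρ r ⊔ Y := by rw [h.supY]; trivial
      obtain ⟨w, hw, y, hy, rfl⟩ := Submodule.mem_sup.1 h3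
      have e1 : ρ (g * t * g⁻¹ * (g' * t * g'⁻¹)) y = y :=
        h.YK _ (mul_mem (h.nK.conj_mem t h.tK g) (h.nK.conj_mem t h.tK g')) y hy
      have e2 : φ (ρ g⁻¹ (ρ g' r)) = 0 := by
        have := key g x'
        change φ (ρ g⁻¹ (ρ g' r)) = f x x' at this
        rw [this, hff, hf.alt]
      have e3 : φ (ρ g⁻¹ w) = φ (ρ g'⁻¹ w) := by
        have a1 := key g ⟨w, hw⟩
        have a2 := key g' ⟨w, hw⟩
        change φ (ρ g⁻¹ w) = f x ⟨w, hw⟩ at a1
        change φ (ρ g'⁻¹ w) = f x' ⟨w, hw⟩ at a2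
        rw [a1, a2, hff]
      have e4 : ρ (g * t * g⁻¹ * (g' * t * g'⁻¹)) w = w + φ (ρ g'⁻¹ w) • (ρ g r + ρ g' r) := by
        rw [rmul ρ (g * t * g⁻¹), h.tconj g', h.tconj g, map_add (ρ g⁻¹), map_smul (ρ g⁻¹), map_add φ, map_smul φ, e2,
          smul_zero, add_zero, e3, smul_add]
        abel
      rw [map_add, e1, e4]
      have e5 : w + φ (ρ g'⁻¹ w) • (ρ g r + ρ g' r) + y + (w + y) = φ (ρ g'⁻¹ w) • (ρ g r + ρ g' r) := by
        calc w + φ (ρ g'⁻¹ w) • (ρ g r + ρ g' r) + y + (w + y)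
            = φ (ρ g'⁻¹ w) • (ρ g r + ρ g' r) + ((w + w) + (y + y)) := by abel
          _ = _ := by rw [v_add_self, v_add_self, add_zero, add_zero]
      rw [e5]
      exact Y.smul_mem _ he
    have e2 : φ (ρ g⁻¹ (ρ g' r)) = 0 := by
      have := key g x'
      change φ (ρ g⁻¹ (ρ g' r)) = f x x' at this
      rw [this, hff, hf.alt]
    obtain ⟨s, hs1, hs2⟩ := hs.exists_one (hf.ne x hx)
    have a1 : φ (ρ g⁻¹ s) = 1 := by
      have := key g s
      change φ (ρ g⁻¹ s) = f x s at this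
      rw [this, hs2]
    have a2 : φ (ρ g'⁻¹ s) = 1 := by
      have := key g' s
      change φ (ρ g'⁻¹ s) = f x' s at this
      rw [this, ← hff, hs2]
    have h5 := congrArg (fun k => ρ k (s : U)) hk
    simp only [rone] at h5
    rw [rmul ρ (g * t * g⁻¹), h.tconj g', h.tconj g, map_add (ρ g⁻¹), map_smul (ρ g⁻¹), map_add φ, map_smul φ, e2,
      smul_zero, add_zero, a1, a2, one_smul, one_smul, add_assoc] at h5
    have h6 : ρ g' r + ρ g r = 0 := by
      have : (s : U) + (ρ g' r + ρ g r) = s + 0 := by rw [h5, add_zero]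
      exact add_left_cancel this
    exact Subtype.ext (by
      change ρ g r + ρ g' r = 0
      rw [add_comm, h6])
  · have h1 := hs.rad_eq_bot_of fun b hb' d hd hn hbd =>
      add_comm d b ▸ hs.add_mem hd (hs.adj_of_near hb hb' hd hbd hn)
    have h2 : x + x' ∈ Sys.rad (rr ρ W (inv_orb ρ r)) {x : W | ∃ g, ρ g r = (x : U)} := hrad
    rw [h1] at h2
    exact h2

end TB

end Cfsg.Agent.Omega.NO3S.EMany.Tv
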