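import Cfsg.Agent.Omega.NO3S.EMany.TvE

/-!
# NO-3S, case (E), `k ≥ 3`, `q = 2`, the transvection case of (ALPHA), VI: on `U`

* `Sys.toRange` : a system for the image group;
* `UL` : the setting on `U`;
* `UL.toVL`, **`UL.false`** : the transvection case of (ALPHA).
-/

set_option autoImplicit false

namespace Cfsg.Agent.Omega.NO3S.EMany.Tv

open Module Subgroup Cfsg.Agent.Omega.TV Cfsg.Agent.Omega.TV.Sys Cfsg.Agent.Omega.NO3S.EMany

section range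

variable {X : Type*} [Group X] {V : Type*} [AddCommGroup V] [Module (ZMod 2) V] {σ : X →* (V ≃ₗ[ZMod 2] V)}
  {Om : Set V}

theorem fn_range {r : V} {φ : Dual (ZMod 2) V} : Fn σ.range.subtype r φ ↔ Fn σ r φ := by
  constructor
  · rintro ⟨h1, ⟨-, g, rfl⟩, h2⟩
    exact ⟨h1, g, h2⟩
  · rintro ⟨h1, g, h2⟩
    exact ⟨h1, σ.rangeRestrict g, h2⟩

theorem toRange (h : Sys σ Om) : Sys σ.range.subtype Om where
  zero := h.zero
  inv := by
    rintro ⟨-, g, rfl⟩ r hr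
    exact h.inv g r hr
  trans := by
    intro r hr s hs
    obtain ⟨g, hg⟩ := h.trans r hr s hs
    exact ⟨σ.rangeRestrict g, hg⟩
  span := h.span
  ex := by
    obtain ⟨r, hr, φ, h1, h2⟩ := h.ex
    exact ⟨r, hr, φ, h1, fn_range.2 h2⟩
  chain := by
    rintro U hU ⟨-, g, rfl⟩ h1 h2
    exact h.chain U (fun g u hu => hU (σ.rangeRestrict g) u hu) g h1 h2

theorem rad_range : Sys.rad σ.range.subtype Om = Sys.rad σ Om := by
  ext x
  constructor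
  · intro hx r hr φ hφ
    exact hx r hr φ (fn_range.2 hφ)
  · intro hx r hr φ hφ
    exact hx r hr φ (fn_range.1 hφ)

end range

variable {X : Type*} [Group X] {U : Type*} [AddCommGroup U] [Module (ZMod 2) U] {ρ : X →* (U ≃ₗ[ZMod 2] U)}

/-- **The setting on `U`**: `X = H₁ / C(U)`, `K = K̂`, `Y = C_U(K̂)`, `t ∈ Q = O₂(C_X(c))` a transvection on `U`. -/
structure UL (ρ : X →* (U ≃ₗ[ZMod 2] U)) (K : Subgroup X) (Y : Submodule (ZMod 2) U) (T Q B : Subgroup X)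
    (c c' : U) (t : X) (r : U) (φ : Dual (ZMod 2) U) {I : Type*} (z v : I → U) (A : I → Subgroup X) (l : I → X) :
    Prop extends TB ρ K Y c t r φ where
  two : IsPGroup 2 T
  odd : ¬ 2 ∣ T.index
  fixc : ∀ t ∈ T, ρ t c = c
  fixc' : ∀ t ∈ T, ρ t c' = c' ∨ ρ t c' = c + c'
  QT : Q ≤ T
  nQ : ∀ x, ρ x c = c → ∀ q ∈ Q, x * q * x⁻¹ ∈ Q
  stab : ∀ x, ρ x c + c ∈ Y → ρ x c = c
  oc : ∃ g, ρ g c = c'
  oc' : ∃ g, ρ g c = c + c'
  RM : ∀ R : Subgroup X, R.Normal → (∃ r ∈ R, ρ r c ≠ c) → ∀ x, ∃ r ∈ R, ∃ m, ρ m c = c ∧ x = r * m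
  tQ : t ∈ Q
  BT : B ≤ T
  zB : ∀ i, ∀ b ∈ B, ρ b (z i) = z i
  vB : ∀ i, ∀ b ∈ B, ρ b (v i) = v i ∨ ρ b (v i) = v i + z i
  AB : ∀ i, A i ≤ B
  Asq : ∀ i, ∀ a ∈ A i, a * a = 1
  Acomm : ∀ i, ∀ a ∈ A i, ∀ b ∈ A i, a * b = b * a
  Ac' : ∀ i, ∀ a ∈ A i, ρ a c' = c'
  Av : ∀ i, ∃ a ∈ A i, ρ a (v i) = v i + z i
  lc : ∀ i, ρ (l i) c = c
  lc' : ∀ i, ρ (l i) c' = c'
  lz : ∀ i, ρ (l i) (z i) = v i
  lz' : ∀ j i, i ≠ j → ρ (l j) (z i) = z i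
  off : ∀ i, ∀ a ∈ A i, ∀ B' ≤ A i, a ∉ B' → (∀ x ∈ A i, x ∈ B' ∨ a * x ∈ B') → ∀ n n' : U,
    (∀ b ∈ B', ρ b n = n) → (∀ b ∈ B', ρ b n' = n') → ρ a n = n ∨ ρ a n' = n' ∨ ρ a (n + n') = n + n'
  min : ∀ i, ∀ a ∈ A i, ∀ B' ≤ A i, a ∉ B' → (∀ x ∈ A i, x ∈ B' ∨ a * x ∈ B') → (∃ b ∈ B', ρ b (v i) ≠ v i) →
    ∀ n : U, (∀ b ∈ B', ρ b n = n) → ρ a n = n
  syl : ∀ g, g * g = 1 → ρ g c = c → (∀ i, ρ g (z i) = z i) → (∀ b ∈ B, b * g = g * b) → g ∈ B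

namespace UL

variable [Finite U] [Finite X] {K : Subgroup X} {Y : Submodule (ZMod 2) U} {T Q B : Subgroup X} {c c' : U} {t : X}
  {r : U} {φ : Dual (ZMod 2) U} {I : Type*} {z v : I → U} {A : I → Subgroup X} {l : I → X}
  (h : UL ρ K Y T Q B c c' t r φ z v A l)

include h

omit [Finite U] [Finite X] in
theorem t_sq : t * t = 1 := by
  apply h.inj
  ext u
  rw [rmul, rone, h.tr, h.tr, map_add, map_smul, h.fr, smul_zero, add_zero, add_add_self]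

omit [Finite X] in
/-- lifting of invariant sets of centres -/
theorem lift {S : Finset (U ⧸ Y)} (hS : ∀ s ∈ S, s ∈ Y.mkQ '' {x | ∃ g, ρ g r = x}) :
    ∃ n : U, Y.mkQ n = ∑ s ∈ S, s ∧ ∀ b : X, (∀ s ∈ S, qr ρ Y h.iY b s ∈ S) → ρ b n = n := by
  classical
  have := Fintype.ofFinite U
  let S' : Finset U := Finset.univ.filter fun u => (∃ g, ρ g r = u) ∧ Y.mkQ u ∈ S
  have hS' : ∀ u, u ∈ S' ↔ (∃ g, ρ g r = u) ∧ Y.mkQ u ∈ S := fun u =>
    ⟨fun e => (Finset.mem_filter.1 e).2, fun e => Finset.mem_filter.2 ⟨Finset.mem_univ _, e⟩⟩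
  refine ⟨∑ u ∈ S', u, ?_, fun b hb => ?_⟩
  · rw [map_sum]
    refine Finset.sum_bij (fun u _ => Y.mkQ u) (fun u hu => ((hS' u).1 hu).2) ?_ ?_ fun u _ => rfl
    · rintro u hu u' hu' e
      obtain ⟨⟨g, rfl⟩, -⟩ := (hS' u).1 hu
      obtain ⟨⟨g', rfl⟩, -⟩ := (hS' u').1 hu'
      exact h.injOn (TB.mk_eq.1 e)
    · intro s hs
      obtain ⟨u, hu, rfl⟩ := hS s hs
      exact ⟨u, (hS' u).2 ⟨hu, hs⟩, rfl⟩
  · have h2 : S'.image (fun u => ρ b u) = S' := by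
      refine Finset.eq_of_subset_of_card_le ?_ ?_
      · intro u hu
        obtain ⟨x, hx, rfl⟩ := Finset.mem_image.1 hu
        obtain ⟨⟨g, rfl⟩, h3⟩ := (hS' x).1 hx
        exact (hS' _).2 ⟨⟨b * g, rmul ρ b g r⟩, hb _ h3⟩
      · rw [Finset.card_image_of_injective _ (ρ b).injective]
    rw [map_sum]
    conv_rhs => rw [← h2]
    rw [Finset.sum_image (f := fun u => u) (g := fun u => ρ b u) fun a _ b' _ hab => (ρ b).injective hab]

omit [Finite U] [Finite X] in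
/-- conjugates of `t` -/
theorem fix_of_quo {g : X} {u : U} (hu : Y.mkQ (ρ (g * t * g⁻¹) u) = Y.mkQ u) : ρ (g * t * g⁻¹) u = u := by
  have h1 := TB.mk_eq.1 hu
  rw [h.tconj, add_comm u, add_add_self] at h1
  rw [h.tconj]
  rcases z2 (φ (ρ g⁻¹ u)) with e | e
  · rw [e, zero_smul, add_zero]
  · rw [e, one_smul] at h1
    exact absurd h1 (h.rxY g)

/-- the setting on `U / Y` -/
theorem toVL : VL (qr ρ Y h.iY).range.subtype (Y.mkQ '' {x | ∃ g, ρ g r = x}) (T.map (qr ρ Y h.iY).rangeRestrict)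
    (Q.map (qr ρ Y h.iY).rangeRestrict) (B.map (qr ρ Y h.iY).rangeRestrict) (Y.mkQ c) (Y.mkQ c')
    ((qr ρ Y h.iY).rangeRestrict t) (Y.mkQ r) h.fq (J := {i // z i ∉ Y}) (fun i => Y.mkQ (z i))
    (fun i => Y.mkQ (v i)) (fun i => (A i).map (qr ρ Y h.iY).rangeRestrict)
    (fun i => (qr ρ Y h.iY).rangeRestrict (l i)) where
  inj := Subtype.val_injective
  sys := toRange h.sysV
  rad0 := by rw [rad_range, h.rad0V]
  two := h.two.map _
  odd := fun hd => h.odd (hd.trans (index_map_dvd _ (MonoidHom.rangeRestrict_surjective _)))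
  c0 := fun e => h.cY ((Submodule.Quotient.mk_eq_zero Y).1 e)
  fixc := by
    rintro _ ⟨s, hs, rfl⟩
    exact congrArg Y.mkQ (h.fixc s hs)
  fixc' := by
    rintro _ ⟨s, hs, rfl⟩
    rcases h.fixc' s hs with e | e
    · exact Or.inl (congrArg Y.mkQ e)
    · exact Or.inr (congrArg Y.mkQ e)
  QT := map_mono h.QT
  nQ := by
    rintro ⟨-, g, rfl⟩ hg _ ⟨q, hq, rfl⟩
    exact ⟨g * q * g⁻¹, h.nQ g (h.stab g (TB.mk_eq.1 hg)) q hq, by
      rw [map_mul, map_mul, map_inv]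
      rfl⟩
  oc := by
    obtain ⟨g, hg⟩ := h.oc
    exact ⟨(qr ρ Y h.iY).rangeRestrict g, congrArg Y.mkQ hg⟩
  oc' := by
    obtain ⟨g, hg⟩ := h.oc'
    exact ⟨(qr ρ Y h.iY).rangeRestrict g, congrArg Y.mkQ hg⟩
  RM := by
    rintro R hR ⟨⟨-, a, rfl⟩, ha, hac⟩ ⟨-, x, rfl⟩
    obtain ⟨r', hr', m, hm, rfl⟩ := h.RM (R.comap (qr ρ Y h.iY).rangeRestrict) (hR.comap _)
      ⟨a, ha, fun e => hac (congrArg Y.mkQ e)⟩ x
    exact ⟨_, hr', (qr ρ Y h.iY).rangeRestrict m, congrArg Y.mkQ hm, map_mul (qr ρ Y h.iY).rangeRestrict r' m⟩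
  tQ := ⟨t, h.tQ, rfl⟩
  rO := ⟨r, ⟨1, rone ρ r⟩, rfl⟩
  f0 := by
    intro e
    apply h.f0
    ext u
    rw [← h.fq_mk u, e]
    rfl
  fr := h.fr
  tr := by
    intro w
    obtain ⟨u, rfl⟩ := Submodule.mkQ_surjective Y w
    show Y.mkQ (ρ t u) = Y.mkQ u + h.fq (Y.mkQ u) • Y.mkQ r
    rw [h.tr, map_add, map_smul]
    rfl
  BT := map_mono h.BT
  zB := by
    rintro ⟨i, hi⟩ _ ⟨b, hb, rfl⟩
    exact congrArg Y.mkQ (h.zB i b hb)
  vB := by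
    rintro ⟨i, hi⟩ _ ⟨b, hb, rfl⟩
    rcases h.vB i b hb with e | e
    · exact Or.inl (congrArg Y.mkQ e)
    · exact Or.inr (congrArg Y.mkQ e)
  AB := fun i => map_mono (h.AB i)
  Asq := by
    rintro ⟨i, hi⟩ _ ⟨a, ha, rfl⟩
    rw [← map_mul, h.Asq i a ha, map_one]
  Acomm := by
    rintro ⟨i, hi⟩ _ ⟨a, ha, rfl⟩ _ ⟨b, hb, rfl⟩
    rw [← map_mul, h.Acomm i a ha b hb, map_mul]
  Ac' := by
    rintro ⟨i, hi⟩ _ ⟨a, ha, rfl⟩
    exact congrArg Y.mkQ (h.Ac' i a ha)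
  Av := by
    rintro ⟨i, hi⟩
    obtain ⟨a, ha, e⟩ := h.Av i
    refine ⟨_, ⟨a, ha, rfl⟩, fun e' => hi ?_⟩
    have h1 : Y.mkQ (ρ a (v i)) = Y.mkQ (v i) := e'
    rw [e] at h1
    have h2 := TB.mk_eq.1 h1
    rwa [add_comm (v i), add_add_self] at h2
  lc := fun i => congrArg Y.mkQ (h.lc i)
  lc' := fun i => congrArg Y.mkQ (h.lc' i)
  lz := fun i => congrArg Y.mkQ (h.lz i)
  lz' := fun j i hij => congrArg Y.mkQ (h.lz' j i fun e => hij (Subtype.ext e))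
  off := by
    rintro ⟨i, hi⟩ _ ⟨a, ha, rfl⟩ B' hB' haB hall S S' hS hS' hBS hBS'
    obtain ⟨n, hn, hnf⟩ := h.lift hS
    obtain ⟨n', hn', hnf'⟩ := h.lift hS'
    have h1 := h.off i a ha (B'.comap (qr ρ Y h.iY).rangeRestrict ⊓ A i) inf_le_right (fun e => haB e.1) (by
      intro x hx
      rcases hall _ ⟨x, hx, rfl⟩ with e | e
      · exact Or.inl ⟨e, hx⟩
      · exact Or.inr ⟨by rw [← map_mul] at e; exact e, (A i).mul_mem ha hx⟩) n n'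
      (fun b hb => hnf b fun s hs => hBS _ hb.1 s hs) (fun b hb => hnf' b fun s hs => hBS' _ hb.1 s hs)
    rcases h1 with e | e | e
    · left
      rw [← hn]
      exact congrArg Y.mkQ e
    · right; left
      rw [← hn']
      exact congrArg Y.mkQ e
    · right; right
      rw [← hn, ← hn', ← map_add]
      exact congrArg Y.mkQ e
  min := by
    rintro ⟨i, hi⟩ _ ⟨a, ha, rfl⟩ B' hB' haB hall ⟨b0, hb0, hb0v⟩ S hS hBS
    obtain ⟨n, hn, hnf⟩ := h.lift hS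
    obtain ⟨b1, hb1, rfl⟩ := hB' hb0
    have h1 := h.min i a ha (B'.comap (qr ρ Y h.iY).rangeRestrict ⊓ A i) inf_le_right (fun e => haB e.1) (by
      intro x hx
      rcases hall _ ⟨x, hx, rfl⟩ with e | e
      · exact Or.inl ⟨e, hx⟩
      · exact Or.inr ⟨by rw [← map_mul] at e; exact e, (A i).mul_mem ha hx⟩)
      ⟨b1, ⟨hb0, hb1⟩, fun e => hb0v (congrArg Y.mkQ e)⟩ n (fun b hb => hnf b fun s hs => hBS _ hb.1 s hs)
    rw [← hn]
    exact congrArg Y.mkQ h1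
  dz := by
    intro x h1 h2 h3
    obtain ⟨g, rfl⟩ := (qr ρ Y h.iY).rangeRestrict_surjective x
    simp only [← map_mul, ← map_inv] at h1 h2 h3 ⊢
    have e1 : ρ (g * t * g⁻¹) c = c := h.fix_of_quo h1
    have hgK : g * t * g⁻¹ ∈ K := h.nK.conj_mem t h.tK g
    have e2 : ∀ i, ρ (g * t * g⁻¹) (z i) = z i := by
      intro i
      by_cases hi : z i ∈ Y
      · exact h.YK _ hgK _ hi
      · exact h.fix_of_quo (h2 ⟨i, hi⟩)
    have e3 : g * t * g⁻¹ * (g * t * g⁻¹) = 1 := by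
      have : g * t * g⁻¹ * (g * t * g⁻¹) = g * (t * t) * g⁻¹ := by group
      rw [this, h.t_sq, mul_one, mul_inv_cancel]
    have e4 : ∀ b ∈ B, b * (g * t * g⁻¹) = g * t * g⁻¹ * b := by
      intro b hb
      have h5 : b * (g * t * g⁻¹) * b⁻¹ * (g * t * g⁻¹)⁻¹ = 1 := by
        refine h.eq_one_of_quo (K.mul_mem (h.nK.conj_mem _ hgK b) (K.inv_mem hgK)) fun u => ?_
        have h6 := h3 _ ⟨b, hb, rfl⟩
        have h7 : qr ρ Y h.iY (b * (g * t * g⁻¹)) = qr ρ Y h.iY (g * t * g⁻¹ * b) := by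
          rw [← map_mul, ← map_mul] at h6
          exact congrArg Subtype.val h6
        have h9 : qr ρ Y h.iY (b * (g * t * g⁻¹) * b⁻¹ * (g * t * g⁻¹)⁻¹) = 1 := by
          rw [map_mul, map_mul, h7, ← map_mul, ← map_mul]
          have e0 : g * t * g⁻¹ * b * b⁻¹ * (g * t * g⁻¹)⁻¹ = 1 := by group
          rw [e0, map_one]
        apply TB.mk_eq.1
        have h10 := LinearEquiv.congr_fun h9 (Y.mkQ u)
        exact h10
      rwa [mul_inv_eq_one, mul_inv_eq_iff_eq_mul] at h5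
    have h5 := h.syl _ e3 e1 e2 e4
    rcases h.fixc' _ (h.BT h5) with e | e
    · exact Or.inl (congrArg Y.mkQ e)
    · exact Or.inr (congrArg Y.mkQ e)

/-- **The transvection case of (ALPHA).** -/
theorem false {w : U} (hw : ∀ t ∈ T, ρ t w = w) {i : I} (hi : z i ∉ Y) (hl : ρ (l i) w = w + z i + v i) : False := by
  have : Finite (qr ρ Y h.iY).range := Set.finite_range _ |>.to_subtype
  have : Finite (U ⧸ Y) := Finite.of_surjective _ (Submodule.mkQ_surjective Y)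
  exact h.toVL.false (w := Y.mkQ w) (by
    rintro _ ⟨s, hs, rfl⟩
    exact congrArg Y.mkQ (hw s hs)) (j := ⟨i, hi⟩) (by
    rw [← map_add, ← map_add]
    exact congrArg Y.mkQ hl)

end UL

end Cfsg.Agent.Omega.NO3S.EMany.Tv
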